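import Cfsg.Agent.Lib.LocalEven.Goldschmidt33.Walk

/-!
Consequences of faithfulness, and the two types of critical radius.
-/

set_option autoImplicit false

namespace CfsgLib.Goldschmidt33

variable {X : Type*} [Group X] {Pt Ln : Type*} [MulAction X Pt] [MulAction X Ln]

namespace Sys

variable (s : Sys X Pt Ln)

/-- A conjugation invariant family that is the same at collinear points is trivial. -/
theorem adj_family_eq_one (p : Pt → X → Prop)
    (hconj : ∀ P v (g : X), p P v → p (g • P) (g * v * g⁻¹))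
    (hadj : ∀ P Q L v, s.inc P L → s.inc Q L → P ≠ Q → p P v → p Q v)
    (hle : ∀ P L v, s.inc P L → p P v → v ∈ fl X P L)
    {P : Pt} {v : X} (hv : p P v) : v = 1 := by
  obtain ⟨L, hL⟩ := s.pt_line P
  have hN : Subgroup.closure {w | p P w} = ⊥ := by
    refine s.faithful hL _ ((Subgroup.closure_le _).2 fun w hw => hle P L w hL hw)
      (fun g hg n hn => ?_) fun g hg n hn => ?_
    · induction hn using Subgroup.closure_induction with
      | mem w hw =>
        refine Subgroup.subset_closure ?_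
        have := hconj P w g hw
        rwa [hg] at this
      | one => simp
      | mul a b _ _ iha ihb => simpa [mul_assoc] using Subgroup.mul_mem _ iha ihb
      | inv a _ iha => simpa [mul_assoc] using Subgroup.inv_mem _ iha
    · induction hn using Subgroup.closure_induction with
      | mem w hw =>
        refine Subgroup.subset_closure ?_
        have := hconj P w g hw
        by_cases he : g • P = P
        · rwa [he] at this
        · exact hadj _ _ L _ (s.inc_smul_right hg hL) hL he this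
      | one => simp
      | mul a b _ _ iha ihb => simpa [mul_assoc] using Subgroup.mul_mem _ iha ihb
      | inv a _ iha => simpa [mul_assoc] using Subgroup.inv_mem _ iha
  exact (Subgroup.eq_bot_iff_forall _).1 hN v (Subgroup.subset_closure hv)

/-- A non-trivial element of `Z P` moves some walk starting at `P`. -/
theorem exists_unfixed {P : Pt} {v : X} (hv : v ∈ zp X P) (hv1 : v ≠ 1) :
    ∃ (x : ℕ → Pt) (l : ℕ → Ln) (n : ℕ), s.IsW x l n ∧ x 0 = P ∧ ¬ Fix v x l n := by
  by_contra hcon
  push Not at hcon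
  refine hv1 (s.adj_family_eq_one (fun Q w => (∀ L, s.inc Q L → w ∈ fl X Q L) ∧
    ∀ (x : ℕ → Pt) (l : ℕ → Ln) (n : ℕ), s.IsW x l n → x 0 = Q → Fix w x l n)
    ?_ ?_ (fun Q L w hL hw => hw.1 L hL) (P := P)
    ⟨fun L hL => s.zp_fl hL hv, fun x l n hw h0 => hcon x l n hw h0⟩)
  · intro Q w g hw
    refine ⟨fun L hL => ?_, fun x l n hx h0 => ?_⟩
    · have h1 : s.inc Q (g⁻¹ • L) := by simpa using s.inc_smul g⁻¹ hL
      have h2 := hw.1 _ h1
      exact ⟨by show (g * w * g⁻¹) • g • Q = g • Q
                rw [mul_smul, mul_smul, inv_smul_smul, (mem_fl.1 h2).1],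
        by show (g * w * g⁻¹) • L = L
           rw [mul_smul, mul_smul, (mem_fl.1 h2).2, smul_inv_smul]⟩
    · have h1 := hw.2 _ _ n (hx.smul g⁻¹) (by simp [h0])
      exact ⟨fun i hi => by simp [mul_smul, h1.1 i hi], fun i hi => by simp [mul_smul, h1.2 i hi]⟩
  · intro Q R L w hQ hR hne hw
    have key : ∀ (x : ℕ → Pt) (l : ℕ → Ln) (n : ℕ), s.IsW x l n → x 0 = R → Fix w x l n := by
      intro x l n hx h0
      rcases Nat.eq_zero_or_pos n with rfl | hn
      · have h1 := hw.2 (pre Q x) (pre L l) 1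
          (hx.cons hQ (h0 ▸ hR) (h0 ▸ hne) (fun h => absurd h (lt_irrefl 0))) rfl
        exact ⟨fun i hi => by rw [Nat.le_zero.1 hi]; exact h1.1 1 le_rfl,
          fun i hi => absurd hi (Nat.not_lt_zero i)⟩
      by_cases hl : l 0 = L
      · by_cases hx1 : x 1 = Q
        · -- the walk passes through `Q`
          have h1 := hw.2 (fun i => x (1 + i)) (fun i => l (1 + i)) (n - 1)
            (hx.shift (by omega)) hx1
          have h2 : w • x 0 = x 0 ∧ w • l 0 = l 0 := by
            rw [h0, hl]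
            have hR' := hw.2 (pre Q fun _ => R) (fun _ => L) 1
              ⟨fun i hi => by rw [show i = 0 by omega]; exact hQ,
                fun i hi => by rw [show i = 0 by omega]; exact hR,
                fun i hi => by rw [show i = 0 by omega]; exact hne,
                fun i hi => absurd hi (by omega)⟩ rfl
            exact ⟨hR'.1 1 le_rfl, hR'.2 0 one_pos⟩
          refine ⟨fun i hi => ?_, fun i hi => ?_⟩
          · rcases i with _ | i
            · exact h2.1
            · simpa [Nat.add_comm 1] using h1.1 i (by omega)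
          · rcases i with _ | i
            · exact h2.2
            · simpa [Nat.add_comm 1] using h1.2 i (by omega)
        · -- replace the start
          have hsh : s.IsW (fun i => x (1 + i)) (fun i => l (1 + i)) (n - 1) := hx.shift (by omega)
          have hx1L : s.inc (x 1) L := hl ▸ hx.inr 0 hn
          have h1 := hw.2 _ _ (n - 1 + 1) (hsh.cons hQ hx1L (Ne.symm hx1) fun h => by
            rw [← hl]; exact hx.lne 0 (by omega)) rfl
          have h2 : w • x 0 = x 0 := by
            rw [h0]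
            exact (mem_ql.1 (s.mem_ql_of hQ hx1L (Ne.symm hx1) (hw.1 L hQ) (h1.1 1 (by omega)))).2
              R hR
          refine ⟨fun i hi => ?_, fun i hi => ?_⟩
          · rcases i with _ | i
            · exact h2
            · simpa [Nat.add_comm 1] using h1.1 (i + 1) (by omega)
          · rcases i with _ | i
            · rw [hl]; exact (hw.1 L hQ).2
            · simpa [Nat.add_comm 1] using h1.2 (i + 1) (by omega)
      · have h1 := hw.2 (pre Q x) (pre L l) (n + 1)
          (hx.cons hQ (h0 ▸ hR) (h0 ▸ hne) (fun _ => Ne.symm hl)) rfl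
        exact ⟨fun i hi => h1.1 (i + 1) (by omega), fun i hi => h1.2 (i + 1) (by omega)⟩
    refine ⟨fun M hM => ?_, key⟩
    obtain ⟨S, -, hS, -, e1, -, -, -⟩ := s.line_points hM
    have h1 := key (pre R fun _ => S) (fun _ => M) 1
      ⟨fun i hi => by rw [show i = 0 by omega]; exact hM,
        fun i hi => by rw [show i = 0 by omega]; exact hS,
        fun i hi => by rw [show i = 0 by omega]; exact e1,
        fun i hi => absurd hi (by omega)⟩ rfl
    exact ⟨h1.1 0 (by omega), h1.2 0 one_pos⟩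

/-- The radius is odd: elements of `Z` first move a line. -/
structure OddRad (k : ℕ) : Prop where
  pos : 1 ≤ k
  near : ∀ {x : ℕ → Pt} {l : ℕ → Ln} {n : ℕ}, s.IsW x l n → n ≤ k + 1 →
    ∀ {v : X}, v ∈ zp X (x 0) → Fix v x l n
  crit : ∃ (x : ℕ → Pt) (l : ℕ → Ln) (v : X) (M : Ln), s.IsW x l (k + 1) ∧ v ∈ zp X (x 0) ∧
    s.inc (x (k + 1)) M ∧ v • M ≠ M

/-- The radius is even: elements of `Z` first move a point on a fixed line. -/
structure EvenRad (k : ℕ) : Prop where
  pos : 1 ≤ k
  near : ∀ {x : ℕ → Pt} {l : ℕ → Ln} {n : ℕ}, s.IsW x l n → n ≤ k →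
    ∀ {v : X}, v ∈ zp X (x 0) → Fix v x l n ∧ ∀ M, s.inc (x n) M → v • M = M
  crit : ∃ (x : ℕ → Pt) (l : ℕ → Ln) (v : X), s.IsW x l (k + 1) ∧ v ∈ zp X (x 0) ∧
    v • x (k + 1) ≠ x (k + 1)

theorem rad_cases : (∃ k, s.OddRad k) ∨ ∃ k, s.EvenRad k := by
  classical
  obtain ⟨P, L, hL⟩ := s.exists_flag
  obtain ⟨v, hv, hv1⟩ := s.exists_zp P
  obtain ⟨x, l, n, hw, h0, hf⟩ := s.exists_unfixed hv hv1
  have hex : ∃ n, ∃ (x : ℕ → Pt) (l : ℕ → Ln) (v : X), s.IsW x l n ∧ v ∈ zp X (x 0) ∧
      ¬ Fix v x l n := ⟨n, x, l, v, hw, h0 ▸ hv, hf⟩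
  set N := Nat.find hex with hN
  obtain ⟨x, l, v, hw, hv, hf⟩ := Nat.find_spec hex
  rw [← hN] at hw hf
  have hmin : ∀ {x : ℕ → Pt} {l : ℕ → Ln} {m : ℕ}, s.IsW x l m → m < N →
      ∀ {v : X}, v ∈ zp X (x 0) → Fix v x l m := by
    intro x l m hm hlt v hv
    by_contra hcon
    exact Nat.find_min hex hlt ⟨x, l, v, hm, hv, hcon⟩
  have h2 : 2 ≤ N := by
    by_contra hlt
    refine hf ⟨fun i hi => ?_, fun i hi => ?_⟩
    · rcases i with _ | i
      · exact hv.1
      · rw [show i = 0 by omega]
        exact (mem_ql.1 (s.zp_ql (hw.inl 0 (by omega)) hv)).2 _ (hw.inr 0 (by omega))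
    · rw [show i = 0 by omega]
      exact (mem_qp.1 (s.zp_qp hv)).2 _ (hw.inl 0 (by omega))
  by_cases hodd : ∃ (x : ℕ → Pt) (l : ℕ → Ln) (v : X) (M : Ln), s.IsW x l (N - 1) ∧
      v ∈ zp X (x 0) ∧ s.inc (x (N - 1)) M ∧ v • M ≠ M
  · obtain ⟨y, m, w, M, hy, hw', hM, hne⟩ := hodd
    by_cases h3 : N = 2
    · -- the radius would be one
      exfalso
      rw [h3] at hy hM
      refine hne ((mem_qp.1 (?_ : w ∈ qp X s.inc (y 1))).2 M hM)
      have hwQ := s.zp_ql (hy.inl 0 one_pos) hw'
      by_contra hq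
      have hwT := s.ql_le (hy.inr 0 one_pos) hwQ
      obtain ⟨g, hg, hg'⟩ : ∃ g ∈ ql X s.inc (m 0), g ∉ qp X s.inc (y 1) :=
        ⟨w, hwQ, hq⟩
      -- `w` acts trivially on `qp` modulo the centre
      have hc : ∀ q ∈ qp X s.inc (y 1), w * (q * w * q⁻¹) ∈ zp X (y 1) := fun q hq =>
        s.zp_comm_mem (hy.inr 0 one_pos) (hy.inl 0 one_pos) (s.qp_le (hy.inr 0 one_pos) hq) hw'
      obtain ⟨K, K', hK, hK', a, b, c, -⟩ := s.point_lines (hy.inr 0 one_pos)
      obtain ⟨t, ht, ht'⟩ := s.flag_trans (hy.inr 0 one_pos) hK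
      obtain ⟨u, hu⟩ : ∃ u, u = t * w * t⁻¹ := ⟨_, rfl⟩
      have huc : ∀ q ∈ qp X s.inc (y 1), u * (q * u * q⁻¹) ∈ zp X (y 1) := by
        intro q hq
        have h1 := hc (t⁻¹ * q * t) (by
          have := s.qp_conj (g := t⁻¹) hq
          rwa [inv_smul_eq_iff.2 ht.symm, inv_inv] at this)
        rw [← zp_conj_iff (g := t), ht] at h1
        convert h1 using 1
        rw [hu]; group
      have hwP : w • y 1 = y 1 := hwT.1
      have huP : u • y 1 = y 1 := by
        rw [hu, mul_smul, mul_smul, inv_smul_eq_iff.2 ht.symm, hwP, ht]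
      have hw2 : w * w = 1 := hw'.2.1
      have hu2 : u * u = 1 := by
        rw [hu, show t * w * t⁻¹ * (t * w * t⁻¹) = t * (w * w) * t⁻¹ by group, hw2, mul_one,
          mul_inv_cancel]
      -- `w u` acts on `qp` as a homomorphism to the centre, so its square centralizes
      have key : ∀ g : X, g • y 1 = y 1 → g * g = 1 →
          (∀ q ∈ qp X s.inc (y 1), g * (q * g * q⁻¹) ∈ zp X (y 1)) →
          ∀ q ∈ qp X s.inc (y 1), ∃ z ∈ zp X (y 1), g * q * g⁻¹ = q * z := by
        intro g hgP hg2 hgc q hq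
        refine ⟨_, hgc q⁻¹ (Subgroup.inv_mem _ hq) |> fun h => (zp X (y 1)).inv_mem
          (?_ : (q⁻¹ * g * q * g⁻¹)⁻¹ ∈ zp X (y 1)), by group⟩
        rw [show (q⁻¹ * g * q * g⁻¹)⁻¹ = g * (q⁻¹ * g⁻¹ * q⁻¹⁻¹) by group,
          inv_eq_of_mul_eq_one_right hg2]
        exact h
      have hsq : ∀ q ∈ qp X s.inc (y 1), (w * u * (w * u)) * q = q * (w * u * (w * u)) := by
        intro q hq
        obtain ⟨z, hz, e1⟩ := key w hwP hw2 hc q hq
        obtain ⟨z', hz', e2⟩ := key u huP hu2 huc q hq
        have f1 : ∀ a ∈ zp X (y 1), w * a * w⁻¹ = a := fun a ha => zp_conj_fix hwP ha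
        have f2 : ∀ a ∈ zp X (y 1), u * a * u⁻¹ = a := fun a ha => zp_conj_fix huP ha
        have e3 : (w * u) * q * (w * u)⁻¹ = q * (z * z') := by
          calc (w * u) * q * (w * u)⁻¹ = w * (u * q * u⁻¹) * w⁻¹ := by group
            _ = (w * q * w⁻¹) * (w * z' * w⁻¹) := by rw [e2]; group
            _ = q * (z * z') := by rw [e1, f1 z' hz', mul_assoc]
        have hzz := (zp X (y 1)).mul_mem hz hz'
        have e4 : (w * u) * (z * z') * (w * u)⁻¹ = z * z' :=
          zp_conj_fix (by rw [mul_smul, huP, hwP]) hzz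
        have e5 : (w * u * (w * u)) * q * (w * u * (w * u))⁻¹ = q := by
          calc (w * u * (w * u)) * q * (w * u * (w * u))⁻¹
              = (w * u) * ((w * u) * q * (w * u)⁻¹) * (w * u)⁻¹ := by group
            _ = ((w * u) * q * (w * u)⁻¹) * ((w * u) * (z * z') * (w * u)⁻¹) := by
              conv_lhs => rw [e3]
              group
            _ = q * ((z * z') * (z * z')) := by rw [e3, e4, mul_assoc]
            _ = q := by rw [hzz.2.1, mul_one]
        rw [← mul_inv_eq_iff_eq_mul]; exact e5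
      have hmem := s.cent_pt (y 1) (w * u * (w * u))
        (by simp only [mul_smul, huP, hwP]) hsq
      -- but its square moves a line
      have huK : u • K = K := by
        rw [hu, mul_smul, mul_smul, inv_smul_eq_iff.2 ht'.symm, hwT.2.out, ht']
      have huq : u ∉ qp X s.inc (y 1) := fun h => hq (by
        have := s.qp_conj (g := t⁻¹) h
        rw [inv_smul_eq_iff.2 ht.symm, hu] at this
        simpa [mul_assoc] using this)
      have h1 := (mem_qp.1 hmem).2 (m 0) (hy.inr 0 one_pos)
      have hu0 : u • m 0 = K' :=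
        s.swap_line hK (hy.inr 0 one_pos) hK' a.symm c b ⟨huP, huK⟩ huq
      have hwK' : w • K' = K :=
        s.swap_line (hy.inr 0 one_pos) hK' hK b a c.symm hwT hq
      rw [mul_smul, mul_smul, mul_smul, hu0, hwK', huK] at h1
      have hwK : w • K = K' := s.swap_line (hy.inr 0 one_pos) hK hK' a b c hwT hq
      rw [hwK] at h1
      exact b h1.symm
    refine Or.inl ⟨N - 2, by omega, fun hx hn v hv => hmin hx (by omega) hv, y, m, w, M, ?_⟩
    rw [show N - 2 + 1 = N - 1 by omega]
    exact ⟨hy, hw', hM, hne⟩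
  · push Not at hodd
    refine Or.inr ⟨N - 1, by omega, fun {x l m} hx hm {v} hv => ⟨hmin hx (by omega) hv,
      fun M hM => ?_⟩, x, l, v, ?_⟩
    · rcases (Nat.lt_or_eq_of_le hm) with hlt | rfl
      · by_contra hne
        rcases Nat.eq_zero_or_pos m with rfl | hm0
        · exact hne ((mem_qp.1 (s.zp_qp hv)).2 M hM)
        obtain ⟨A, -, hA, -, e, -, -, -⟩ := s.line_points hM
        have hML : l (m - 1) ≠ M := fun e => hne (e ▸ (hmin hx (by omega) hv).2 _ (by omega))
        have h1 := hmin (hx.snoc hM hA e (fun _ => hML)) (by omega)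
          (v := v) (by rw [snoc_of_lt _ _ (by omega)]; exact hv)
        have := h1.2 m (by omega)
        rw [snoc_self] at this
        exact hne this
      · exact hodd x l v M hx hv hM
    · rw [show N - 1 + 1 = N by omega]
      refine ⟨hw, hv, fun e => hf ⟨fun i hi => ?_, fun i hi => ?_⟩⟩
      · rcases Nat.lt_or_eq_of_le hi with hlt | rfl
        · exact (hmin (hw.of_le (Nat.sub_le N 1)) (by omega) hv).1 i (by omega)
        · exact e
      · rcases Nat.lt_or_eq_of_le (show i ≤ N - 1 by omega) with hlt | rfl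
        · exact (hmin (hw.of_le (Nat.sub_le N 1)) (by omega) hv).2 i hlt
        · exact hodd x l v _ (hw.of_le (Nat.sub_le N 1)) hv (hw.inl _ (by omega))

end Sys

end CfsgLib.Goldschmidt33
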