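import Cfsg.Agent.Lib.LocalEven.Goldschmidt33.Sys

/-!
The group `Z P` of central involutions of the stabilizer of a point.
-/

set_option autoImplicit false

namespace CfsgLib.Goldschmidt33

variable {X : Type*} [Group X] {Pt Ln : Type*} [MulAction X Pt] [MulAction X Ln]

variable (X) in
/-- The central elements of exponent two of the stabilizer of a point. -/
def zp (P : Pt) : Subgroup X where
  carrier := {v | v • P = P ∧ v * v = 1 ∧ ∀ g : X, g • P = P → g * v = v * g}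
  one_mem' := ⟨one_smul _ _, one_mul _, fun g _ => by simp⟩
  mul_mem' := fun {v w} hv hw => ⟨by rw [mul_smul, hw.1, hv.1], by
    rw [show v * w * (v * w) = v * (w * v) * w by group, ← hv.2.2 w hw.1 |>.symm]
    rw [show v * (v * w) * w = (v * v) * (w * w) by group, hv.2.1, hw.2.1, one_mul],
    fun g hg => by rw [← mul_assoc, hv.2.2 g hg, mul_assoc, hw.2.2 g hg, mul_assoc]⟩
  inv_mem' := fun {v} hv => by
    rw [inv_eq_of_mul_eq_one_right hv.2.1]
    exact hv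

theorem mem_zp {P : Pt} {v : X} :
    v ∈ zp X P ↔ v • P = P ∧ v * v = 1 ∧ ∀ g : X, g • P = P → g * v = v * g := Iff.rfl

theorem zp_inv {P : Pt} {v : X} (hv : v ∈ zp X P) : v⁻¹ = v :=
  inv_eq_of_mul_eq_one_right hv.2.1

theorem zp_conj {P : Pt} {g v : X} (hv : v ∈ zp X P) : g * v * g⁻¹ ∈ zp X (g • P) := by
  obtain ⟨h1, h2, h3⟩ := hv
  refine ⟨by simp [mul_smul, h1], by
    rw [show g * v * g⁻¹ * (g * v * g⁻¹) = g * (v * v) * g⁻¹ by group, h2, mul_one, mul_inv_cancel],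
    fun k hk => ?_⟩
  have h4 := h3 (g⁻¹ * k * g) (by simp [mul_smul, hk])
  calc k * (g * v * g⁻¹) = g * (g⁻¹ * k * g * v) * g⁻¹ := by group
    _ = g * (v * (g⁻¹ * k * g)) * g⁻¹ := by rw [h4]
    _ = g * v * g⁻¹ * k := by group

theorem zp_conj_fix {P : Pt} {g v : X} (hg : g • P = P) (hv : v ∈ zp X P) : g * v * g⁻¹ = v := by
  rw [hv.2.2 g hg, mul_inv_cancel_right]

theorem zp_conj_iff {P : Pt} {g v : X} : g * v * g⁻¹ ∈ zp X (g • P) ↔ v ∈ zp X P := by
  refine ⟨fun h => ?_, zp_conj⟩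
  simpa [mul_assoc] using zp_conj (g := g⁻¹) h

namespace Sys

variable (s : Sys X Pt Ln)

include s

theorem zp_qp {P : Pt} {v : X} (hv : v ∈ zp X P) : v ∈ qp X s.inc P :=
  s.cent_pt P v hv.1 fun q hq => (hv.2.2 q (mem_qp.1 hq).1).symm

theorem zp_ql {P : Pt} {L : Ln} (hL : s.inc P L) {v : X} (hv : v ∈ zp X P) : v ∈ ql X s.inc L :=
  s.cent_ln L v ((mem_qp.1 (s.zp_qp hv)).2 L hL) fun q hq =>
    (hv.2.2 q ((mem_ql.1 hq).2 P hL)).symm

theorem zp_fl {P : Pt} {L : Ln} (hL : s.inc P L) {v : X} (hv : v ∈ zp X P) : v ∈ fl X P L :=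
  s.qp_le hL (s.zp_qp hv)

theorem zp_comm_line {P Q : Pt} {L : Ln} (hP : s.inc P L) (hQ : s.inc Q L) {v w : X}
    (hv : v ∈ zp X P) (hw : w ∈ zp X Q) : v * w = w * v :=
  (hv.2.2 w ((mem_ql.1 (s.zp_ql hQ hw)).2 P hP)).symm

theorem mem_zp_of {P : Pt} {L : Ln} (hL : s.inc P L) {v : X} (hv : v ∈ fl X P L) (h2 : v * v = 1)
    (hc : ∀ t ∈ fl X P L, t * v = v * t) : v ∈ zp X P :=
  ⟨hv.1, h2, s.omega hL v hv h2 hc⟩

theorem exists_zp (P : Pt) : ∃ v ∈ zp X P, v ≠ 1 := by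
  obtain ⟨L, hL⟩ := s.pt_line P
  haveI := s.fin hL
  haveI : Fact (Nat.Prime 2) := ⟨Nat.prime_two⟩
  obtain ⟨t, ht, ht'⟩ := s.move_line hL
  haveI : Nontrivial ↥(fl X P L) := ⟨⟨⟨t, ht⟩, 1, fun e =>
    ht' (by rw [show t = 1 from congrArg Subtype.val e]; exact Subgroup.one_mem _)⟩⟩
  have h2 := s.two hL
  haveI := h2.center_nontrivial
  obtain ⟨n, hn⟩ := IsPGroup.iff_card.1 (h2.to_subgroup (Subgroup.center ↥(fl X P L)))
  have hn0 : n ≠ 0 := by
    rintro rfl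
    rw [pow_zero] at hn
    exact absurd hn (ne_of_gt Finite.one_lt_card)
  obtain ⟨x, hx⟩ := exists_prime_orderOf_dvd_card' (G := Subgroup.center ↥(fl X P L)) 2
    (hn ▸ dvd_pow_self 2 hn0)
  refine ⟨x.1.1, s.mem_zp_of hL x.1.2 ?_ fun u hu => ?_, fun e => ?_⟩
  · have h1 := pow_orderOf_eq_one x
    rw [hx, pow_two] at h1
    exact congrArg (fun y : Subgroup.center ↥(fl X P L) => y.1.1) h1
  · exact congrArg Subtype.val (Subgroup.mem_center_iff.1 x.2 ⟨u, hu⟩)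
  · have : x = 1 := Subtype.ext (Subtype.ext e)
    rw [this, orderOf_one] at hx
    norm_num at hx

/-- Two points of a line have only the identity in common. -/
theorem zp_inter {P Q : Pt} {L : Ln} (hP : s.inc P L) (hQ : s.inc Q L) (h : P ≠ Q) {v : X}
    (hv : v ∈ zp X P) (hw : v ∈ zp X Q) : v = 1 := by
  have hc : ∀ g : X, g • L = L → g * v = v * g := fun g hg => by
    have hle : ∀ A : Pt, v ∈ zp X A → fl X A L ≤ Subgroup.centralizer ({v} : Set X) :=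
      fun A hA t ht => Subgroup.mem_centralizer_singleton_iff.2 (hA.2.2 t ht.1)
    exact Subgroup.mem_centralizer_singleton_iff.1 (s.stab_ln_le hP hQ h (hle P hv) (hle Q hw) hg)
  have key : ∀ g : X, g * v = v * g → ∀ n ∈ Subgroup.zpowers v, g * n * g⁻¹ = n := by
    intro g hg n hn
    obtain ⟨k, rfl⟩ := Subgroup.mem_zpowers_iff.1 hn
    rw [((show Commute g v from hg).zpow_right k).eq, mul_inv_cancel_right]
  have := s.faithful hP (Subgroup.zpowers v) (Subgroup.zpowers_le.2 (s.zp_fl hP hv))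
    (fun g hg n hn => by rw [key g (hv.2.2 g hg) n hn]; exact hn)
    (fun g hg n hn => by rw [key g (hc g hg) n hn]; exact hn)
  exact Subgroup.zpowers_eq_bot.1 this

/-- An element fixing the line and one point changes the centre of another point by the fixed one. -/
theorem zp_comm_mem {P Q : Pt} {L : Ln} (hP : s.inc P L) (hQ : s.inc Q L) {g z : X}
    (hg : g ∈ fl X P L) (hz : z ∈ zp X Q) : z * (g * z * g⁻¹) ∈ zp X P := by
  have hzQ := s.zp_ql hQ hz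
  have hz' := zp_conj (g := g) hz
  have hgQ : s.inc (g • Q) L := s.inc_smul_right hg.2 hQ
  have hz'Q := s.zp_ql hgQ hz'
  refine s.mem_zp_of hP (s.ql_le hP (Subgroup.mul_mem _ hzQ hz'Q)) ?_ fun t ht => ?_
  · have hc := s.zp_comm_line hQ hgQ hz hz'
    calc z * (g * z * g⁻¹) * (z * (g * z * g⁻¹))
        = z * ((g * z * g⁻¹) * z) * (g * z * g⁻¹) := by group
      _ = (z * z) * ((g * z * g⁻¹) * (g * z * g⁻¹)) := by rw [← hc]; group
      _ = 1 := by rw [hz.2.1, hz'.2.1, one_mul]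
  · by_cases hQP : Q = P
    · subst hQP
      rw [zp_conj_fix hg.1 hz, hz.2.1, mul_one, one_mul]
    by_cases hg0 : g ∈ ql X s.inc L
    · rw [zp_conj_fix ((mem_ql.1 hg0).2 Q hQ) hz, hz.2.1, mul_one, one_mul]
    by_cases ht0 : t ∈ ql X s.inc L
    · rw [← mul_assoc, hz.2.2 t ((mem_ql.1 ht0).2 Q hQ), mul_assoc,
        hz'.2.2 t ((mem_ql.1 ht0).2 _ hgQ), ← mul_assoc]
    have h1 : (g⁻¹ * t) • Q = Q :=
      (mem_ql.1 (s.ql_mul hP (Subgroup.inv_mem _ hg) ht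
        (fun h => hg0 (by simpa using (ql X s.inc L).inv_mem h)) ht0)).2 Q hQ
    have h2 : (g * g) • Q = Q := (mem_ql.1 (s.ql_mul hP hg hg hg0 hg0)).2 Q hQ
    have e1 : t * z * t⁻¹ = g * z * g⁻¹ := by
      calc t * z * t⁻¹ = g * ((g⁻¹ * t) * z * (g⁻¹ * t)⁻¹) * g⁻¹ := by group
        _ = g * z * g⁻¹ := by rw [zp_conj_fix h1 hz]
    have h3 : (t * g) • Q = Q := (mem_ql.1 (s.ql_mul hP ht hg ht0 hg0)).2 Q hQ
    have e2 : t * (g * z * g⁻¹) * t⁻¹ = z := by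
      calc t * (g * z * g⁻¹) * t⁻¹ = (t * g) * z * (t * g)⁻¹ := by group
        _ = z := zp_conj_fix h3 hz
    calc t * (z * (g * z * g⁻¹)) = (t * z * t⁻¹) * (t * (g * z * g⁻¹) * t⁻¹) * t := by group
      _ = z * (g * z * g⁻¹) * t := by rw [e1, e2, s.zp_comm_line hgQ hQ hz' hz]

/-- An element moving a point moves each nontrivial element of its centre. -/
theorem zp_move {P Q : Pt} {L : Ln} (hP : s.inc P L) (hQ : s.inc Q L) {g z : X}
    (hg : g ∈ fl X P L) (hgQ : g • Q ≠ Q) (hz : z ∈ zp X Q) (hz1 : z ≠ 1) :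
    z * (g * z * g⁻¹) ≠ 1 ∧ g * z ≠ z * g := by
  have hne : g * z * g⁻¹ ≠ z := fun e =>
    hz1 (s.zp_inter hQ (s.inc_smul_right hg.2 hQ) (Ne.symm hgQ) hz (e ▸ zp_conj hz))
  refine ⟨fun h => hne ?_, fun h => hne (by rw [h, mul_inv_cancel_right])⟩
  rw [← inv_eq_of_mul_eq_one_right h, zp_inv hz]

end Sys

end CfsgLib.Goldschmidt33
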