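import Cfsg.Agent.Lib.LocalEven.Goldschmidt33.One

/-!
Counting by separating maps; the pointwise stabilizers of balls.
-/

set_option autoImplicit false

namespace CfsgLib.Goldschmidt33

variable {X : Type*} [Group X] {Pt Ln : Type*} [MulAction X Pt] [MulAction X Ln]

theorem card_le_sep {H K : Subgroup X} [Finite ↥H] [Finite ↥K] {S : Type*} [Fintype S]
    (f : X → S) (hsep : ∀ g ∈ H, ∀ h ∈ H, f g = f h → g⁻¹ * h ∈ K) :
    Nat.card ↥H ≤ Fintype.card S * Nat.card ↥K := by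
  classical
  rw [← Nat.card_eq_fintype_card, ← Nat.card_prod]
  have hex : ∀ g : ↥H, ∃ h : ↥H, f h = f g := fun g => ⟨g, rfl⟩
  let rep : S → X := fun t => if h : ∃ g : ↥H, f g = t then (Classical.choose h).1 else 1
  have hrep : ∀ g : ↥H, rep (f g) ∈ H ∧ f (rep (f g)) = f g := fun g => by
    have h : ∃ k : ↥H, f k = f g := hex g
    simp only [rep, dif_pos h]
    exact ⟨(Classical.choose h).2, Classical.choose_spec h⟩
  refine Nat.card_le_card_of_injective
    (fun g : ↥H => (f g, (⟨(rep (f g))⁻¹ * g, hsep _ (hrep g).1 _ g.2 (hrep g).2⟩ : ↥K))) ?_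
  intro g g' e
  simp only [Prod.mk.injEq, Subtype.mk.injEq] at e
  rw [e.1] at e
  exact Subtype.ext (mul_left_cancel e.2)

variable (X) in
/-- The elements fixing a point, the lines at it and their points. -/
def dp (inc : Pt → Ln → Prop) (P : Pt) : Subgroup X :=
  qp X inc P ⊓ ⨅ (L : Ln) (_ : inc P L), ql X inc L

variable (X) in
/-- The elements in `dp` of a point and all its neighbours. -/
def kp (inc : Pt → Ln → Prop) (P : Pt) : Subgroup X :=
  dp X inc P ⊓ ⨅ (L : Ln) (_ : inc P L) (A : Pt) (_ : inc A L), dp X inc A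

theorem mem_dp {inc : Pt → Ln → Prop} {P : Pt} {g : X} :
    g ∈ dp X inc P ↔ g ∈ qp X inc P ∧ ∀ L, inc P L → g ∈ ql X inc L := by
  simp [dp, Subgroup.mem_iInf]

theorem mem_kp {inc : Pt → Ln → Prop} {P : Pt} {g : X} :
    g ∈ kp X inc P ↔ g ∈ dp X inc P ∧ ∀ L, inc P L → ∀ A, inc A L → g ∈ dp X inc A := by
  simp [kp, Subgroup.mem_iInf]

namespace Sys

variable (s : Sys X Pt Ln)

theorem dp_conj {P : Pt} {g q : X} (hq : q ∈ dp X s.inc P) :
    g * q * g⁻¹ ∈ dp X s.inc (g • P) := by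
  rw [mem_dp] at hq ⊢
  refine ⟨s.qp_conj hq.1, fun L hL => ?_⟩
  have h1 : s.inc P (g⁻¹ • L) := by simpa using s.inc_smul g⁻¹ hL
  simpa using s.ql_conj (g := g) (hq.2 _ h1)

theorem kp_conj {P : Pt} {g q : X} (hq : q ∈ kp X s.inc P) :
    g * q * g⁻¹ ∈ kp X s.inc (g • P) := by
  rw [mem_kp] at hq ⊢
  refine ⟨s.dp_conj hq.1, fun L hL A hA => ?_⟩
  have h1 : s.inc P (g⁻¹ • L) := by simpa using s.inc_smul g⁻¹ hL
  have := s.dp_conj (g := g) (hq.2 _ h1 _ (s.inc_smul g⁻¹ hA))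
  simpa using this

theorem dp_fix {P A : Pt} {L : Ln} (hP : s.inc P L) (hA : s.inc A L) {g : X}
    (hg : g ∈ dp X s.inc P) : g • A = A :=
  (mem_ql.1 ((mem_dp.1 hg).2 L hP)).2 A hA

theorem dp_le {P : Pt} {L : Ln} (hP : s.inc P L) : dp X s.inc P ≤ fl X P L := fun _ hg =>
  s.qp_le hP (mem_dp.1 hg).1

theorem dp_comm {P A : Pt} {L : Ln} (hP : s.inc P L) (hA : s.inc A L) {g : X}
    (hg : g ∈ dp X s.inc P) : g * s.r A = s.r A * g :=
  s.r_comm (s.dp_fix hP hA hg)

/-- `g` commutes with `h`, so it lies in the translated kernel. -/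
theorem dp_transport {P : Pt} {g h : X} (hg : g ∈ dp X s.inc P) (hc : h * g = g * h) :
    g ∈ dp X s.inc (h • P) := by
  have := s.dp_conj (g := h) hg
  rwa [hc, mul_inv_cancel_right] at this

theorem kp_transport {P : Pt} {g h : X} (hg : g ∈ kp X s.inc P) (hc : h * g = g * h) :
    g ∈ kp X s.inc (h • P) := by
  have := s.kp_conj (g := h) hg
  rwa [hc, mul_inv_cancel_right] at this

end Sys

end CfsgLib.Goldschmidt33
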