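import Cfsg.Agent.Lib.LocalEven.Goldschmidt33.Count

/-!
The even radius.
-/

set_option autoImplicit false

namespace CfsgLib.Goldschmidt33

variable {X : Type*} [Group X] {Pt Ln : Type*} [MulAction X Pt] [MulAction X Ln]

namespace Sys

variable {s : Sys X Pt Ln}

theorem EvenRad.crit_walk {k : ℕ} (h : s.EvenRad k) :
    ∃ (x : ℕ → Pt) (l : ℕ → Ln), s.IsW x l (k + 1) ∧ s.r (x 0) • x (k + 1) ≠ x (k + 1) := by
  obtain ⟨x, l, v, hx, hv, hne⟩ := h.crit
  refine ⟨x, l, hx, ?_⟩
  rcases h.one.mem hv with e | e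
  · exact absurd (by rw [e, one_smul]) hne
  · exact e ▸ hne

theorem EvenRad.flip {k : ℕ} (h : s.EvenRad k) : s.Flip k := by
  obtain ⟨x, l, v, hx, hv, hne⟩ := h.crit
  have hf := h.near (hx.of_le k.le_succ) le_rfl hv
  exact ⟨x, l, v, hx, hf.1, hf.2 _ (hx.inl k k.lt_succ_self), hne⟩

theorem EvenRad.eq_one {k : ℕ} (h : s.EvenRad k) : k = 1 := by
  by_contra hk
  have hk2 : 2 ≤ k := by have := h.pos; omega
  have o := h.one
  obtain ⟨x, l, hx, hne⟩ := h.crit_walk
  have hf := h.near (hx.of_le k.le_succ) le_rfl (s.r_mem (x 0))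
  have hlk := hf.2 _ (hx.inl k k.lt_succ_self)
  -- the involution at the end moves the start
  have hback := h.near (hx.rev.of_le k.le_succ) le_rfl (v := s.r (x (k + 1)))
    (by simpa using s.r_mem (x (k + 1)))
  obtain ⟨u, hu⟩ : ∃ u, u = s.r (x (k + 1)) := ⟨_, rfl⟩
  rw [← hu] at hback
  have hu1 : u • x 1 = x 1 := by
    simpa [show k + 1 - k = 1 by omega] using hback.1.1 k le_rfl
  have hua : u • l 0 = l 0 := hback.2 (l 0) (by
    simpa [show k + 1 - k = 1 by omega] using hx.inr 0 (by omega))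
  have hu0 : u • x 0 ≠ x 0 := fun e => hne (o.fix_of_comm (hx.inl k k.lt_succ_self)
    (hx.inr k k.lt_succ_self) (hx.ne k k.lt_succ_self) (hf.1.1 k le_rfl)
    (hu ▸ (s.r_comm e).symm)).1
  have e1 : s.r (u • x 0) = s.r (x 1) * s.r (x 0) :=
    o.third (hx.inr 0 (by omega)) (hx.inl 0 (by omega)) (s.inc_smul_right hua (hx.inl 0 (by omega)))
      (hx.ne 0 (by omega)).symm
      (fun e => hx.ne 0 (by omega) (MulAction.injective u (e.symm.trans hu1.symm))) (Ne.symm hu0)
  have e2 : s.r (s.r (x 0) • x (k + 1)) = s.r (x k) * u := hu ▸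
    o.third (hx.inl k k.lt_succ_self) (hx.inr k k.lt_succ_self)
      (s.inc_smul_right hlk (hx.inr k k.lt_succ_self)) (hx.ne k k.lt_succ_self)
      (fun e => hx.ne k k.lt_succ_self
        (MulAction.injective (s.r (x 0)) ((hf.1.1 k le_rfl).trans e))) (Ne.symm hne)
  rw [hu, ← o.conj_r, ← hu] at e1
  rw [← o.conj_r, ← hu] at e2
  -- `r x₁ = r x_k`
  have hrk : s.r (x k) = s.r (x 1) := by
    have c1 := s.zp_comm_line (hx.inr 0 (by omega)) (hx.inl 0 (by omega)) (s.r_mem (x 1))
      (s.r_mem (x 0))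
    calc s.r (x k) = s.r (x k) * u * u := by rw [mul_assoc, hu, s.r_sq, mul_one]
      _ = s.r (x 0) * (u * s.r (x 0) * u) := by rw [← e2]; group
      _ = s.r (x 0) * (s.r (x 0) * s.r (x 1)) := by rw [e1, c1]
      _ = s.r (x 1) := s.r_cancel _ _
  have hswap : ∀ (A : Pt) (b : Ln), s.inc (x 0) b → b ≠ l 0 → s.inc A b → A ≠ x 0 →
      u * s.r A * u = s.r A ∨ u * s.r A * u = s.r A * s.r (x 1) := by
    intro A b hb hbl hA hA0
    have hw := (hx.of_le (show k - 1 ≤ k + 1 by omega)).cons hA hb hA0 (fun _ => hbl)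
    rw [show k - 1 + 1 = k by omega] at hw
    have hA' := h.near hw le_rfl (v := s.r A) (s.r_mem A)
    have f1 : s.r A • x (k - 1) = x (k - 1) := by
      obtain ⟨j, rfl⟩ : ∃ j, k = j + 1 := ⟨k - 1, by omega⟩
      exact hA'.1.1 (j + 1) le_rfl
    have f2 : s.r A • x k = x k := by
      have hin := hx.inl (k - 1) (by omega)
      have hin' := hx.inr (k - 1) (by omega)
      have hne' := hx.ne (k - 1) (by omega)
      rw [show k - 1 + 1 = k by omega] at hin' hne'
      refine (o.fix_of_comm hin hin' hne' f1 ?_).1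
      rw [hrk]
      -- two steps apart
      have hw2 := (hx.of_le (show 1 ≤ k + 1 by omega)).cons hA hb hA0 (fun _ => hbl)
      exact s.r_comm ((h.near hw2 hk2 (v := s.r A) (s.r_mem A)).1.1 2 le_rfl)
    have f3 : s.r A • l k = l k := by
      by_contra hcon
      have hsw : s.Swap (k + 1) := by
        refine ⟨pre A x, pre b l, s.r A, ((hx.of_le k.le_succ).cons hA hb hA0 fun _ => hbl), ?_,
          l k, by simpa using hx.inl k k.lt_succ_self, hcon⟩
        refine ⟨fun i hi => ?_, fun i hi => ?_⟩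
        · rcases Nat.lt_or_eq_of_le hi with hi' | rfl
          · exact hA'.1.1 i (by omega)
          · simpa using f2
        · rcases Nat.lt_or_eq_of_le (show i ≤ k by omega) with hi' | rfl
          · exact hA'.1.2 i hi'
          · obtain ⟨j, rfl⟩ : ∃ j, i = j + 1 := ⟨i - 1, by omega⟩
            exact hA'.2 _ (hx.inl j (by omega))
      obtain ⟨g, hg, -⟩ := s.trans_of (fun j _ hj => hsw.mono (by omega))
        (fun j hj => h.flip.mono (by omega)) x l (pre A x) (pre b l) hx
        ((hx.of_le k.le_succ).cons hA hb hA0 fun _ => hbl)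
      have := hne
      apply this
      have e := o.conj g (x 0)
      rw [show g • x 0 = A from hg 0 (Nat.zero_le _)] at e
      have e' : (g * s.r (x 0) * g⁻¹) • x k = x k := by rw [e]; exact f2
      rw [← show g • x (k + 1) = x k from hg (k + 1) le_rfl] at e'
      simpa [mul_smul] using e'
    have hcw : s.r A * u * s.r A = u ∨ s.r A * u * s.r A = u * s.r (x k) := by
      rw [hu, o.conj_r]
      exact o.mate (hx.inl k k.lt_succ_self) (hx.inr k k.lt_succ_self)
        (s.inc_smul_right f3 (hx.inr k k.lt_succ_self)) (hx.ne k k.lt_succ_self)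
        (fun e => hx.ne k k.lt_succ_self (MulAction.injective (s.r A) (f2.trans e)))
    rcases hcw with e | e
    · left
      calc u * s.r A * u = u * (s.r A * u * s.r A) * s.r A := by
            rw [show u * (s.r A * u * s.r A) * s.r A = u * s.r A * u * (s.r A * s.r A) by group,
              s.r_sq, mul_one]
        _ = s.r A := by rw [e, hu, s.r_sq, one_mul]
    · right
      have hc : s.r A * s.r (x k) = s.r (x k) * s.r A := s.r_comm f2
      calc u * s.r A * u = u * (s.r A * u * s.r A) * s.r A := by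
            rw [show u * (s.r A * u * s.r A) * s.r A = u * s.r A * u * (s.r A * s.r A) by group,
              s.r_sq, mul_one]
        _ = u * u * (s.r (x k) * s.r A) := by rw [e]; group
        _ = s.r A * s.r (x 1) := by rw [hu, s.r_sq, one_mul, ← hc, hrk]
  -- the group of the neighbours
  set N : Pt → Subgroup X := fun P =>
    Subgroup.closure {v | ∃ L R, s.inc P L ∧ s.inc R L ∧ v = s.r R} with hN
  have hgen : ∀ {P R : Pt} {L : Ln}, s.inc P L → s.inc R L → s.r R ∈ N P := fun hP hR =>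
    Subgroup.subset_closure ⟨_, _, hP, hR, rfl⟩
  have hmap : ∀ (g : X) (P : Pt), (N P).map (MulAut.conj g).toMonoidHom = N (g • P) := by
    intro g P
    rw [hN]
    simp only [MonoidHom.map_closure]
    congr 1
    ext v
    constructor
    · rintro ⟨_, ⟨L, R, hL, hR, rfl⟩, rfl⟩
      exact ⟨g • L, g • R, s.inc_smul g hL, s.inc_smul g hR, o.conj g R⟩
    · rintro ⟨L, R, hL, hR, rfl⟩
      refine ⟨s.r (g⁻¹ • R), ⟨g⁻¹ • L, g⁻¹ • R, by simpa using s.inc_smul g⁻¹ hL,
        s.inc_smul g⁻¹ hR, rfl⟩, ?_⟩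
      exact (o.conj g _).trans (by rw [smul_inv_smul])
  have ha := hx.inl 0 (by omega)
  have hle : N (u • x 0) ≤ N (x 0) := by
    rw [← hmap]
    conv_lhs => rw [hN]
    simp only [MonoidHom.map_closure]
    refine (Subgroup.closure_le _).2 ?_
    rintro _ ⟨_, ⟨L, R, hL, hR, rfl⟩, rfl⟩
    show u * s.r R * u⁻¹ ∈ N (x 0)
    rw [show u⁻¹ = u from hu ▸ s.r_inv _]
    by_cases hLa : L = l 0
    · subst hLa
      rw [o.conj_invol (hu ▸ s.r_sq _) R]
      exact hgen ha (s.inc_smul_right hua hR)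
    by_cases hR0 : R = x 0
    · rw [hR0, e1]
      exact Subgroup.mul_mem _ (hgen ha (hx.inr 0 (by omega))) (hgen ha ha)
    rcases hswap R L hL hLa hR hR0 with e | e <;> rw [e]
    · exact hgen hL hR
    · exact Subgroup.mul_mem _ (hgen hL hR) (hgen ha (hx.inr 0 (by omega)))
  have hfl : ∀ {P : Pt} {L : Ln}, s.inc P L → N P ≤ fl X P L := by
    intro P L hL
    refine (Subgroup.closure_le _).2 ?_
    rintro _ ⟨M, R, hM, hR, rfl⟩
    by_cases hRP : R = P
    · exact hRP ▸ s.zp_fl hL (s.r_mem P)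
    have hw : s.IsW (pre R fun _ => P) (fun _ => M) 1 :=
      ⟨fun i hi => by rw [show i = 0 by omega]; exact hR,
        fun i hi => by rw [show i = 0 by omega]; exact hM,
        fun i hi => by rw [show i = 0 by omega]; exact hRP,
        fun i hi => absurd hi (by omega)⟩
    have := h.near hw h.pos (v := s.r R) (s.r_mem R)
    exact ⟨this.1.1 1 le_rfl, this.2 L hL⟩
  haveI := s.fin ha
  haveI : Finite ↥(N (x 0)) := Finite.of_injective (Subgroup.inclusion (hfl ha))
    (Subgroup.inclusion_injective (hfl ha))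
  have heq : N (u • x 0) = N (x 0) := Subgroup.eq_of_le_of_card_ge hle (by
    rw [← hmap u (x 0), Subgroup.card_map_of_injective (MulAut.conj u).injective])
  have hua0 : s.inc (u • x 0) (l 0) := s.inc_smul_right hua ha
  obtain ⟨t, ht, ht'⟩ := s.move_pt hua0
  have hne1 : u • x 0 ≠ x 1 := fun e =>
    hx.ne 0 (by omega) (MulAction.injective u (e.trans hu1.symm))
  have et : t • x 0 = x 1 :=
    s.swap_pt hua0 ha (hx.inr 0 (by omega)) hu0 hne1 (hx.ne 0 (by omega)) ht ht'
  have heq1 : N (x 1) = N (x 0) := by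
    rw [← et, ← hmap, ← heq, hmap, ht.1]
  have hnorm : ∀ g : X, g • l 0 = l 0 → N (g • x 0) = N (x 0) := by
    intro g hg
    rcases s.pt_third ha (hx.inr 0 (by omega)) hua0 (hx.ne 0 (by omega)) (Ne.symm hu0)
      (Ne.symm hne1) (s.inc_smul_right hg ha) with e | e | e <;> rw [e]
    · exact heq1
    · exact heq
  have hb := s.faithful ha (N (x 0)) (hfl ha)
    (fun g hg n hn => by
      have h1 : (MulAut.conj g).toMonoidHom n ∈ N (g • x 0) :=
        (hmap g (x 0)).le ⟨n, hn, rfl⟩
      rwa [hg] at h1)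
    fun g hg n hn => (hnorm g hg).le ((hmap g (x 0)).le ⟨n, hn, rfl⟩)
  exact s.r_ne (x 0) ((Subgroup.eq_bot_iff_forall _).1 hb _ (hgen ha ha))

end Sys

end CfsgLib.Goldschmidt33
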