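import Cfsg.Agent.Lib.LocalEven.Goldschmidt33.Even

/-!
Radius one and even: the flag stabilizer has order at most 128.
-/

set_option autoImplicit false

namespace CfsgLib.Goldschmidt33

variable {X : Type*} [Group X] {Pt Ln : Type*} [MulAction X Pt] [MulAction X Ln]

/-- Permuted products of three involutions commuting up to a central element. -/
theorem perm_mul {A B D r : X} (hr : r * r = 1) (hA : A * r = r * A) (hB : B * r = r * B)
    (hD : D * r = r * D) (hBA : B * A = A * B * r) (hDA : D * A = A * D * r)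
    (hDB : D * B = B * D * r) :
    A * D * B = A * B * D * r ∧ B * A * D = A * B * D * r ∧ B * D * A = A * B * D ∧
      D * A * B = A * B * D ∧ D * B * A = A * B * D * r := by
  have e1 : A * D * B = A * B * D * r := by rw [mul_assoc A D B, hDB]; group
  have e2 : B * A * D = A * B * D * r := by rw [hBA, mul_assoc (A * B) r D, ← hD]; group
  have e3 : B * D * A = A * B * D := by
    rw [mul_assoc B D A, hDA, show B * (A * D * r) = B * A * D * r by group, e2, mul_assoc, hr,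
      mul_one]
  have e4 : D * A * B = A * B * D := by
    rw [hDA, mul_assoc (A * D) r B, ← hB, show A * D * (B * r) = A * D * B * r by group, e1,
      mul_assoc, hr, mul_one]
  refine ⟨e1, e2, e3, e4, ?_⟩
  rw [mul_assoc D B A, hBA, show D * (A * B * r) = D * A * B * r by group, e4]

namespace Sys

variable {s : Sys X Pt Ln}

section

variable (h : s.EvenRad 1)

include h

theorem EvenRad.trans_two : s.Trans 2 :=
  s.trans_of (fun j h0 hj => s.swap_one.mono (by omega)) fun j hj => h.flip.mono (by omega)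

theorem EvenRad.moves {P A B : Pt} {a b : Ln} (hPa : s.inc P a) (hPb : s.inc P b) (hA : s.inc A a)
    (hB : s.inc B b) (hAP : P ≠ A) (hBP : P ≠ B) (hab : a ≠ b) :
    s.r A • P = P ∧ s.r A • b = b ∧ s.r A • B ≠ B := by
  set y : ℕ → Pt := pre A (pre P fun _ => B)
  set m : ℕ → Ln := pre a fun _ => b
  have hy : s.IsW y m 2 := by
    refine ⟨fun i hi => ?_, fun i hi => ?_, fun i hi => ?_, fun i hi => ?_⟩
    · rcases i with _ | _ | i
      exacts [hA, hPb, absurd hi (by omega)]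
    · rcases i with _ | _ | i
      exacts [hPa, hB, absurd hi (by omega)]
    · rcases i with _ | _ | i
      exacts [hAP.symm, hBP, absurd hi (by omega)]
    · rcases i with _ | i
      exacts [hab, absurd hi (by omega)]
  have hf := h.near (hy.of_le (show 1 ≤ 2 by omega)) le_rfl (v := s.r A) (s.r_mem A)
  refine ⟨hf.1.1 1 le_rfl, hf.2 b hPb, fun e => ?_⟩
  obtain ⟨x, l, hx, hne⟩ := h.crit_walk
  obtain ⟨g, hg, -⟩ := h.trans_two x l y m hx hy
  apply hne
  have e0 : g * s.r (x 0) * g⁻¹ = s.r A := by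
    rw [h.one.conj, hg 0 (Nat.zero_le _)]
    rfl
  have h2 : g • x 2 = B := hg 2 le_rfl
  have e' : (g * s.r (x 0) * g⁻¹) • B = B := by rw [e0]; exact e
  rw [← h2] at e'
  simpa [mul_smul] using e'

theorem EvenRad.comm_nb {P A B : Pt} {a b : Ln} (hPa : s.inc P a) (hPb : s.inc P b)
    (hA : s.inc A a) (hB : s.inc B b) (hAP : P ≠ A) (hBP : P ≠ B) (hab : a ≠ b) :
    s.r B * s.r A = s.r A * s.r B * s.r P := by
  obtain ⟨h1, h2, h3⟩ := h.moves hPa hPb hA hB hAP hBP hab
  have e := h.one.third hPb hB (s.inc_smul_right h2 hB) hBP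
    (fun e => hBP (MulAction.injective (s.r A) (h1.trans e))) (Ne.symm h3)
  rw [← h.one.conj_r] at e
  have c := s.zp_comm_line hPb hB (s.r_mem P) (s.r_mem B)
  calc s.r B * s.r A = s.r A * (s.r A * s.r B * s.r A) := by
        rw [show s.r A * (s.r A * s.r B * s.r A) = s.r A * s.r A * (s.r B * s.r A) by group,
          s.r_sq, one_mul]
    _ = s.r A * s.r B * s.r P := by rw [e, c]; group

theorem EvenRad.nb_fix {P A : Pt} {a : Ln} (hPa : s.inc P a) (hA : s.inc A a) :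
    s.r A • P = P ∧ s.r A • a = a := by
  have := mem_ql.1 (s.zp_ql hA (s.r_mem A))
  exact ⟨this.2 P hPa, this.1⟩

theorem EvenRad.isC_unique {P : Pt} {c c' : X} (hc : s.IsC P c) (hc' : s.IsC P c') :
    c' = c ∨ c' = c * s.r P := by
  have o := h.one
  obtain ⟨a, b, d, A, B, D, ha, hb, hd, hab, had, hbd, hA, hB, hD, hPA, hPB, hPD, rfl⟩ := hc
  obtain ⟨a', b', d', A', B', D', ha', hb', hd', hab', had', hbd', hA', hB', hD', hPA', hPB',
    hPD', rfl⟩ := hc'
  have cA := s.r_comm (P := P) (h.nb_fix ha hA).1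
  have cB := s.r_comm (P := P) (h.nb_fix hb hB).1
  have cD := s.r_comm (P := P) (h.nb_fix hd hD).1
  have cr := s.r_sq P
  obtain ⟨p1, p2, p3, p4, p5⟩ := perm_mul cr cA cB cD
    (h.comm_nb ha hb hA hB hPA hPB hab) (h.comm_nb ha hd hA hD hPA hPD had)
    (h.comm_nb hb hd hB hD hPB hPD hbd)
  -- mates
  have step : ∀ (U V W U' V' W' : X), U * s.r P = s.r P * U → V * s.r P = s.r P * V →
      W * s.r P = s.r P * W → (U' = U ∨ U' = U * s.r P) → (V' = V ∨ V' = V * s.r P) →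
      (W' = W ∨ W' = W * s.r P) → U' * V' * W' = U * V * W ∨ U' * V' * W' = U * V * W * s.r P := by
    intro U V W U' V' W' cU cV cW hU hV hW
    have m1 : ∀ {x y : X}, y * s.r P = s.r P * y → x * s.r P * y = x * y * s.r P := fun {x y} e => by
      rw [mul_assoc, ← e, ← mul_assoc]
    have m2 : ∀ x : X, x * s.r P * s.r P = x := fun x => by rw [mul_assoc, cr, mul_one]
    rcases hU with rfl | rfl <;> rcases hV with rfl | rfl <;> rcases hW with rfl | rfl <;>
      simp [← mul_assoc, m1 cV, m1 cW, m2]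
  have fin : ∀ (x : X), (x = s.r A * s.r B * s.r D ∨ x = s.r A * s.r B * s.r D * s.r P) →
      ∀ y, (y = x ∨ y = x * s.r P) →
      y = s.r A * s.r B * s.r D ∨ y = s.r A * s.r B * s.r D * s.r P := by
    intro x hx y hy
    rcases hx with rfl | rfl <;> rcases hy with rfl | rfl <;> simp [mul_assoc, cr]
  rcases s.line_third ha hb hd hab had hbd ha' with rfl | rfl | rfl <;>
    rcases s.line_third ha hb hd hab had hbd hb' with rfl | rfl | rfl <;>
      rcases s.line_third ha hb hd hab had hbd hd' with rfl | rfl | rfl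
  all_goals first
    | exact absurd rfl hab'
    | exact absurd rfl had'
    | exact absurd rfl hbd'
    | skip
  · exact fin _ (Or.inl rfl) _ (step _ _ _ _ _ _ cA cB cD (o.mate ha hA hA' hPA hPA')
      (o.mate hb hB hB' hPB hPB') (o.mate hd hD hD' hPD hPD'))
  · exact fin _ (Or.inr p1) _ (step _ _ _ _ _ _ cA cD cB (o.mate ha hA hA' hPA hPA')
      (o.mate hd hD hB' hPD hPB') (o.mate hb hB hD' hPB hPD'))
  · exact fin _ (Or.inr p2) _ (step _ _ _ _ _ _ cB cA cD (o.mate hb hB hA' hPB hPA')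
      (o.mate ha hA hB' hPA hPB') (o.mate hd hD hD' hPD hPD'))
  · exact fin _ (Or.inl p3) _ (step _ _ _ _ _ _ cB cD cA (o.mate hb hB hA' hPB hPA')
      (o.mate hd hD hB' hPD hPB') (o.mate ha hA hD' hPA hPD'))
  · exact fin _ (Or.inl p4) _ (step _ _ _ _ _ _ cD cA cB (o.mate hd hD hA' hPD hPA')
      (o.mate ha hA hB' hPA hPB') (o.mate hb hB hD' hPB hPD'))
  · exact fin _ (Or.inr p5) _ (step _ _ _ _ _ _ cD cB cA (o.mate hd hD hA' hPD hPA')
      (o.mate hb hB hB' hPB hPB') (o.mate ha hA hD' hPA hPD'))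

/-- A product at `A` containing the involution of `P`. -/
theorem EvenRad.exists_c {P A : Pt} {a : Ln} (hPa : s.inc P a) (hA : s.inc A a) (hPA : P ≠ A) :
    ∃ c, s.IsC A c ∧ c • A = A ∧ c • P = P ∧ c • a = a ∧ c ∉ qp X s.inc P ∧ c * s.r P = s.r P * c := by
  have o := h.one
  obtain ⟨b, d, hb, hd, hab, had, hbd, -⟩ := s.point_lines hA
  obtain ⟨S, -, hS, -, hAS, -, -, -⟩ := s.line_points hb
  obtain ⟨R, -, hR, -, hAR, -, -, -⟩ := s.line_points hd
  refine ⟨s.r P * s.r S * s.r R, ⟨a, b, d, P, S, R, hA, hb, hd, hab, had, hbd, hPa, hS, hR,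
    hPA.symm, hAS, hAR, rfl⟩, ?_, ?_, ?_, ?_, ?_⟩
  · rw [mul_smul, mul_smul, (h.nb_fix hd hR).1, (h.nb_fix hb hS).1, (h.nb_fix hA hPa).1]
  · obtain ⟨mR1, mR2, mR3⟩ := h.moves hd hA hR hPa hAR hPA.symm had.symm
    obtain ⟨mS1, mS2, mS3⟩ := h.moves hb hA hS hPa hAS hPA.symm hab.symm
    obtain ⟨Q, hQ, hAQ, hPQ⟩ := s.third_pt hA hPa hPA.symm
    rw [mul_smul, mul_smul, s.swap_pt hA hPa hQ hPA.symm hAQ hPQ ⟨mR1, mR2⟩
      (fun hq => mR3 ((mem_ql.1 hq).2 P hPa)),
      s.swap_pt hA hQ hPa hAQ hPA.symm hPQ.symm ⟨mS1, mS2⟩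
      (fun hq => mS3 ((mem_ql.1 hq).2 P hPa)), s.r_fix]
  · rw [mul_smul, mul_smul, (h.moves hd hA hR hPa hAR hPA.symm had.symm).2.1,
      (h.moves hb hA hS hPa hAS hPA.symm hab.symm).2.1, (h.nb_fix hA hPa).2]
  · intro hq
    -- the square is `r A`, which moves a point at `P`
    set c := s.r P * s.r S * s.r R with hc
    have e1 := h.comm_nb hA hb hPa hS hPA.symm hAS hab
    have e2 := h.comm_nb hA hd hPa hR hPA.symm hAR had
    have e3 := h.comm_nb hb hd hS hR hAS hAR hbd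
    have cP := s.r_comm (P := A) (h.nb_fix hA hPa).1
    have cS := s.r_comm (P := A) (h.nb_fix hb hS).1
    have cR := s.r_comm (P := A) (h.nb_fix hd hR).1
    obtain ⟨p1, p2, p3, p4, p5⟩ := perm_mul (s.r_sq A) cP cS cR e1 e2 e3
    have hsq : c * c = s.r A := by
      calc c * c = c * (s.r R * s.r S * s.r P * s.r A) := by
            rw [p5, hc, mul_assoc _ (s.r A) (s.r A), s.r_sq, mul_one]
        _ = s.r P * (s.r S * (s.r R * s.r R) * s.r S) * s.r P * s.r A := by rw [hc]; group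
        _ = s.r A := by rw [s.r_sq, mul_one, s.r_sq, mul_one, s.r_sq, one_mul]
    obtain ⟨M, N, hM, hN, haM, haN, hMN, -⟩ := s.point_lines hPa
    obtain ⟨B, -, hB, -, hPB, -, -, -⟩ := s.line_points hM
    refine (h.moves hPa hM hA hB hPA hPB haM).2.2 ?_
    have hcM : c ∈ fl X P M := s.qp_le hM hq
    have hql : c * c ∈ ql X s.inc M := by
      by_cases hq' : c ∈ ql X s.inc M
      · exact (ql X s.inc M).mul_mem hq' hq'
      · exact s.ql_mul hM hcM hcM hq' hq'
    rw [hsq] at hql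
    exact (mem_ql.1 hql).2 B hB
  · set c := s.r P * s.r S * s.r R with hc
    obtain ⟨p1, p2, p3, p4, p5⟩ := perm_mul (s.r_sq A)
      (s.r_comm (P := A) (h.nb_fix hA hPa).1) (s.r_comm (P := A) (h.nb_fix hb hS).1)
      (s.r_comm (P := A) (h.nb_fix hd hR).1) (h.comm_nb hA hb hPa hS hPA.symm hAS hab)
      (h.comm_nb hA hd hPa hR hPA.symm hAR had) (h.comm_nb hb hd hS hR hAS hAR hbd)
    rw [hc]
    calc s.r P * s.r S * s.r R * s.r P = s.r P * (s.r S * s.r R * s.r P) := by group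
      _ = s.r P * (s.r P * s.r S * s.r R) := by rw [p3]

theorem EvenRad.ball_card {P : Pt} {a : Ln} (hPa : s.inc P a) :
    Nat.card ↥(fl X P a) ≤ 128 := by
  classical
  have o := h.one
  haveI := s.fin hPa
  obtain ⟨b, d, hb, hd, hab, had, hbd, -⟩ := s.point_lines hPa
  obtain ⟨A, A', hA, hA', hPA, hPA', hAA', -⟩ := s.line_points hPa
  obtain ⟨B, B', hB, hB', hPB, hPB', hBB', -⟩ := s.line_points hb
  obtain ⟨D, D', hD, hD', hPD, hPD', hDD', -⟩ := s.line_points hd
  have hfin : ∀ H : Subgroup X, H ≤ fl X P a → Finite ↥H := fun H hH =>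
    Finite.of_injective (Subgroup.inclusion hH) (Subgroup.inclusion_injective hH)
  haveI := hfin _ (s.qp_le hPa)
  haveI := hfin _ (s.dp_le hPa)
  have hKle : kp X s.inc P ≤ fl X P a := inf_le_left.trans (s.dp_le hPa)
  haveI := hfin _ hKle
  -- the kernel on the ball of radius two is trivial
  have hK : Nat.card ↥(kp X s.inc P) = 1 := by
    rw [Subgroup.card_eq_one, Subgroup.eq_bot_iff_forall]
    intro v hv
    refine s.adj_family_eq_one (fun Q w => w ∈ kp X s.inc Q) (fun Q w g hw => s.kp_conj hw) ?_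
      (fun Q L w hL hw => s.dp_le hL (mem_kp.1 hw).1) hv
    intro Q R L w hQ hR hne hw
    obtain ⟨S, hS, hQS, hRS⟩ := s.third_pt hQ hR hne
    obtain ⟨M, -, hM, -, hLM, -, -, -⟩ := s.point_lines hS
    obtain ⟨Y, -, hY, -, hSY, -, -, -⟩ := s.line_points hM
    obtain ⟨m1, m2, m3⟩ := h.moves hM hS hY hQ hSY hQS.symm hLM.symm
    have e : s.r Y • Q = R := s.swap_pt hS hQ hR hQS.symm hRS.symm hne ⟨m1, m2⟩
      (fun hq => m3 ((mem_ql.1 hq).2 Q hQ))
    have hc := s.dp_comm hM hY ((mem_kp.1 hw).2 L hQ S hS)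
    have := s.kp_transport hw hc.symm
    rwa [e] at this
  -- the kernel at the ball of radius one
  have hc : ∀ {g : X}, g ∈ dp X s.inc P → ∀ {Q : Pt} {L : Ln}, s.inc P L → s.inc Q L → P ≠ Q →
      ∃ c, c • P = P ∧ c • Q = Q ∧ c • L = L ∧ c ∉ qp X s.inc P ∧ c * g = g * c := by
    intro g hg Q L hL hQ hne
    obtain ⟨c, hC, hcQ, hcP, hcL, hcq, -⟩ := h.exists_c hL hQ hne
    refine ⟨c, hcP, hcQ, hcL, hcq, ?_⟩
    have hgQ := s.dp_fix hL hQ hg
    have h1 : s.IsC Q (g * c * g⁻¹) := by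
      have := o.isC_conj hC g
      rwa [hgQ] at this
    rcases h.isC_unique hC h1 with e | e
    · exact (mul_inv_eq_iff_eq_mul.1 e).symm
    exfalso
    have h2 : c⁻¹ * g * c ∈ dp X s.inc P := by
      have := s.dp_conj (g := c⁻¹) hg
      rwa [inv_smul_eq_iff.2 hcP.symm, inv_inv] at this
    have h3 : s.r Q ∈ dp X s.inc P := by
      have h4 := (dp X s.inc P).mul_mem h2 ((dp X s.inc P).inv_mem hg)
      rwa [show c⁻¹ * g * c * g⁻¹ = c⁻¹ * (g * c * g⁻¹) by group, e, inv_mul_cancel_left] at h4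
    obtain ⟨M, N, hM, -, hLM, -, -, -⟩ := s.point_lines hL
    obtain ⟨Z, -, hZ, -, hPZ, -, -, -⟩ := s.line_points hM
    exact (h.moves hL hM hQ hZ hne hPZ hLM).2.2 (s.dp_fix hM hZ h3)
  have hmate : ∀ {g : X}, g ∈ dp X s.inc P → ∀ {Q Q' R : Pt} {L M : Ln}, s.inc P L → s.inc Q L →
      s.inc Q' L → P ≠ Q → P ≠ Q' → s.inc P M → s.inc R M → P ≠ R → M ≠ L →
      g ∈ dp X s.inc Q → g ∈ dp X s.inc Q' := by
    intro g hg Q Q' R L M hL hQ hQ' n1 n2 hM hR n3 hML hgQ
    by_cases e : Q = Q'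
    · exact e ▸ hgQ
    obtain ⟨m1, m2, m3⟩ := h.moves hM hL hR hQ n3 n1 hML
    have e' : s.r R • Q = Q' := s.swap_pt hL hQ hQ' n1 n2 e ⟨m1, m2⟩
      (fun hq => m3 ((mem_ql.1 hq).2 Q hQ))
    have := s.dp_transport hgQ (s.dp_comm hM hR hg).symm
    rwa [e'] at this
  have hD1 : Nat.card ↥(dp X s.inc P) ≤ 8 * Nat.card ↥(kp X s.inc P) := by
    obtain ⟨u, w, hu, hw, hau, haw, huw, -⟩ := s.point_lines hA
    obtain ⟨U, U', hU, hU', hAU, hAU', hUU', -⟩ := s.line_points hu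
    obtain ⟨W, W', hW, hW', hAW, hAW', hWW', -⟩ := s.line_points hw
    refine (card_le_sep (S := Bool × Bool × Bool) (fun g => (decide (g • u = u),
      decide (g • U = U ∨ g • U = W), decide (g • W = U ∨ g • W = W))) ?_).trans
      (Nat.mul_le_mul_right _ (by simp))
    intro g hg k hk e
    simp only [Prod.mk.injEq, decide_eq_decide] at e
    obtain ⟨e1, e2, e3⟩ := e
    have hgA := s.dp_fix hPa hA hg
    have hkA := s.dp_fix hPa hA hk
    have hline : ∀ f : X, f • A = A → f • a = a → f • u = u ∧ f • w = w ∨ f • u = w ∧ f • w = u := by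
      intro f hfA hfa
      by_cases hq : f ∈ qp X s.inc A
      · exact Or.inl ⟨(mem_qp.1 hq).2 u hu, (mem_qp.1 hq).2 w hw⟩
      · exact Or.inr ⟨s.swap_line hA hu hw hau haw huw ⟨hfA, hfa⟩ hq,
          s.swap_line hA hw hu haw hau huw.symm ⟨hfA, hfa⟩ hq⟩
    have hga : g • a = a := (mem_qp.1 (mem_dp.1 hg).1).2 a hPa
    have hka : k • a = a := (mem_qp.1 (mem_dp.1 hk).1).2 a hPa
    have key : g • U = k • U ∧ g • W = k • W ∧ g • u = k • u := by
      have gu := hline g hgA hga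
      have ku := hline k hkA hka
      have hsame : ∀ {Z1 Z2 Z : Pt} {m : Ln}, s.inc A m → s.inc Z1 m → s.inc Z2 m → s.inc Z m →
          A ≠ Z1 → A ≠ Z2 → A ≠ Z → (Z1 = Z ↔ Z2 = Z) → Z1 = Z2 := by
        intro Z1 Z2 Z m hAm h1 h2 h3 n1 n2 n3 hiff
        by_cases e : Z1 = Z
        · rw [e, hiff.1 e]
        · obtain ⟨Z', hZ', f1, f2⟩ := s.third_pt hAm h3 n3
          rcases s.pt_third hAm h3 hZ' n3 f1 f2 h1 with r | r | r
          · exact absurd r.symm n1
          · exact absurd r e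
          rcases s.pt_third hAm h3 hZ' n3 f1 f2 h2 with t | t | t
          · exact absurd t.symm n2
          · exact absurd (hiff.2 t) e
          · rw [r, t]
      have hUW : U ≠ W := fun e =>
        huw (o.line_eq hAU hu hU hw (e ▸ hW))
      have inj : ∀ {Z1 : Pt} {m : Ln}, s.inc Z1 m → A ≠ Z1 → s.inc A m →
          (m = u → Z1 ≠ W) ∧ (m = w → Z1 ≠ U) := fun h1 n1 hm =>
        ⟨fun e e' => huw (o.line_eq n1 hu (e ▸ h1) hw (e' ▸ hW)),
          fun e e' => huw (o.line_eq n1 hu (e' ▸ hU) hw (e ▸ h1))⟩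
      have hgu : g • u = k • u := by
        rcases gu with ⟨p, q⟩ | ⟨p, q⟩ <;> rcases ku with ⟨p', q'⟩ | ⟨p', q'⟩
        · rw [p, p']
        · exact absurd (p' ▸ e1.1 p) huw.symm
        · exact absurd (p ▸ e1.2 p') huw.symm
        · rw [p, p']
      refine ⟨?_, ?_, hgu⟩
      · have i1 := s.inc_smul g hU
        have i2 := s.inc_smul k hU
        rw [← hgu] at i2
        have n1 : A ≠ g • U := hgA ▸ Sys.smul_pt_ne hAU
        have n2 : A ≠ k • U := hkA ▸ Sys.smul_pt_ne hAU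
        rcases gu with ⟨p, -⟩ | ⟨p, -⟩ <;> rw [p] at i1 i2
        · exact hsame hu i1 i2 hU n1 n2 hAU
            ⟨fun e => (e2.1 (Or.inl e)).resolve_right ((inj i2 n2 hu).1 rfl),
              fun e => (e2.2 (Or.inl e)).resolve_right ((inj i1 n1 hu).1 rfl)⟩
        · exact hsame hw i1 i2 hW n1 n2 hAW
            ⟨fun e => (e2.1 (Or.inr e)).resolve_left ((inj i2 n2 hw).2 rfl),
              fun e => (e2.2 (Or.inr e)).resolve_left ((inj i1 n1 hw).2 rfl)⟩
      · have i1 := s.inc_smul g hW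
        have i2 := s.inc_smul k hW
        have hgw : g • w = k • w := by
          rcases gu with ⟨p, q⟩ | ⟨p, q⟩ <;> rcases ku with ⟨p', q'⟩ | ⟨p', q'⟩ <;>
            rw [q, q'] <;> rw [p, p'] at hgu <;> first | exact hgu | exact hgu.symm
        rw [← hgw] at i2
        have n1 : A ≠ g • W := hgA ▸ Sys.smul_pt_ne hAW
        have n2 : A ≠ k • W := hkA ▸ Sys.smul_pt_ne hAW
        rcases gu with ⟨-, p⟩ | ⟨-, p⟩ <;> rw [p] at i1 i2
        · exact hsame hw i1 i2 hW n1 n2 hAW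
            ⟨fun e => (e3.1 (Or.inr e)).resolve_left ((inj i2 n2 hw).2 rfl),
              fun e => (e3.2 (Or.inr e)).resolve_left ((inj i1 n1 hw).2 rfl)⟩
        · exact hsame hu i1 i2 hU n1 n2 hAU
            ⟨fun e => (e3.1 (Or.inl e)).resolve_right ((inj i2 n2 hu).1 rfl),
              fun e => (e3.2 (Or.inl e)).resolve_right ((inj i1 n1 hu).1 rfl)⟩
    have hgk := (dp X s.inc P).mul_mem ((dp X s.inc P).inv_mem hg) hk
    have f1 : (g⁻¹ * k) • U = U := by rw [mul_smul, inv_smul_eq_iff, key.1]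
    have f2 : (g⁻¹ * k) • W = W := by rw [mul_smul, inv_smul_eq_iff, key.2.1]
    have f3 : (g⁻¹ * k) • u = u := by rw [mul_smul, inv_smul_eq_iff, key.2.2]
    have hfA := s.dp_fix hPa hA hgk
    have hfa := (mem_qp.1 (mem_dp.1 hgk).1).2 a hPa
    have hq := s.mem_qp_of hA hu hau ⟨hfA, hfa⟩ f3
    have hdpA : g⁻¹ * k ∈ dp X s.inc A := by
      refine mem_dp.2 ⟨hq, fun L hL => ?_⟩
      rcases s.line_third hA hu hw hau haw huw hL with rfl | rfl | rfl
      · exact (mem_dp.1 hgk).2 L hPa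
      · exact s.mem_ql_of hu hU hAU ⟨hfA, f3⟩ f1
      · exact s.mem_ql_of hw hW hAW ⟨hfA, (mem_qp.1 hq).2 _ hw⟩ f2
    -- spread to all neighbours
    obtain ⟨cB, cBP, cBB, cBb, cBq, cBc⟩ := hc hgk hb hB hPB
    have t1 : s.inc (cB • A) d := by
      have := s.inc_smul cB hA
      rwa [s.swap_line hb hPa hd hab.symm hbd had ⟨cBP, cBb⟩ cBq] at this
    have n1 : P ≠ cB • A := cBP ▸ Sys.smul_pt_ne hPA
    have g1 : g⁻¹ * k ∈ dp X s.inc (cB • A) := s.dp_transport hdpA cBc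
    obtain ⟨cA, cAP, cAA, cAa, cAq, cAc⟩ := hc hgk hPa hA hPA
    have t2 : s.inc (cA • cB • A) b := by
      have := s.inc_smul cA t1
      rwa [s.swap_line hPa hd hb had hab hbd.symm ⟨cAP, cAa⟩ cAq] at this
    have n2 : P ≠ cA • cB • A := cAP ▸ Sys.smul_pt_ne n1
    have g2 : g⁻¹ * k ∈ dp X s.inc (cA • cB • A) := s.dp_transport g1 cAc
    refine mem_kp.2 ⟨hgk, fun L hL Q hQ => ?_⟩
    by_cases hQP : Q = P
    · exact hQP ▸ hgk
    rcases s.line_third hPa hb hd hab had hbd hL with rfl | rfl | rfl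
    · exact hmate hgk hPa hA hQ hPA (Ne.symm hQP) hb hB hPB hab.symm hdpA
    · exact hmate hgk hb t2 hQ n2 (Ne.symm hQP) hPa hA hPA hab g2
    · exact hmate hgk hd t1 hQ n1 (Ne.symm hQP) hPa hA hPA had g1
  have hQ1 : Nat.card ↥(qp X s.inc P) ≤ 8 * Nat.card ↥(dp X s.inc P) := by
    refine (card_le_sep (S := Bool × Bool × Bool) (fun g => (decide (g • A = A),
      decide (g • B = B), decide (g • D = D))) ?_).trans (Nat.mul_le_mul_right _ (by simp))
    intro g hg k hk e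
    simp only [Prod.mk.injEq, decide_eq_decide] at e
    have hgk := (qp X s.inc P).mul_mem ((qp X s.inc P).inv_mem hg) hk
    have hql : ∀ {Z Z' : Pt} {m : Ln}, s.inc P m → s.inc Z m → s.inc Z' m → P ≠ Z → P ≠ Z' →
        Z ≠ Z' → (g • Z = Z ↔ k • Z = Z) → g⁻¹ * k ∈ ql X s.inc m := by
      intro Z Z' m hm hZ hZ' n1 n2 n3 hiff
      refine s.mem_ql_of hm hZ n1 (s.qp_le hm hgk) ?_
      rw [mul_smul, inv_smul_eq_iff]
      by_cases e : g • Z = Z
      · rw [e, hiff.1 e]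
      · rw [s.swap_pt hm hZ hZ' n1 n2 n3 (s.qp_le hm hg) (fun q => e ((mem_ql.1 q).2 Z hZ)),
          s.swap_pt hm hZ hZ' n1 n2 n3 (s.qp_le hm hk)
            (fun q => e (hiff.2 ((mem_ql.1 q).2 Z hZ)))]
    refine mem_dp.2 ⟨hgk, fun L hL => ?_⟩
    rcases s.line_third hPa hb hd hab had hbd hL with rfl | rfl | rfl
    · exact hql hPa hA hA' hPA hPA' hAA' e.1
    · exact hql hb hB hB' hPB hPB' hBB' e.2.1
    · exact hql hd hD hD' hPD hPD' hDD' e.2.2
  have hT : Nat.card ↥(fl X P a) ≤ 2 * Nat.card ↥(qp X s.inc P) := by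
    refine (card_le_sep (S := Bool) (fun g => decide (g • b = b)) ?_).trans
      (Nat.mul_le_mul_right _ (by simp))
    intro g hg k hk e
    simp only [decide_eq_decide] at e
    refine s.mem_qp_of hPa hb hab ((fl X P a).mul_mem ((fl X P a).inv_mem hg) hk) ?_
    rw [mul_smul, inv_smul_eq_iff]
    by_cases e' : g • b = b
    · rw [e', e.1 e']
    · rw [s.swap_line hPa hb hd hab had hbd hg (fun q => e' ((mem_qp.1 q).2 b hb)),
        s.swap_line hPa hb hd hab had hbd hk (fun q => e' (e.2 ((mem_qp.1 q).2 b hb)))]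
  omega

end

end Sys

end CfsgLib.Goldschmidt33
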