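import Cfsg.Agent.Lib.LocalEven.Goldschmidt33.Count

/-!
The odd radius: general facts.
-/

set_option autoImplicit false

namespace CfsgLib.Goldschmidt33

variable {X : Type*} [Group X] {Pt Ln : Type*} [MulAction X Pt] [MulAction X Ln]

namespace Sys

variable (s : Sys X Pt Ln)

/-- The involution of `A` moves a line at `B`. -/
def Mov (A B : Pt) : Prop := ∃ M, s.inc B M ∧ s.r A • M ≠ M

theorem IsW.exists_snoc {s : Sys X Pt Ln} {x : ℕ → Pt} {l : ℕ → Ln} {n : ℕ} (h : s.IsW x l (n + 1)) :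
    ∃ (A : Pt) (a : Ln), s.inc (x (n + 1)) a ∧ s.inc A a ∧ x (n + 1) ≠ A ∧ l n ≠ a := by
  obtain ⟨M, -, hM, -, hlM, -, -, -⟩ := s.point_lines (h.inr n n.lt_succ_self)
  obtain ⟨A, -, hA, -, e, -, -, -⟩ := s.line_points hM
  exact ⟨A, M, hM, hA, e, hlM⟩

theorem IsW.congr {s : Sys X Pt Ln} {x y : ℕ → Pt} {l m : ℕ → Ln} {n : ℕ} (h : s.IsW x l n)
    (hx : ∀ i ≤ n, y i = x i) (hl : ∀ i < n, m i = l i) : s.IsW y m n := by
  refine ⟨fun i hi => ?_, fun i hi => ?_, fun i hi => ?_, fun i hi => ?_⟩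
  · rw [hx i hi.le, hl i hi]; exact h.inl i hi
  · rw [hx (i + 1) hi, hl i hi]; exact h.inr i hi
  · rw [hx i hi.le, hx (i + 1) hi]; exact h.ne i hi
  · rw [hl i (by omega), hl (i + 1) hi]; exact h.lne i hi

variable {s} {k : ℕ} (h : s.OddRad k)

include h

theorem OddRad.fixr {x : ℕ → Pt} {l : ℕ → Ln} {n : ℕ} (hx : s.IsW x l n) (hn : n ≤ k + 1) :
    Fix (s.r (x 0)) x l n :=
  h.near hx hn (s.r_mem (x 0))

theorem OddRad.comm_walk {x : ℕ → Pt} {l : ℕ → Ln} {n : ℕ} (hx : s.IsW x l n) (hn : n ≤ k + 1) :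
    s.r (x 0) * s.r (x n) = s.r (x n) * s.r (x 0) :=
  s.r_comm ((h.fixr hx hn).1 n le_rfl)

theorem OddRad.crit_walk :
    ∃ (x : ℕ → Pt) (l : ℕ → Ln), s.IsW x l (k + 1) ∧ s.Mov (x 0) (x (k + 1)) := by
  obtain ⟨x, l, v, M, hx, hv, hM, hne⟩ := h.crit
  refine ⟨x, l, hx, M, hM, ?_⟩
  rcases h.one.mem hv with e | e
  · exact absurd (by rw [e, one_smul]) hne
  · exact e ▸ hne

theorem OddRad.swap : s.Swap (k + 1) := by
  obtain ⟨x, l, v, M, hx, hv, hM, hne⟩ := h.crit
  exact ⟨x, l, v, hx, h.near hx le_rfl hv, M, hM, hne⟩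

theorem OddRad.trans_of_flip {n : ℕ} (hn : n ≤ k) (hf : s.Flip n) : s.Trans (n + 1) :=
  s.trans_of (fun j _ hj => h.swap.mono (by omega)) fun j hj => hf.mono (by omega)

theorem OddRad.mov_of_trans (ht : s.Trans (k + 1)) {x : ℕ → Pt} {l : ℕ → Ln}
    (hx : s.IsW x l (k + 1)) : s.Mov (x 0) (x (k + 1)) := by
  obtain ⟨y, m, hy, M, hM, hne⟩ := h.crit_walk
  obtain ⟨g, hg, -⟩ := ht y m x l hy hx
  refine ⟨g • M, by rw [← hg (k + 1) le_rfl]; exact s.inc_smul g hM, ?_⟩
  rw [← hg 0 (Nat.zero_le _), ← h.one.conj]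
  simpa [mul_smul] using hne

/-- An element of the kernel at the end cannot move a point beyond. -/
theorem OddRad.noflip {x : ℕ → Pt} {l : ℕ → Ln} (hx : s.IsW x l (k + 2))
    (hn : ¬ s.Mov (x 0) (x (k + 1))) : s.r (x 0) • x (k + 2) = x (k + 2) := by
  by_contra hne
  have hx' := hx.of_le (show k + 1 ≤ k + 2 by omega)
  have hf : s.Flip (k + 1) := ⟨x, l, s.r (x 0), hx, h.fixr hx' le_rfl,
    by_contra fun e => hn ⟨_, hx.inl (k + 1) (by omega), e⟩, hne⟩
  exact hn (h.mov_of_trans (h.trans_of_flip le_rfl (hf.mono k.le_succ)) hx')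

/-- A line other than the last one is moved. -/
theorem OddRad.mov_line {x : ℕ → Pt} {l : ℕ → Ln} (hx : s.IsW x l (k + 1))
    (hm : s.Mov (x 0) (x (k + 1))) {M : Ln} (hM : s.inc (x (k + 1)) M) (hne : l k ≠ M) :
    s.r (x 0) • M ≠ M := by
  intro e
  obtain ⟨M', hM', hne'⟩ := hm
  have hf := h.fixr hx le_rfl
  exact hne' ((mem_qp.1 (s.mem_qp_of (hx.inr k k.lt_succ_self) hM hne
    ⟨hf.1 _ le_rfl, hf.2 k k.lt_succ_self⟩ e)).2 M' hM')

theorem OddRad.noncomm_iff {x : ℕ → Pt} {l : ℕ → Ln} (hx : s.IsW x l (k + 2)) :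
    s.r (x 0) * s.r (x (k + 2)) ≠ s.r (x (k + 2)) * s.r (x 0) ↔ s.Mov (x 0) (x (k + 1)) := by
  refine ⟨fun hc => ?_, fun hm hc => ?_⟩
  · by_contra hn
    exact hc (s.r_comm (h.noflip hx hn))
  · have hx' := hx.of_le (show k + 1 ≤ k + 2 by omega)
    exact h.mov_line hx' hm (hx.inl (k + 1) (by omega)) (hx.lne k (by omega))
      (h.one.fix_of_comm (hx.inl (k + 1) (by omega)) (hx.inr (k + 1) (by omega))
        (hx.ne (k + 1) (by omega)) ((h.fixr hx' le_rfl).1 _ le_rfl) hc).2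

theorem OddRad.mov_symm {x : ℕ → Pt} {l : ℕ → Ln} (hx : s.IsW x l (k + 2)) :
    s.Mov (x 0) (x (k + 1)) ↔ s.Mov (x (k + 2)) (x 1) := by
  have h1 := h.noncomm_iff hx
  have h2 := h.noncomm_iff hx.rev
  simp only [Nat.sub_zero, Nat.sub_self, show k + 2 - (k + 1) = 1 by omega] at h2
  exact h1.symm.trans ((ne_comm).trans h2)

/-- Moving only depends on the walk without its first point. -/
theorem OddRad.mov_indep {x y : ℕ → Pt} {l m : ℕ → Ln} (hx : s.IsW x l (k + 1))
    (hy : s.IsW y m (k + 1)) (hp : ∀ i, 1 ≤ i → i ≤ k + 1 → y i = x i)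
    (hlk : m k = l k) : s.Mov (x 0) (x (k + 1)) ↔ s.Mov (y 0) (y (k + 1)) := by
  obtain ⟨A, a, ha, hA, e1, e2⟩ := hx.exists_snoc
  have hx2 := hx.snoc ha hA e1 (fun _ => by simpa using e2)
  have hy2 := hy.snoc (A := A) (a := a) (by rw [hp (k + 1) (by omega) le_rfl]; exact ha) hA
    (by rw [hp (k + 1) (by omega) le_rfl]; exact e1) (fun _ => by simpa [hlk] using e2)
  have f1 := h.mov_symm hx2
  have f2 := h.mov_symm hy2
  have e0 : ∀ (f : ℕ → Pt) (i : ℕ), i < k + 2 → Goldschmidt33.snoc f (k + 1 + 1) A i = f i :=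
    fun f i hi => snoc_of_lt f A (by omega)
  have e3 : ∀ (f : ℕ → Pt), Goldschmidt33.snoc f (k + 1 + 1) A (k + 2) = A :=
    fun f => snoc_self f (k + 2) A
  simp only [e3, e0 x 0 (by omega), e0 y 0 (by omega), e0 x (k + 1) (by omega),
    e0 y (k + 1) (by omega), e0 x 1 (by omega), e0 y 1 (by omega)] at f1 f2
  rw [f1, f2, hp 1 le_rfl (by omega)]

/-- The involutions of neighbours fix the lines at the point. -/
theorem OddRad.nb_qp {P A : Pt} {a : Ln} (hP : s.inc P a) (hA : s.inc A a) :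
    s.r A ∈ qp X s.inc P := by
  by_cases hne : A = P
  · rw [hne]; exact s.zp_qp (s.r_mem P)
  refine mem_qp.2 ⟨(mem_ql.1 (s.zp_ql hA (s.r_mem A))).2 P hP, fun L hL => ?_⟩
  by_cases hLa : L = a
  · exact hLa ▸ (mem_ql.1 (s.zp_ql hA (s.r_mem A))).1
  obtain ⟨B, -, hB, -, hPB, -, -, -⟩ := s.line_points hL
  have hw : s.IsW (pre A (pre P fun _ => B)) (pre a fun _ => L) 2 := by
    refine ⟨fun i hi => ?_, fun i hi => ?_, fun i hi => ?_, fun i hi => ?_⟩
    · rcases i with _ | _ | i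
      exacts [hA, hL, absurd hi (by omega)]
    · rcases i with _ | _ | i
      exacts [hP, hB, absurd hi (by omega)]
    · rcases i with _ | _ | i
      exacts [hne, hPB, absurd hi (by omega)]
    · rcases i with _ | i
      exacts [Ne.symm hLa, absurd hi (by omega)]
  exact (h.fixr hw (by have := h.pos; omega)).2 1 (by omega)

/-- Two neighbours of a point commute. -/
theorem OddRad.comm_nb {P A B : Pt} {a b : Ln} (hPa : s.inc P a) (hA : s.inc A a)
    (hPb : s.inc P b) (hB : s.inc B b) : s.r A * s.r B = s.r B * s.r A := by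
  by_cases hA0 : A = P
  · subst hA0
    exact (s.r_comm (P := A) (mem_qp.1 (h.nb_qp hPb hB)).1).symm
  by_cases hB0 : B = P
  · subst hB0
    exact s.r_comm (P := B) (mem_qp.1 (h.nb_qp hPa hA)).1
  by_cases hab : a = b
  · subst hab
    exact s.zp_comm_line hA hB (s.r_mem A) (s.r_mem B)
  refine s.r_comm ?_
  have hw : s.IsW (pre A (pre P fun _ => B)) (pre a fun _ => b) 2 := by
    refine ⟨fun i hi => ?_, fun i hi => ?_, fun i hi => ?_, fun i hi => ?_⟩
    · rcases i with _ | _ | i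
      exacts [hA, hPb, absurd hi (by omega)]
    · rcases i with _ | _ | i
      exacts [hPa, hB, absurd hi (by omega)]
    · rcases i with _ | _ | i
      exacts [hA0, Ne.symm hB0, absurd hi (by omega)]
    · rcases i with _ | i
      exacts [hab, absurd hi (by omega)]
  exact (h.fixr hw (by have := h.pos; omega)).1 2 le_rfl

/-- The basic commutator of a moving pair, seen from both ends. -/
theorem OddRad.both_ends {x : ℕ → Pt} {l : ℕ → Ln} (hx : s.IsW x l (k + 2))
    (hm : s.Mov (x 0) (x (k + 1))) :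
    (s.inc (x (k + 1)) (s.r (x 0) • l (k + 1)) ∧
      s.inc (s.r (x 0) • x (k + 2)) (s.r (x 0) • l (k + 1)) ∧
      x (k + 1) ≠ s.r (x 0) • x (k + 2) ∧ l k ≠ s.r (x 0) • l (k + 1) ∧
      s.r (x 0) • l (k + 1) ≠ l (k + 1)) ∧
    s.r (x (k + 2)) * s.r (s.r (x 0) • x (k + 2)) =
      s.r (x (k + 2)) * s.r (x 0) * s.r (x (k + 2)) * s.r (x 0) ∧
    s.r (x (k + 2)) * s.r (s.r (x 0) • x (k + 2)) =
      s.r (x 0) * s.r (s.r (x (k + 2)) • x 0) := by
  have hx' := hx.of_le (show k + 1 ≤ k + 2 by omega)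
  have hf := h.fixr hx' le_rfl
  refine ⟨⟨s.inc_smul_left (hf.1 _ le_rfl) (hx.inl _ (by omega)),
    s.inc_smul _ (hx.inr _ (by omega)),
    fun e => hx.ne (k + 1) (by omega) (MulAction.injective (s.r (x 0)) ((hf.1 _ le_rfl).trans e)),
    fun e => hx.lne k (by omega)
      (MulAction.injective (s.r (x 0)) ((hf.2 k k.lt_succ_self).trans e)),
    h.mov_line hx' hm (hx.inl _ (by omega)) (hx.lne k (by omega))⟩, ?_, ?_⟩
  · rw [← h.one.conj_r]; group
  · have hx'' := hx.rev.of_le (show k + 1 ≤ k + 2 by omega)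
    have hf'' := h.fixr hx'' le_rfl
    have e1 : s.r (x (k + 2)) • x 1 = x 1 := by
      simpa [show k + 2 - (k + 1) = 1 by omega] using hf''.1 (k + 1) le_rfl
    have hc := h.comm_nb (hx.inr 0 (by omega)) (hx.inl 0 (by omega))
      (s.inc_smul_left e1 (hx.inr 0 (by omega))) (s.inc_smul (s.r (x (k + 2))) (hx.inl 0 (by omega)))
    rw [hc, ← h.one.conj_r, ← h.one.conj_r]
    group

/-- Shifting a moving pair by one step. -/
theorem OddRad.shift {x : ℕ → Pt} {l : ℕ → Ln} (hx : s.IsW x l (k + 1))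
    (hm : s.Mov (x 0) (x (k + 1))) :
    ∃ (y : ℕ → Pt) (m : ℕ → Ln), s.IsW y m (k + 1) ∧ (∀ i, 1 ≤ i → i ≤ k → y (i + 1) = x i) ∧
      (∀ i, i < k → m (i + 1) = l i) ∧ s.Mov (y 0) (y (k + 1)) := by
  by_contra hcon
  push Not at hcon
  have o := h.one
  have hk := h.pos
  obtain ⟨W, c, hc, hW, eW, ec⟩ := hx.exists_snoc
  have hx2 := hx.snoc hc hW eW (fun _ => by simpa using ec)
  have hx1a : s.inc (x 1) (l 0) := hx.inr 0 (by omega)
  have hx0a : s.inc (x 0) (l 0) := hx.inl 0 (by omega)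
  set u := s.r W with hu
  obtain ⟨-, -, hends⟩ := h.both_ends hx2 (by
    rw [snoc_of_lt x W (by omega), snoc_of_lt x W (by omega)]; exact hm)
  rw [show k + 2 = k + 1 + 1 from rfl, snoc_self, snoc_of_lt x W (show 0 < k + 1 + 1 by omega)]
    at hends
  have hback := h.fixr (hx2.rev.of_le (k + 1).le_succ) le_rfl
  have hu1 : u • x 1 = x 1 := by
    have := hback.1 (k + 1) le_rfl
    simp only [Nat.sub_zero, show k + 1 + 1 - (k + 1) = 1 by omega, snoc_self,
      snoc_of_lt x W (show 1 < k + 1 + 1 by omega)] at this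
    exact this
  have hua : u • l 0 ≠ l 0 := by
    intro e
    have h3 : s.Mov W (x 1) := by
      have := (h.mov_symm hx2).1 (by
        rw [snoc_of_lt x W (by omega), snoc_of_lt x W (by omega)]; exact hm)
      rwa [show k + 2 = k + 1 + 1 from rfl, snoc_self,
        snoc_of_lt x W (show 1 < k + 1 + 1 by omega)] at this
    have e1 : k + 1 + 1 - (k + 1) = 1 := by omega
    have e2 : k + 1 + 1 - 1 - k = 1 := by omega
    have e3 := snoc_of_lt x W (show 1 < k + 1 + 1 by omega)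
    have e4 := snoc_of_lt l c (show 1 < k + 1 by omega)
    have h4 := h.mov_line (hx2.rev.of_le (k + 1).le_succ)
      (by simpa [snoc_self, e1, e3] using h3) (M := l 0) (by simpa [e1, e3] using hx1a)
      (by simp only [e2, e4]; exact (hx.lne 0 (by omega)).symm)
    simp only [Nat.sub_zero, snoc_self] at h4
    exact h4 e
  set N := Subgroup.closure {v | ∃ P L R, s.inc P (l 0) ∧ s.inc P L ∧ s.inc R L ∧ v = s.r R}
    with hN
  have hgen : ∀ {P R : Pt} {L : Ln}, s.inc P (l 0) → s.inc P L → s.inc R L → s.r R ∈ N :=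
    fun hP hL hR => Subgroup.subset_closure ⟨_, _, _, hP, hL, hR, rfl⟩
  -- generators fix the start
  have hfixgen : ∀ {P R : Pt} {L : Ln}, s.inc P (l 0) → s.inc P L → s.inc R L →
      ∀ Q, s.inc Q (l 0) → s.r R • Q = Q ∧ s.r R • l 0 = l 0 := by
    intro P R L hP hL hR Q hQ
    have hfl := mem_qp.1 (h.nb_qp hL hR)
    refine ⟨?_, hfl.2 _ hP⟩
    by_cases hLa : L = l 0
    · exact (mem_ql.1 (s.zp_ql (hLa ▸ hR) (s.r_mem R))).2 Q hQ
    by_cases hQP : Q = P
    · exact hQP ▸ hfl.1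
    by_cases hRP : R = P
    · exact (mem_ql.1 (s.zp_ql (hRP ▸ hP) (s.r_mem R))).2 Q hQ
    have hw : s.IsW (pre R (pre P fun _ => Q)) (pre L fun _ => l 0) 2 := by
      refine ⟨fun i hi => ?_, fun i hi => ?_, fun i hi => ?_, fun i hi => ?_⟩
      · rcases i with _ | _ | i
        exacts [hR, hP, absurd hi (by omega)]
      · rcases i with _ | _ | i
        exacts [hL, hQ, absurd hi (by omega)]
      · rcases i with _ | _ | i
        exacts [hRP, Ne.symm hQP, absurd hi (by omega)]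
      · rcases i with _ | i
        exacts [hLa, absurd hi (by omega)]
    exact (h.fixr hw (by omega)).1 2 le_rfl
  have hNle : N ≤ fl X (x 1) (l 0) := by
    refine (Subgroup.closure_le _).2 ?_
    rintro _ ⟨P, L, R, hP, hL, hR, rfl⟩
    exact hfixgen hP hL hR _ hx1a
  haveI := s.fin hx1a
  haveI : Finite ↥N := Finite.of_injective (Subgroup.inclusion hNle)
    (Subgroup.inclusion_injective hNle)
  -- the far involution normalizes
  have hu0 : u * s.r (x 0) * u ∈ N := by
    rw [hu, o.conj_r]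
    exact hgen hx1a (s.inc_smul_left hu1 hx1a) (s.inc_smul _ hx0a)
  have hun : ∀ {P R : Pt} {L : Ln}, s.inc P (l 0) → s.inc P L → s.inc R L →
      u * s.r R * u ∈ N := by
    intro P R L hP hL hR
    by_cases hnear : P = x 1 ∨ L = l 0 ∨ R = P
    · -- a neighbour of `x 1`
      obtain ⟨L', hL', hR'⟩ : ∃ L', s.inc (x 1) L' ∧ s.inc R L' := by
        rcases hnear with rfl | rfl | rfl
        · exact ⟨L, hL, hR⟩
        · exact ⟨l 0, hx1a, hR⟩
        · exact ⟨l 0, hx1a, hP⟩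
      rw [hu, o.conj_r]
      exact hgen hx1a (s.inc_smul_left hu1 hL') (s.inc_smul _ hR')
    push Not at hnear
    obtain ⟨hP1, hLa, hRP⟩ := hnear
    have hw1 : s.IsW (pre P fun i => x (1 + i)) (pre (l 0) fun i => l (1 + i)) (k + 1) :=
      ((hx.shift (j := 1) (m := k) (by omega)).cons hP (by simpa using hx1a) (by simpa using hP1)
        fun _ => by simpa using hx.lne 0 (by omega))
    have hwR := hw1.cons hR (by simpa using hL) (by simpa using hRP) (fun _ => by simpa using hLa)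
    have hno : ¬ s.Mov R (x k) := by
      intro hmov
      refine hcon _ _ (hwR.of_le (k + 1).le_succ) (fun i hi hi' => ?_) (fun i hi => ?_) ?_
      · obtain ⟨j, rfl⟩ : ∃ j, i = j + 1 := ⟨i - 1, by omega⟩
        simp [Nat.add_comm 1 j]
      · rcases i with _ | j
        · rfl
        · simp [Nat.add_comm 1 j]
      · obtain ⟨j, rfl⟩ : ∃ j, k = j + 1 := ⟨k - 1, by omega⟩
        simpa [Nat.add_comm 1 j] using hmov
    have hfR := h.fixr (hwR.of_le (k + 1).le_succ) le_rfl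
    -- it fixes the walk
    have hp : ∀ i, i ≤ k + 1 → s.r R • x i = x i := by
      intro i hi
      rcases Nat.eq_zero_or_pos i with rfl | hi0
      · exact (hfixgen hP hL hR _ hx0a).1
      rcases Nat.lt_or_eq_of_le hi with hi1 | rfl
      · obtain ⟨j, rfl⟩ : ∃ j, i = j + 1 := ⟨i - 1, by omega⟩
        have := hfR.1 (j + 2) (by omega)
        simpa [Nat.add_comm 1 j] using this
      · have := h.noflip hwR (by
          obtain ⟨j, rfl⟩ : ∃ j, k = j + 1 := ⟨k - 1, by omega⟩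
          simpa [Nat.add_comm 1 j] using hno)
        simpa [Nat.add_comm 1 k] using this
    have hl : ∀ i, i < k + 1 → s.r R • l i = l i := by
      intro i hi
      rcases Nat.eq_zero_or_pos i with rfl | hi0
      · exact (hfixgen hP hL hR _ hx0a).2
      rcases Nat.lt_or_eq_of_le (show i ≤ k by omega) with hi1 | rfl
      · obtain ⟨j, rfl⟩ : ∃ j, i = j + 1 := ⟨i - 1, by omega⟩
        have := hfR.2 (j + 2) (by omega)
        simpa [Nat.add_comm 1 j] using this
      · by_contra hne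
        exact hno ⟨l i, hx.inl i (by omega), hne⟩
    have hfix : Fix (s.r R) x l (k + 1) := ⟨hp, hl⟩
    -- correct by the start
    obtain ⟨q, hqf, hqc, hq⟩ : ∃ q, Fix q x l (k + 1) ∧ q • c = c ∧
        (s.r R = q ∨ s.r R = q * s.r (x 0)) := by
      have hlk := hx.inr k k.lt_succ_self
      have h0fix := h.fixr hx le_rfl
      by_cases hq : s.r R ∈ qp X s.inc (x (k + 1))
      · exact ⟨_, hfix, (mem_qp.1 hq).2 c hc, Or.inl rfl⟩
      have h0 : s.r (x 0) ∉ qp X s.inc (x (k + 1)) := fun hq0 =>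
        h.mov_line hx hm hc ec ((mem_qp.1 hq0).2 c hc)
      have h12 := s.qp_mul hlk ⟨hp _ le_rfl, hl k k.lt_succ_self⟩
        ⟨h0fix.1 _ le_rfl, h0fix.2 k k.lt_succ_self⟩ hq h0
      exact ⟨_, hfix.mul h0fix, (mem_qp.1 h12).2 c hc,
        Or.inr (by rw [mul_assoc, s.r_sq, mul_one])⟩
    have hqW : q • W = W := by
      by_contra hne
      have hflip : s.Flip (k + 1) := by
        refine ⟨Goldschmidt33.snoc x (k + 1 + 1) W, Goldschmidt33.snoc l (k + 1) c, q, hx2,
          ⟨fun i hi => ?_, fun i hi => ?_⟩, ?_, ?_⟩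
        · rw [snoc_of_lt x W (by omega)]; exact hqf.1 i hi
        · rw [snoc_of_lt l c hi]; exact hqf.2 i hi
        · rw [snoc_self]; exact hqc
        · rw [snoc_self]; exact hne
      have hmov := h.mov_of_trans (h.trans_of_flip le_rfl (hflip.mono k.le_succ))
        (hwR.of_le (k + 1).le_succ)
      obtain ⟨j, rfl⟩ : ∃ j, k = j + 1 := ⟨k - 1, by omega⟩
      exact hno (by simpa [Nat.add_comm 1 j] using hmov)
    have hcu : q * u = u * q := s.r_comm hqW
    rcases hq with e | e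
    · rw [e, ← hcu, mul_assoc, hu, s.r_sq, mul_one, ← e]
      exact hgen hP hL hR
    · have : u * s.r R * u = s.r R * (s.r (x 0) * (u * s.r (x 0) * u)) := by
        rw [e]
        calc u * (q * s.r (x 0)) * u = (u * q) * s.r (x 0) * u := by group
          _ = q * (u * s.r (x 0) * u) := by rw [← hcu]; group
          _ = q * s.r (x 0) * (s.r (x 0) * (u * s.r (x 0) * u)) := by
            rw [mul_assoc q, s.r_cancel]
      rw [this]
      exact N.mul_mem (hgen hP hL hR) (N.mul_mem (hgen hx0a hx0a hx0a) hu0)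
  have hnorm : ∀ g : X, (∀ P R L, s.inc P (l 0) → s.inc P L → s.inc R L → g * s.r R * g⁻¹ ∈ N) →
      g ∈ Subgroup.normalizer (N : Set X) := by
    intro g hg
    have hle : N.map (MulAut.conj g).toMonoidHom ≤ N := by
      rw [hN, MonoidHom.map_closure, Subgroup.closure_le]
      rintro _ ⟨v, ⟨P, L, R, hP, hL, hR, rfl⟩, rfl⟩
      exact hg P R L hP hL hR
    have heq : N.map (MulAut.conj g).toMonoidHom = N := Subgroup.eq_of_le_of_card_ge hle
      (Subgroup.card_map_of_injective (MulAut.conj g).injective).ge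
    refine Subgroup.mem_normalizer_iff.2 fun n => ⟨fun hn => hle ⟨n, hn, rfl⟩, fun hn => ?_⟩
    rw [← heq] at hn
    obtain ⟨m, hm, hmn⟩ := hn
    rwa [show m = n from (MulAut.conj g).injective hmn] at hm
  have hla : ∀ g : X, g • l 0 = l 0 → g ∈ Subgroup.normalizer (N : Set X) := fun g hg =>
    hnorm g fun P R L hP hL hR => by
      rw [o.conj]
      exact hgen (s.inc_smul_right hg hP) (s.inc_smul g hL) (s.inc_smul g hR)
  have hun' : u ∈ Subgroup.normalizer (N : Set X) := hnorm u fun P R L hP hL hR => by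
    rw [show u⁻¹ = u from s.r_inv W]
    exact hun hP hL hR
  have hb := s.faithful hx1a N hNle
    (fun g hg n hn => (Subgroup.mem_normalizer_iff.1
      (s.stab_pt_le hx1a (fun t ht => hla t ht.2) hun' hu1 hua hg) n).1 hn)
    fun g hg n hn => (Subgroup.mem_normalizer_iff.1 (hla g hg) n).1 hn
  exact s.r_ne _ ((Subgroup.eq_bot_iff_forall _).1 hb _ (hgen hx0a hx0a hx0a))

end Sys

end CfsgLib.Goldschmidt33
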