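import Cfsg.Agent.Lib.LocalEven.Goldschmidt33.OddParity

/-!
The odd radius is one.
-/

set_option autoImplicit false

namespace CfsgLib.Goldschmidt33

variable {X : Type*} [Group X] {Pt Ln : Type*} [MulAction X Pt] [MulAction X Ln]

namespace Sys

variable {s : Sys X Pt Ln} {k : ℕ} (h : s.OddRad k)

include h

/-- The basic commutator lies on the line back from the far end. -/
theorem OddRad.comm_value {x : ℕ → Pt} {l : ℕ → Ln} (hx : s.IsW x l (k + 2))
    (hm : s.Mov (x 0) (x (k + 1))) :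
    s.r (x (k + 2)) * s.r (s.r (x 0) • x (k + 2)) = s.r (x k) ∨
      s.r (x (k + 2)) * s.r (s.r (x 0) • x (k + 2)) = s.r (x k) * s.r (x (k + 1)) := by
  obtain ⟨⟨e1, e2, e3, e4, e5⟩, -, -⟩ := h.both_ends hx hm
  set y := x (k + 2)
  set y' := s.r (x 0) • y
  have hC : s.IsC (x (k + 1)) (s.r (x k) * s.r y * s.r y') :=
    ⟨l k, l (k + 1), _, x k, y, y', hx.inr k (by omega), hx.inl _ (by omega), e1,
      hx.lne k (by omega), e4, Ne.symm e5, hx.inl k (by omega), hx.inr _ (by omega), e2,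
      (hx.ne k (by omega)).symm, hx.ne _ (by omega), e3, rfl⟩
  rcases h.one.mem (h.natural _ _ hC) with e | e <;> rw [mul_assoc] at e
  · left
    rw [eq_inv_of_mul_eq_one_right e, s.r_inv]
  · right
    rw [← e, s.r_cancel]

/-- For radius two all walks of three steps move. -/
theorem OddRad.mov_two (hk2 : k = 2) {x : ℕ → Pt} {l : ℕ → Ln} (hx : s.IsW x l 3) :
    s.Mov (x 0) (x 3) := by
  subst hk2
  obtain ⟨y, m, hy, hm⟩ := h.crit_walk
  obtain ⟨g, hg, hgl⟩ := h.trans_two (fun i => y (1 + i)) (fun i => m (1 + i))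
    (fun i => x (1 + i)) (fun i => l (1 + i)) (hy.shift (by omega)) (hx.shift (by omega))
  have hp : ∀ i, 1 ≤ i → i ≤ 2 + 1 → x i = g • y i := by
    intro i hi hi'
    have := hg (i - 1) (by omega)
    rw [show 1 + (i - 1) = i by omega] at this
    exact this.symm
  have hgy : s.Mov (g • y 0) (g • y 3) := by
    obtain ⟨M, hM, hne⟩ := hm
    refine ⟨g • M, s.inc_smul g hM, ?_⟩
    rw [← h.one.conj]
    simpa [mul_smul] using hne
  exact (h.mov_indep (hy.smul g) hx hp (hgl 1 (by omega)).symm).1 hgy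

/-- The value of the basic commutator for radius two. -/
theorem OddRad.value_two (hk2 : k = 2) {x : ℕ → Pt} {l : ℕ → Ln} (hx : s.IsW x l 4) :
    s.r (x 0) * s.r (x 4) * (s.r (x 0) * s.r (x 4)) = s.r (x 2) := by
  subst hk2
  have o := h.one
  have hm := h.mov_two rfl (hx.of_le (show 3 ≤ 4 by omega))
  obtain ⟨-, hA, hB⟩ := h.both_ends hx hm
  have hm' : s.Mov (x 4) (x 1) := (h.mov_symm hx).1 hm
  have hrev := h.comm_value hx.rev hm'
  change s.r (x 0) * s.r (s.r (x 4) • x 0) = s.r (x 2) ∨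
    s.r (x 0) * s.r (s.r (x 4) • x 0) = s.r (x 2) * s.r (x 1) at hrev
  have hfwd := h.comm_value hx hm
  change s.r (x 4) * s.r (s.r (x 0) • x 4) = s.r (x 2) ∨
    s.r (x 4) * s.r (s.r (x 0) • x 4) = s.r (x 2) * s.r (x 3) at hfwd
  rw [hB] at hfwd
  have e : s.r (x 0) * s.r (s.r (x 4) • x 0) = s.r (x 2) := by
    rcases hfwd with e | e
    · exact e
    rcases hrev with e' | e'
    · exact e'
    exfalso
    exact hx.lne 1 (by omega) (o.eq_of_nb (hx.inr 1 (by omega)) (hx.inl 2 (by omega))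
      (hx.inl 1 (by omega)) (hx.inr 2 (by omega)) (hx.ne 1 (by omega)).symm (hx.ne 2 (by omega))
      (mul_left_cancel (e'.symm.trans e))).2
  rw [← o.conj_r] at e
  rw [← e]
  group

theorem OddRad.ne_two : k ≠ 2 := by
  intro hk2
  subst hk2
  have o := h.one
  obtain ⟨x₀, l₀, hx₀, -⟩ := h.crit_walk
  obtain ⟨W, c, hc, hW, eW, ec⟩ := hx₀.exists_snoc
  have hx4 := hx₀.snoc hc hW eW (fun _ => by simpa using ec)
  obtain ⟨V, d, hd, hV, eV, ed⟩ := hx4.exists_snoc
  have hx := hx4.snoc hd hV eV (fun _ => by simpa using ed)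
  set x := Goldschmidt33.snoc (Goldschmidt33.snoc x₀ (2 + 1 + 1) W) (2 + 1 + 1 + 1) V
  set l := Goldschmidt33.snoc (Goldschmidt33.snoc l₀ (2 + 1) c) (2 + 1 + 1) d
  -- the far end moves the second line
  have hback : ∀ (y : ℕ → Pt) (m : ℕ → Ln), s.IsW y m 5 →
      s.IsW (pre (s.r (y 5) • y 0) (pre (s.r (y 5) • y 1) (pre (y 2) (pre (y 1) fun _ => y 0))))
        (pre (s.r (y 5) • m 0) (pre (s.r (y 5) • m 1) (pre (m 1) fun _ => m 0))) 4 := by
    intro y m hy
    have hm := h.mov_two rfl (hy.rev.of_le (show 3 ≤ 5 by omega))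
    change s.Mov (y 5) (y 2) at hm
    have hl := h.mov_line (hy.rev.of_le (show 3 ≤ 5 by omega)) hm (M := m 1) (hy.inr 1 (by omega))
      (hy.lne 1 (by omega)).symm
    change s.r (y 5) • m 1 ≠ m 1 at hl
    have h2 := (h.fixr (hy.rev.of_le (show 3 ≤ 5 by omega)) le_rfl).1 3 le_rfl
    change s.r (y 5) • y 2 = y 2 at h2
    refine ⟨fun i hi => ?_, fun i hi => ?_, fun i hi => ?_, fun i hi => ?_⟩
    · rcases i with _ | _ | _ | _ | i
      exacts [s.inc_smul _ (hy.inl 0 (by omega)), s.inc_smul _ (hy.inl 1 (by omega)),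
        hy.inr 1 (by omega), hy.inr 0 (by omega), absurd hi (by omega)]
    · rcases i with _ | _ | _ | _ | i
      exacts [s.inc_smul _ (hy.inr 0 (by omega)), s.inc_smul_left h2 (hy.inr 1 (by omega)),
        hy.inl 1 (by omega), hy.inl 0 (by omega), absurd hi (by omega)]
    · rcases i with _ | _ | _ | _ | i
      exacts [Sys.smul_pt_ne (hy.ne 0 (by omega)),
        fun e => hy.ne 1 (by omega) (MulAction.injective _ (e.trans h2.symm)),
        (hy.ne 1 (by omega)).symm, (hy.ne 0 (by omega)).symm, absurd hi (by omega)]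
    · rcases i with _ | _ | _ | i
      exacts [Sys.smul_line_ne (hy.lne 0 (by omega)), hl, (hy.lne 0 (by omega)).symm,
        absurd hi (by omega)]
  have e1 := h.value_two rfl (hback x l hx)
  change s.r (s.r (x 5) • x 0) * s.r (x 0) * (s.r (s.r (x 5) • x 0) * s.r (x 0)) = s.r (x 2) at e1
  have e2 := h.value_two rfl (hback _ _ hx.rev)
  change s.r (s.r (x 0) • x 5) * s.r (x 5) * (s.r (s.r (x 0) • x 5) * s.r (x 5)) = s.r (x 3) at e2
  rw [← o.conj_r] at e1 e2
  have e3 : s.r (x 3) = s.r (x 2) := by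
    rw [← s.r_inv (x 2), ← e1, ← e2]
    simp only [mul_inv_rev, s.r_inv, mul_assoc]
  exact hx.ne 2 (by omega) (o.eq_of_line (hx.inl 2 (by omega)) (hx.inr 2 (by omega)) e3.symm)

theorem OddRad.eq_one : k = 1 := by
  by_contra hk1
  have hk : 3 ≤ k := by
    have := h.pos
    have := h.ne_two
    omega
  have o := h.one
  obtain ⟨x₀, l, hx₀, hm₀⟩ := h.crit_walk
  obtain ⟨x, X0, b0, hx, hm, -, hX, hmX⟩ := h.double hx₀ hm₀
  -- a second shift
  obtain ⟨j, rfl⟩ : ∃ j, k = j + 1 := ⟨k - 1, by omega⟩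
  obtain ⟨z, A, b, hz, -, hzi, hA, hmA⟩ := h.double (hX.of_le (j + 1 + 1).le_succ) hmX
  obtain ⟨W, c, hc, hW, eW, ec⟩ := hx.exists_snoc
  have hx2 := hx.snoc hc hW eW (fun _ => by simpa using ec)
  have hmov : s.Mov (Goldschmidt33.snoc x (j + 1 + 1 + 1) W 0)
      (Goldschmidt33.snoc x (j + 1 + 1 + 1) W (j + 1 + 1)) := by
    rw [snoc_of_lt x W (by omega), snoc_of_lt x W (by omega)]; exact hm
  obtain ⟨-, -, hC⟩ := h.both_ends hx2 hmov
  have hval := h.comm_value hx2 hmov
  simp only [show j + 1 + 2 = j + 1 + 1 + 1 from rfl, snoc_self,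
    snoc_of_lt x W (show 0 < j + 1 + 1 + 1 by omega),
    snoc_of_lt x W (show j + 1 < j + 1 + 1 + 1 by omega),
    snoc_of_lt x W (show j + 1 + 1 < j + 1 + 1 + 1 by omega)] at hC hval
  have hW1 : s.r W • x 1 = x 1 := by
    have := (h.fixr (hx2.rev.of_le (j + 1 + 1).le_succ) le_rfl).1 (j + 1 + 1) le_rfl
    simpa only [Nat.sub_zero, show j + 1 + 1 + 1 - (j + 1 + 1) = 1 by omega, snoc_self,
      snoc_of_lt x W (show 1 < j + 1 + 1 + 1 by omega)] using this
  have hWl : s.r W • l 0 ≠ l 0 := by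
    have h3 := (h.mov_symm hx2).1 hmov
    obtain ⟨⟨-, -, -, -, f5⟩, -, -⟩ := h.both_ends hx2.rev (by
      simpa [show j + 1 + 1 + 1 - (j + 1 + 1) = 1 by omega] using h3)
    simpa only [Nat.sub_zero, show j + 1 + 1 + 1 - 1 - (j + 1 + 1) = 0 by omega, snoc_self,
      snoc_of_lt l c (Nat.succ_pos (j + 1))] using f5
  -- an element fixing the start commutes with the commutator
  have key : ∀ (Z : ℕ → Pt) (m : ℕ → Ln) (n : ℕ), s.IsW Z m (n + 2) → n + 2 ≤ j + 1 + 1 →
      Z n = x 0 → Z (n + 1) = x 1 → Z (n + 2) = s.r W • x 0 →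
      Commute (s.r (Z 0)) (s.r W * s.r (s.r (x 0) • W)) := by
    intro Z m n hZ hn z0 z1 z2
    rw [hC]
    refine Commute.mul_right ?_ ?_
    · have := h.comm_walk (hZ.of_le (show n ≤ n + 2 by omega)) (by omega)
      rwa [z0] at this
    · have := h.comm_walk hZ hn
      rwa [z2] at this
  have cX : Commute (s.r X0) (s.r W * s.r (s.r (x 0) • W)) := by
    refine key (pre X0 (pre (x 0) (pre (x 1) fun _ => s.r W • x 0)))
      (pre b0 (pre (l 0) fun _ => s.r W • l 0)) 1 ?_ (by omega) rfl rfl rfl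
    refine ⟨fun i hi => ?_, fun i hi => ?_, fun i hi => ?_, fun i hi => ?_⟩
    · rcases i with _ | _ | _ | i
      exacts [hX.inl 0 (by omega), hx.inl 0 (by omega), s.inc_smul_left hW1 (hx.inr 0 (by omega)),
        absurd hi (by omega)]
    · rcases i with _ | _ | _ | i
      exacts [hX.inr 0 (by omega), hx.inr 0 (by omega), s.inc_smul _ (hx.inl 0 (by omega)),
        absurd hi (by omega)]
    · rcases i with _ | _ | _ | i
      exacts [hX.ne 0 (by omega), hx.ne 0 (by omega),
        fun e => hx.ne 0 (by omega) (MulAction.injective _ (e.symm.trans hW1.symm)),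
        absurd hi (by omega)]
    · rcases i with _ | _ | i
      exacts [hX.lne 0 (by omega), Ne.symm hWl, absurd hi (by omega)]
  have hfX := h.fixr (hX.of_le (j + 1 + 1).le_succ) le_rfl
  rcases hval with e | e <;> rw [e] at cX
  · -- the second shift moves the line before the end
    have hz1 : z 1 = x 0 := hzi 1 le_rfl
    have hz2 : z 2 = x 1 := hzi 2 (by omega)
    have cA : Commute (s.r A) (s.r (x (j + 1))) := by
      rw [← e]
      refine key (pre A (pre (z 0) (pre (x 0) (pre (x 1) fun _ => s.r W • x 0))))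
        (pre b (pre b0 (pre (l 0) fun _ => s.r W • l 0))) 2 ?_ (by omega) rfl rfl rfl
      refine ⟨fun i hi => ?_, fun i hi => ?_, fun i hi => ?_, fun i hi => ?_⟩
      · rcases i with _ | _ | _ | _ | i
        exacts [hA.inl 0 (by omega), hz.inl 0 (by omega), hx.inl 0 (by omega),
          s.inc_smul_left hW1 (hx.inr 0 (by omega)), absurd hi (by omega)]
      · rcases i with _ | _ | _ | _ | i
        exacts [hA.inr 0 (by omega), (hz1 ▸ hz.inr 0 (by omega) :), hx.inr 0 (by omega),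
          s.inc_smul _ (hx.inl 0 (by omega)), absurd hi (by omega)]
      · rcases i with _ | _ | _ | _ | i
        exacts [hA.ne 0 (by omega), (hz1 ▸ hz.ne 0 (by omega) :), hx.ne 0 (by omega),
          fun e' => hx.ne 0 (by omega) (MulAction.injective _ (e'.symm.trans hW1.symm)),
          absurd hi (by omega)]
      · rcases i with _ | _ | _ | i
        exacts [hA.lne 0 (by omega), hX.lne 0 (by omega), Ne.symm hWl, absurd hi (by omega)]
    have hp : pre A z (j + 2) = x j := hzi (j + 1) (by omega)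
    have hzj : z (j + 1) = x j := hzi (j + 1) (by omega)
    have hfA := (h.fixr (hA.of_le (j + 1 + 1).le_succ) le_rfl).1 (j + 2) le_rfl
    change s.r A • pre A z (j + 2) = pre A z (j + 2) at hfA
    rw [hp] at hfA
    refine h.mov_line (hA.of_le (j + 1 + 1).le_succ) hmA (M := l j) ?_ ?_ ?_
    · show s.inc (pre A z (j + 2)) (l j)
      rw [hp]; exact hx.inl j (by omega)
    · exact hX.lne j (by omega)
    · exact (o.fix_of_comm (hx.inl j (by omega)) (hx.inr j (by omega)) (hx.ne j (by omega)) hfA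
        cA.eq).2
  · have hf : s.r X0 • x (j + 1) = x (j + 1) := hfX.1 (j + 1 + 1) le_rfl
    have c1 : Commute (s.r X0) (s.r (x (j + 1))) := s.r_comm hf
    have c2 : Commute (s.r X0) (s.r (x (j + 1 + 1))) := by
      have := c1.mul_right cX
      rwa [s.r_cancel] at this
    refine h.mov_line (hX.of_le (j + 1 + 1).le_succ) hmX (M := l (j + 1)) (hx.inl _ (by omega))
      (hx.lne j (by omega)) ?_
    exact (o.fix_of_comm (hx.inl _ (by omega)) (hx.inr _ (by omega)) (hx.ne _ (by omega)) hf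
      c2.eq).2

end Sys

end CfsgLib.Goldschmidt33
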