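import Cfsg.Agent.Lib.LocalEven.Goldschmidt33.OddBase

/-!
The odd radius: the involutions on the three lines at a point multiply into the centre.
-/

set_option autoImplicit false

namespace CfsgLib.Goldschmidt33

variable {X : Type*} [Group X] {Pt Ln : Type*} [MulAction X Pt] [MulAction X Ln]

namespace Sys

variable {s : Sys X Pt Ln} {k : ℕ} (h : s.OddRad k)

include h

/-- A triple in any order. -/
theorem OddRad.isC_unique {P : Pt} {c c' : X} (hc : s.IsC P c) (hc' : s.IsC P c') :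
    c' = c ∨ c' = c * s.r P := by
  have o := h.one
  obtain ⟨a, b, d, A, B, D, ha, hb, hd, hab, had, hbd, hA, hB, hD, hPA, hPB, hPD, rfl⟩ := hc
  obtain ⟨a', b', d', A', B', D', ha', hb', hd', hab', had', hbd', hA', hB', hD', hPA', hPB',
    hPD', rfl⟩ := hc'
  have cAB := h.comm_nb ha hA hb hB
  have cAD := h.comm_nb ha hA hd hD
  have cBD := h.comm_nb hb hB hd hD
  have cA : s.r A * s.r P = s.r P * s.r A := h.comm_nb ha hA ha ha
  have cB : s.r B * s.r P = s.r P * s.r B := h.comm_nb hb hB hb hb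
  have cD : s.r D * s.r P = s.r P * s.r D := h.comm_nb hd hD hd hd
  have cr := s.r_sq P
  have step : ∀ (U V W U' V' W' : X), V * s.r P = s.r P * V →
      W * s.r P = s.r P * W → (U' = U ∨ U' = U * s.r P) → (V' = V ∨ V' = V * s.r P) →
      (W' = W ∨ W' = W * s.r P) → U' * V' * W' = U * V * W ∨ U' * V' * W' = U * V * W * s.r P := by
    intro U V W U' V' W' cV cW hU hV hW
    have m1 : ∀ {x y : X}, y * s.r P = s.r P * y → x * s.r P * y = x * y * s.r P := fun {x y} e => by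
      rw [mul_assoc, ← e, ← mul_assoc]
    have m2 : ∀ x : X, x * s.r P * s.r P = x := fun x => by rw [mul_assoc, cr, mul_one]
    rcases hU with rfl | rfl <;> rcases hV with rfl | rfl <;> rcases hW with rfl | rfl <;>
      simp [← mul_assoc, m1 cV, m1 cW, m2]
  have p1 : s.r A * s.r D * s.r B = s.r A * s.r B * s.r D := by
    rw [mul_assoc, ← cBD, mul_assoc]
  have p2 : s.r B * s.r A * s.r D = s.r A * s.r B * s.r D := by rw [cAB]
  have p3 : s.r B * s.r D * s.r A = s.r A * s.r B * s.r D := by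
    rw [mul_assoc, ← cAD, ← mul_assoc, ← cAB]
  have p4 : s.r D * s.r A * s.r B = s.r A * s.r B * s.r D := by rw [← cAD, p1]
  have p5 : s.r D * s.r B * s.r A = s.r A * s.r B * s.r D := by
    rw [mul_assoc, ← cAB, ← mul_assoc, p4]
  rcases s.line_third ha hb hd hab had hbd ha' with rfl | rfl | rfl <;>
    rcases s.line_third ha hb hd hab had hbd hb' with rfl | rfl | rfl <;>
      rcases s.line_third ha hb hd hab had hbd hd' with rfl | rfl | rfl
  all_goals first
    | exact absurd rfl hab'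
    | exact absurd rfl had'
    | exact absurd rfl hbd'
    | skip
  · exact step _ _ _ _ _ _ cB cD (o.mate ha hA hA' hPA hPA')
      (o.mate hb hB hB' hPB hPB') (o.mate hd hD hD' hPD hPD')
  · rw [← p1]; exact step _ _ _ _ _ _ cD cB (o.mate ha hA hA' hPA hPA')
      (o.mate hd hD hB' hPD hPB') (o.mate hb hB hD' hPB hPD')
  · rw [← p2]; exact step _ _ _ _ _ _ cA cD (o.mate hb hB hA' hPB hPA')
      (o.mate ha hA hB' hPA hPB') (o.mate hd hD hD' hPD hPD')
  · rw [← p3]; exact step _ _ _ _ _ _ cD cA (o.mate hb hB hA' hPB hPA')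
      (o.mate hd hD hB' hPD hPB') (o.mate ha hA hD' hPA hPD')
  · rw [← p4]; exact step _ _ _ _ _ _ cA cB (o.mate hd hD hA' hPD hPA')
      (o.mate ha hA hB' hPA hPB') (o.mate hb hB hD' hPB hPD')
  · rw [← p5]; exact step _ _ _ _ _ _ cB cA (o.mate hd hD hA' hPD hPA')
      (o.mate hb hB hB' hPB hPB') (o.mate ha hA hD' hPA hPD')

/-- If naturality fails then it fails everywhere. -/
theorem OddRad.not_zp (hn : ¬ s.Natural) {P : Pt} {c : X} (hc : s.IsC P c) : c ∉ zp X P := by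
  intro hcz
  refine hn fun Q d hd => ?_
  obtain ⟨L, hL⟩ := s.pt_line P
  obtain ⟨M, hM⟩ := s.pt_line Q
  obtain ⟨g, hg, -⟩ := s.flag_trans hL hM
  have h1 := h.one.isC_conj hc g
  have h2 := zp_conj (g := g) hcz
  rw [hg] at h1 h2
  rcases h.isC_unique h1 hd with e | e <;> rw [e]
  · exact h2
  · exact (zp X Q).mul_mem h2 (s.r_mem Q)

theorem OddRad.isC_sq {P : Pt} {c : X} (hc : s.IsC P c) : c * c = 1 := by
  obtain ⟨a, b, d, A, B, D, ha, hb, hd, -, -, -, hA, hB, hD, -, -, -, rfl⟩ := hc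
  have cAB := h.comm_nb ha hA hb hB
  have cAD := h.comm_nb ha hA hd hD
  have cBD := h.comm_nb hb hB hd hD
  calc s.r A * s.r B * s.r D * (s.r A * s.r B * s.r D)
      = s.r A * (s.r B * (s.r D * s.r A)) * (s.r B * s.r D) := by group
    _ = s.r A * (s.r B * s.r A) * (s.r D * s.r B) * s.r D := by rw [← cAD]; group
    _ = (s.r A * s.r A) * (s.r B * s.r B) * (s.r D * s.r D) := by rw [← cAB, ← cBD]; group
    _ = 1 := by rw [s.r_sq, s.r_sq, s.r_sq, one_mul, one_mul]

theorem OddRad.isC_qp {P : Pt} {c : X} (hc : s.IsC P c) : c ∈ qp X s.inc P := by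
  obtain ⟨a, b, d, A, B, D, ha, hb, hd, -, -, -, hA, hB, hD, -, -, -, rfl⟩ := hc
  exact Subgroup.mul_mem _ (Subgroup.mul_mem _ (h.nb_qp ha hA) (h.nb_qp hb hB)) (h.nb_qp hd hD)

theorem OddRad.isC_comm {P Q : Pt} {l : Ln} (hP : s.inc P l) (hQ : s.inc Q l) {c : X}
    (hc : s.IsC P c) : c * s.r Q = s.r Q * c := by
  obtain ⟨a, b, d, A, B, D, ha, hb, hd, -, -, -, hA, hB, hD, -, -, -, rfl⟩ := hc
  have c1 := h.comm_nb ha hA hP hQ
  have c2 := h.comm_nb hb hB hP hQ
  have c3 := h.comm_nb hd hD hP hQ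
  calc s.r A * s.r B * s.r D * s.r Q = s.r A * (s.r B * (s.r D * s.r Q)) := by group
    _ = s.r A * ((s.r B * s.r Q) * s.r D) := by rw [c3]; group
    _ = (s.r A * s.r Q) * s.r B * s.r D := by rw [c2]; group
    _ = s.r Q * (s.r A * s.r B * s.r D) := by rw [c1]; group

/-- Two collinear points have at most one common triple product. -/
theorem OddRad.common_unique {P Q : Pt} {c c' : X} (hne : s.r P ≠ s.r Q)
    (h1 : s.IsC P c) (h2 : s.IsC Q c) (h3 : s.IsC P c') (h4 : s.IsC Q c') : c' = c := by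
  rcases h.isC_unique h1 h3 with e | e
  · exact e
  rcases h.isC_unique h2 h4 with e' | e'
  · exact e'
  exact absurd (mul_left_cancel (e.symm.trans e')) hne

/-- A triple product is not the involution of a neighbour. -/
theorem OddRad.isC_ne_nb (hn : ¬ s.Natural) {P Q : Pt} {l : Ln} (hP : s.inc P l) (hQ : s.inc Q l)
    (hne : P ≠ Q) : ¬ s.IsC P (s.r Q) := by
  intro hc
  obtain ⟨b, d, hb, hd, hlb, hld, hbd, -⟩ := s.point_lines hP
  obtain ⟨B, -, hB, -, hPB, -, -, -⟩ := s.line_points hb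
  obtain ⟨D, -, hD, -, hPD, -, -, -⟩ := s.line_points hd
  have hc' : s.IsC P (s.r Q * s.r B * s.r D) :=
    ⟨l, b, d, Q, B, D, hP, hb, hd, hlb, hld, hbd, hQ, hB, hD, hne, hPB, hPD, rfl⟩
  have hi := s.line_indep h.one hb hd hB hD hPB hPD hbd
  rcases h.isC_unique hc hc' with e | e
  · have e' : s.r B * s.r D = 1 :=
      mul_left_cancel (a := s.r Q) (by rw [← mul_assoc, e, mul_one])
    exact hi.1 (by rw [← eq_inv_of_mul_eq_one_right e' |>.trans (s.r_inv B)])
  · have e' : s.r B * s.r D = s.r P :=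
      mul_left_cancel (a := s.r Q) (by rw [← mul_assoc, e])
    refine hi.2 ?_
    rw [← h.comm_nb hb hB hb hb, ← e', s.r_cancel]

/-- Collinear points have no common triple product. -/
theorem OddRad.no_common (hn : ¬ s.Natural) {P Q : Pt} {l : Ln} (hP : s.inc P l) (hQ : s.inc Q l)
    (hne : P ≠ Q) {c : X} (h1 : s.IsC P c) (h2 : s.IsC Q c) : False := by
  have o := h.one
  have hPQ : s.r P ≠ s.r Q := fun e => hne (o.eq_of_line hP hQ e)
  obtain ⟨g, hg, hg'⟩ := s.move_pt hP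
  obtain ⟨R, hR, hPR, hQR⟩ := s.third_pt hP hQ hne
  have hgQ : g • Q = R := s.swap_pt hP hQ hR hne hPR hQR hg hg'
  have hgR : g • R = Q := s.swap_pt hP hR hQ hPR hne hQR.symm hg hg'
  have hT : c ∈ fl X P l := s.qp_le hP (h.isC_qp h1)
  have hql : ∀ t ∈ ql X s.inc l, t * c * t⁻¹ = c := by
    intro t ht
    have a1 := o.isC_conj h1 t
    have a2 := o.isC_conj h2 t
    rw [(mem_ql.1 ht).2 P hP] at a1
    rw [(mem_ql.1 ht).2 Q hQ] at a2
    exact h.common_unique hPQ h1 h2 a1 a2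
  have hsame : ∀ (e : X), (∀ t ∈ ql X s.inc l, t * e * t⁻¹ = e) → g * e * g⁻¹ = e →
      ∀ t ∈ fl X P l, t * e = e * t := by
    intro e he1 he2 t ht
    by_cases ht' : t ∈ ql X s.inc l
    · exact mul_inv_eq_iff_eq_mul.1 (he1 t ht')
    have := he1 _ (s.ql_mul hP ((fl X P l).inv_mem hg) ht
      (fun q => hg' (by simpa using (ql X s.inc l).inv_mem q)) ht')
    refine mul_inv_eq_iff_eq_mul.1 ?_
    calc t * e * t⁻¹ = g * ((g⁻¹ * t) * e * (g⁻¹ * t)⁻¹) * g⁻¹ := by group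
      _ = e := by rw [this, he2]
  have h3 : s.IsC P (g * c * g⁻¹) := by
    have := o.isC_conj h1 g
    rwa [hg.1] at this
  rcases h.isC_unique h1 h3 with e | e
  · exact h.not_zp hn h1 (s.mem_zp_of hP hT (h.isC_sq h1) (hsame c hql e))
  have hcR := h.isC_comm hP hR h1
  have hr3 : s.r R = s.r P * s.r Q := o.third hP hQ hR hne hPR hQR
  have hfix : g * (c * s.r R) * g⁻¹ = c * s.r R := by
    rw [show g * (c * s.r R) * g⁻¹ = (g * c * g⁻¹) * (g * s.r R * g⁻¹) by group, e, o.conj, hgR,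
      mul_assoc, ← hr3]
  have hfz : c * s.r R ∈ zp X P := by
    refine s.mem_zp_of hP ((fl X P l).mul_mem hT (s.ql_le hP (s.zp_ql hR (s.r_mem R)))) ?_
      (hsame _ (fun t ht => ?_) hfix)
    · calc c * s.r R * (c * s.r R) = c * (s.r R * c) * s.r R := by group
        _ = (c * c) * (s.r R * s.r R) := by rw [← hcR]; group
        _ = 1 := by rw [h.isC_sq h1, s.r_sq, one_mul]
    · rw [show t * (c * s.r R) * t⁻¹ = (t * c * t⁻¹) * (t * s.r R * t⁻¹) by group, hql t ht,
        o.conj, (mem_ql.1 ht).2 R hR]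
  rcases o.mem hfz with e' | e'
  · exact h.isC_ne_nb hn hP hR hPR (by
      rwa [eq_inv_of_mul_eq_one_left e', s.r_inv] at h1)
  · refine h.isC_ne_nb hn hP hQ hne ?_
    have : c = s.r P * s.r R := by rw [← e', mul_assoc, s.r_sq, mul_one]
    rwa [this, hr3, s.r_cancel] at h1

/-- A point is related to at most one of two mates. -/
theorem OddRad.not_two_mates (hn : ¬ s.Natural) {C A A' B : Pt} {a b : Ln} (hCa : s.inc C a)
    (hCb : s.inc C b) (hab : a ≠ b) (hA : s.inc A a) (hA' : s.inc A' a) (hB : s.inc B b)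
    (n1 : C ≠ A) (n2 : C ≠ A') (n3 : A ≠ A') (n4 : C ≠ B) {u u' : X} (hu : s.IsC B u)
    (hu1 : s.IsC A u) (hu' : s.IsC B u') (hu2 : s.IsC A' u') : False := by
  have o := h.one
  rcases h.isC_unique hu hu' with e | e
  · exact h.no_common hn hA hA' n3 hu1 (e ▸ hu2)
  subst e
  obtain ⟨d, hd, had, hbd⟩ := s.third_line hCa hCb hab
  obtain ⟨g, hg, hgq⟩ := s.exists_ql_move hCa
  have hgb : g • b = d := s.swap_line hCa hCb hd hab had hbd (s.ql_le hCa hg) hgq
  have hgA : g • A = A := (mem_ql.1 hg).2 A hA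
  have hgA' : g • A' = A' := (mem_ql.1 hg).2 A' hA'
  set D := g • B with hD
  have hDd : s.inc D d := hgb ▸ s.inc_smul g hB
  have n5 : C ≠ D := fun e => n4 (MulAction.injective g ((((mem_ql.1 hg).2 C hCa)).trans e))
  have k1 : s.IsC A (g * u * g⁻¹) := by
    have := o.isC_conj hu1 g
    rwa [hgA] at this
  have k2 : s.IsC A' ((g * u * g⁻¹) * s.r D) := by
    have := o.isC_conj hu2 g
    rw [hgA', show g * (u * s.r B) * g⁻¹ = (g * u * g⁻¹) * (g * s.r B * g⁻¹) by group, o.conj]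
      at this
    exact this
  have hA'r : s.r A' = s.r C * s.r A := o.third hCa hA hA' n1 n2 n3
  have hind := s.line_indep o hCb hd hB hDd n4 n5 hbd
  have htriple : s.r A' * s.r B * s.r D ∉ zp X C ∧ s.r A * s.r B * s.r D ∉ zp X C :=
    ⟨h.not_zp hn ⟨a, b, d, A', B, D, hCa, hCb, hd, hab, had, hbd, hA', hB, hDd, n2, n4, n5, rfl⟩,
      h.not_zp hn ⟨a, b, d, A, B, D, hCa, hCb, hd, hab, had, hbd, hA, hB, hDd, n1, n4, n5, rfl⟩⟩
  have cBA' := h.comm_nb hCb hB hCa hA'
  have cBA := h.comm_nb hCb hB hCa hA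
  rcases h.isC_unique hu1 k1 with e | e <;> rw [e] at k2 <;>
    rcases h.isC_unique hu2 k2 with e' | e'
  · exact hind.1 (mul_left_cancel e')
  · rw [mul_assoc] at e'
    have e2 := mul_left_cancel e'
    refine htriple.1 ?_
    rw [e2, show s.r A' * s.r B * (s.r B * s.r A') = s.r A' * (s.r B * s.r B) * s.r A' by group,
      s.r_sq, mul_one, s.r_sq]
    exact one_mem _
  · rw [mul_assoc] at e'
    have e2 := mul_left_cancel e'
    refine htriple.2 ?_
    rw [show s.r A * s.r B * s.r D = s.r B * (s.r A * s.r D) by rw [← mul_assoc, cBA],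
      e2, s.r_sq]
    exact one_mem _
  · rw [mul_assoc, mul_assoc] at e'
    have e2 : s.r A * s.r D = s.r B * s.r A' := mul_left_cancel e'
    refine hind.2 ?_
    calc s.r D = s.r A * (s.r A * s.r D) := (s.r_cancel A _).symm
      _ = s.r A * (s.r B * (s.r C * s.r A)) := by rw [e2, hA'r]
      _ = s.r A * (s.r B * s.r A * s.r C) := by
        rw [← h.comm_nb hCa hA hCa hCa, mul_assoc]
      _ = s.r A * (s.r A * (s.r B * s.r C)) := by rw [cBA, mul_assoc]
      _ = s.r C * s.r B := by rw [s.r_cancel, h.comm_nb hCb hB hCb hCb]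

/-- Naturality for radius one. -/
theorem OddRad.natural_one (hk1 : k = 1) : s.Natural := by
  by_contra hn
  subst hk1
  have o := h.one
  obtain ⟨x, l, hx, hm⟩ := h.crit_walk
  obtain ⟨W, c, hc, hW, eW, ec⟩ := hx.exists_snoc
  have hx2 := hx.snoc hc hW eW (fun _ => by simpa using ec)
  set y := Goldschmidt33.snoc x (1 + 1 + 1) W
  set m := Goldschmidt33.snoc l (1 + 1) c
  have hmov : s.Mov (y 0) (y 2) := hm
  obtain ⟨⟨e1, e2, e3, e4, e5⟩, -, hC⟩ := h.both_ends hx2 hmov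
  have hsym : s.Mov (y 3) (y 1) := (h.mov_symm hx2).1 hmov
  obtain ⟨⟨f1, f2, f3, f4, f5⟩, -, -⟩ := h.both_ends hx2.rev hsym
  change s.inc (y 1) (s.r (y 3) • m 0) at f1
  change s.inc (s.r (y 3) • y 0) (s.r (y 3) • m 0) at f2
  change y 1 ≠ s.r (y 3) • y 0 at f3
  change m 1 ≠ s.r (y 3) • m 0 at f4
  change s.r (y 3) • m 0 ≠ m 0 at f5
  set C0 := s.r (y 3) * s.r (s.r (y 0) • y 3) with hC0
  have u2 : s.IsC (y 2) (s.r (y 1) * C0) :=
    ⟨m 1, m 2, s.r (y 0) • m 2, y 1, y 3, s.r (y 0) • y 3, hx2.inr 1 (by omega),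
      hx2.inl 2 (by omega), e1, hx2.lne 1 (by omega), e4, Ne.symm e5, hx2.inl 1 (by omega),
      hx2.inr 2 (by omega), e2, (hx2.ne 1 (by omega)).symm, hx2.ne 2 (by omega), e3,
      by rw [hC0, mul_assoc]⟩
  have u1 : s.IsC (y 1) (s.r (y 2) * C0) :=
    ⟨m 1, m 0, s.r (y 3) • m 0, y 2, y 0, s.r (y 3) • y 0, hx2.inl 1 (by omega),
      hx2.inr 0 (by omega), f1, (hx2.lne 0 (by omega)).symm, f4, Ne.symm f5, hx2.inr 1 (by omega),
      hx2.inl 0 (by omega), f2, hx2.ne 1 (by omega), (hx2.ne 0 (by omega)).symm, f3,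
      by rw [hC, mul_assoc]⟩
  have ec1 := h.isC_comm (hx2.inl 1 (by omega)) (hx2.inl 1 (by omega)) u1
  have ec2 := h.isC_comm (hx2.inr 1 (by omega)) (hx2.inr 1 (by omega)) u2
  refine h.no_common hn (hx2.inl 1 (by omega)) (hx2.inr 1 (by omega)) (hx2.ne 1 (by omega))
    (o.isC_mul u1) ?_
  have := o.isC_mul u2
  rw [ec2] at this
  rw [ec1]
  rwa [show s.r (y 1) * (s.r (y 2) * C0) = s.r (y 2) * (s.r (y 1) * C0) by
    rw [← mul_assoc, s.zp_comm_line (hx2.inl 1 (by omega)) (hx2.inr 1 (by omega)) (s.r_mem _)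
      (s.r_mem _), mul_assoc]]

end Sys

end CfsgLib.Goldschmidt33
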