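import Cfsg.Agent.Lib.LocalEven.Goldschmidt33.OddNatural

/-!
The odd radius: naturality in general, parity, and transitivity on walks of two steps.
-/

set_option autoImplicit false

namespace CfsgLib.Goldschmidt33

variable {X : Type*} [Group X] {Pt Ln : Type*} [MulAction X Pt] [MulAction X Ln]

namespace Sys

variable {s : Sys X Pt Ln} {k : ℕ} (h : s.OddRad k)

include h

/-- A moving pair with a further one shifted by a step. -/
theorem OddRad.double {x : ℕ → Pt} {l : ℕ → Ln} (hx : s.IsW x l (k + 1))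
    (hm : s.Mov (x 0) (x (k + 1))) :
    ∃ (z : ℕ → Pt) (A : Pt) (b : Ln), s.IsW z l (k + 1) ∧ s.Mov (z 0) (z (k + 1)) ∧
      (∀ i, 1 ≤ i → z i = x i) ∧
      s.IsW (pre A z) (pre b l) (k + 2) ∧ s.Mov A (z k) := by
  obtain ⟨y, m, hy, hyx, hml, hmov⟩ := h.shift hx hm
  have hk := h.pos
  set z : ℕ → Pt := fun i => if i = 0 then y 1 else x i with hz
  have hz0 : z 0 = y 1 := rfl
  have hzi : ∀ i, 1 ≤ i → z i = x i := fun i hi => if_neg (by omega)
  have hm1 : m 1 = l 0 := hml 0 (by omega)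
  have hy2 : y 2 = x 1 := hyx 1 le_rfl hk
  have hzw : s.IsW z l (k + 1) := by
    refine ⟨fun i hi => ?_, fun i hi => ?_, fun i hi => ?_, hx.lne⟩
    · rcases i with _ | i
      · rw [hz0, ← hm1]; exact hy.inl 1 (by omega)
      · rw [hzi _ (by omega)]; exact hx.inl _ hi
    · rw [hzi _ (by omega)]; exact hx.inr i hi
    · rcases i with _ | i
      · rw [hz0, hzi 1 le_rfl, ← hy2]; exact hy.ne 1 (by omega)
      · rw [hzi _ (by omega), hzi _ (by omega)]; exact hx.ne _ hi
  refine ⟨z, y 0, m 0, hzw, (h.mov_indep hx hzw (fun i hi _ => hzi i hi) rfl).1 hm, hzi,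
    hzw.cons (hy.inl 0 (by omega)) (hz0 ▸ hy.inr 0 (by omega)) (hz0 ▸ hy.ne 0 (by omega))
      (fun _ => hm1 ▸ hy.lne 0 (by omega)), ?_⟩
  rw [hzi k hk, ← hyx k hk le_rfl]
  exact hmov

/-- Neighbours of two collinear points commute. -/
theorem OddRad.comm_three (hk : 2 ≤ k) {A A' R R' : Pt} {a L L' : Ln} (hA : s.inc A a)
    (hA' : s.inc A' a) (hne : A ≠ A') (hL : s.inc A L) (hR : s.inc R L) (hL' : s.inc A' L')
    (hR' : s.inc R' L') : s.r R * s.r R' = s.r R' * s.r R := by
  by_cases hR0 : R = A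
  · exact h.comm_nb hA' (hR0 ▸ hA) hL' hR'
  by_cases hR0' : R' = A'
  · exact h.comm_nb hL hR hA (hR0' ▸ hA')
  by_cases hLa : L = a
  · exact h.comm_nb hA' (hLa ▸ hR) hL' hR'
  by_cases hLa' : L' = a
  · exact h.comm_nb hL hR hA (hLa' ▸ hR')
  have hw : s.IsW (pre R (pre A (pre A' fun _ => R'))) (pre L (pre a fun _ => L')) 3 := by
    refine ⟨fun i hi => ?_, fun i hi => ?_, fun i hi => ?_, fun i hi => ?_⟩
    · rcases i with _ | _ | _ | i
      exacts [hR, hA, hL', absurd hi (by omega)]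
    · rcases i with _ | _ | _ | i
      exacts [hL, hA', hR', absurd hi (by omega)]
    · rcases i with _ | _ | _ | i
      exacts [hR0, hne, Ne.symm hR0', absurd hi (by omega)]
    · rcases i with _ | _ | i
      exacts [hLa, Ne.symm hLa', absurd hi (by omega)]
  exact h.comm_walk hw (by omega)

theorem OddRad.natural : s.Natural := by
  by_cases hk1 : k = 1
  · exact h.natural_one hk1
  have hk : 2 ≤ k := by have := h.pos; omega
  by_contra hn
  have o := h.one
  obtain ⟨x₀, l, hx₀, hm₀⟩ := h.crit_walk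
  obtain ⟨x, X0, b0, hx, hm, -, hX, hmX⟩ := h.double hx₀ hm₀
  obtain ⟨W, c, hc, hW, eW, ec⟩ := hx.exists_snoc
  have hx2 := hx.snoc hc hW eW (fun _ => by simpa using ec)
  obtain ⟨⟨e1, e2, e3, e4, e5⟩, -, hC⟩ := h.both_ends hx2 (by
    rw [snoc_of_lt x W (by omega), snoc_of_lt x W (by omega)]; exact hm)
  simp only [show k + 2 = k + 1 + 1 from rfl, snoc_self, snoc_of_lt x W (show 0 < k + 1 + 1 by omega),
    snoc_of_lt x W (show k + 1 < k + 1 + 1 by omega), snoc_of_lt l c (show k < k + 1 by omega)]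
    at e1 e2 e3 e4 e5 hC
  -- names
  set P := x k
  set A := x (k + 1)
  set a := l k
  set g := s.r X0 with hg
  have hPa : s.inc P a := hx.inl k (by omega)
  have hAa : s.inc A a := hx.inr k (by omega)
  have hPA : P ≠ A := hx.ne k (by omega)
  have hfX := h.fixr (hX.of_le (k + 1).le_succ) le_rfl
  have hgP : g • P = P := hfX.1 (k + 1) le_rfl
  obtain ⟨j, hj⟩ : ∃ j, k = j + 1 := ⟨k - 1, by omega⟩
  set d := l j with hd
  have hPd : s.inc P d := by
    have := hx.inr j (by omega)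
    rwa [← hj] at this
  have hda : d ≠ a := by
    have := hx.lne j (by omega)
    rwa [← hj] at this
  have hgd : g • d = d := by
    have := hfX.2 (j + 1) (by omega)
    simpa using this
  have hga : g • a ≠ a :=
    h.mov_line (hX.of_le (k + 1).le_succ) hmX hPa (by rw [hj]; exact hda)
  set b := g • a with hb
  have hPb : s.inc P b := s.inc_smul_left hgP hPa
  have hbd : b ≠ d := fun e => hda (MulAction.injective g (hgd.trans e.symm))
  -- the commutator
  set C0 := s.r W * s.r (s.r (x 0) • W) with hC0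
  set u := s.r P * C0 with hu
  have huA : s.IsC A u :=
    ⟨a, c, s.r (x 0) • c, P, W, s.r (x 0) • W, hAa, hc, by simpa [snoc_self] using e1, ec,
      by simpa [snoc_self] using e4, by simpa [snoc_self] using (Ne.symm e5), hPa, hW,
      by simpa [snoc_self] using e2, hPA.symm, eW, e3, by rw [hu, hC0, mul_assoc]⟩
  have hgu : g * u * g⁻¹ = u := by
    refine mul_inv_eq_iff_eq_mul.2 ?_
    have c1 : g * s.r P = s.r P * g := s.r_comm hgP
    have c2 : g * s.r (x 0) = s.r (x 0) * g := s.r_comm (hfX.1 1 (by omega))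
    have hW1 : s.r W • x 1 = x 1 := by
      have := (h.fixr (hx2.rev.of_le (k + 1).le_succ) le_rfl).1 (k + 1) le_rfl
      simpa only [Nat.sub_zero, show k + 1 + 1 - (k + 1) = 1 by omega, snoc_self,
        snoc_of_lt x W (show 1 < k + 1 + 1 by omega)] using this
    have hWl : s.r W • l 0 ≠ l 0 := by
      have h3 := (h.mov_symm hx2).1 (by
        rw [snoc_of_lt x W (by omega), snoc_of_lt x W (by omega)]; exact hm)
      obtain ⟨⟨-, -, -, -, f5⟩, -, -⟩ := h.both_ends hx2.rev (by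
        simpa [show k + 1 + 1 - (k + 1) = 1 by omega] using h3)
      simpa only [Nat.sub_zero, show k + 1 + 1 - 1 - (k + 1) = 0 by omega, snoc_self,
        snoc_of_lt l c (Nat.succ_pos k)] using f5
    have c3 : g * s.r (s.r W • x 0) = s.r (s.r W • x 0) * g := by
      have h1a := hx.inr 0 (by omega)
      have hw : s.IsW (pre X0 (pre (x 0) (pre (x 1) fun _ => s.r W • x 0)))
          (pre b0 (pre (l 0) fun _ => s.r W • l 0)) 3 := by
        refine ⟨fun i hi => ?_, fun i hi => ?_, fun i hi => ?_, fun i hi => ?_⟩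
        · rcases i with _ | _ | _ | i
          exacts [hX.inl 0 (by omega), hx.inl 0 (by omega), s.inc_smul_left hW1 h1a,
            absurd hi (by omega)]
        · rcases i with _ | _ | _ | i
          exacts [hX.inr 0 (by omega), h1a, s.inc_smul _ (hx.inl 0 (by omega)),
            absurd hi (by omega)]
        · rcases i with _ | _ | _ | i
          exacts [hX.ne 0 (by omega), hx.ne 0 (by omega),
            fun e => hx.ne 0 (by omega) (MulAction.injective _ (e.symm.trans hW1.symm)),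
            absurd hi (by omega)]
        · rcases i with _ | _ | i
          exacts [hX.lne 0 (by omega), Ne.symm hWl, absurd hi (by omega)]
      exact h.comm_walk hw (by omega)
    rw [hu, hC]
    calc g * (s.r P * (s.r (x 0) * s.r (s.r W • x 0)))
        = g * s.r P * (s.r (x 0) * s.r (s.r W • x 0)) := by group
      _ = s.r P * (g * s.r (x 0)) * s.r (s.r W • x 0) := by rw [c1]; group
      _ = s.r P * s.r (x 0) * (g * s.r (s.r W • x 0)) := by rw [c2]; group
      _ = s.r P * (s.r (x 0) * s.r (s.r W • x 0)) * g := by rw [c3]; group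
  set A1 := g • A with hA1
  have hA1b : s.inc A1 b := s.inc_smul g hAa
  have hPA1 : P ≠ A1 := hgP ▸ Sys.smul_pt_ne hPA
  have huA1 : s.IsC A1 u := by
    have := o.isC_conj huA g
    rwa [hgu] at this
  have rne : ∀ {Z Z' : Pt} {m m' : Ln}, s.inc P m → s.inc P m' → m ≠ m' → s.inc Z m → s.inc Z' m' →
      P ≠ Z → P ≠ Z' → s.r Z ≠ s.r Z' := fun hm hm' hne hZ hZ' n n' e =>
    (s.line_indep o hm hm' hZ hZ' n n' hne).1 e.symm
  -- the third line
  obtain ⟨t, ht, htq⟩ := s.exists_ql_move hPa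
  have htb : t • b = d :=
    s.swap_line hPa hPb hPd (Ne.symm hga) hda.symm hbd (s.ql_le hPa ht) htq
  set A2 := t • A1 with hA2
  have hA2d : s.inc A2 d := htb ▸ s.inc_smul t hA1b
  have htP := (mem_ql.1 ht).2 P hPa
  have htA := (mem_ql.1 ht).2 A hAa
  have hPA2 : P ≠ A2 := htP ▸ Sys.smul_pt_ne hPA1
  have hgA2 : g • A2 = A2 := by
    obtain ⟨j', hj'⟩ : ∃ j', j' = j := ⟨j, rfl⟩
    have hxd : s.inc (x j) d := hx.inl j (by omega)
    have hne : P ≠ x j := by
      have := (hx.ne j (by omega)).symm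
      rwa [← hj] at this
    exact (mem_ql.1 (s.mem_ql_of hPd hxd hne ⟨hgP, hgd⟩ (by
      have := hfX.1 (j + 1) (by omega)
      simpa using this))).2 A2 hA2d
  set v := t * u * t⁻¹ with hv
  have hvA : s.IsC A v := by
    have := o.isC_conj huA t
    rwa [htA] at this
  have hvA2 : s.IsC A2 v := o.isC_conj huA1 t
  have hwA1 : s.IsC A1 (g * v * g⁻¹) := o.isC_conj hvA g
  have hwA2 : s.IsC A2 (g * v * g⁻¹) := by
    have := o.isC_conj hvA2 g
    rwa [hgA2] at this
  have hvu : v = u := by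
    rcases h.isC_unique huA hvA with e | e
    · exact e
    exfalso
    have e' : g * v * g⁻¹ = u * s.r A1 := by
      rw [e, show g * (u * s.r A) * g⁻¹ = g * u * g⁻¹ * (g * s.r A * g⁻¹) by group, hgu, o.conj]
    rw [e'] at hwA2
    rw [e] at hvA2
    rcases h.isC_unique hvA2 hwA2 with f | f
    · exact rne hPa hPb (Ne.symm hga) hAa hA1b hPA hPA1 (mul_left_cancel f).symm
    · rw [mul_assoc u] at f
      refine h.not_zp hn ⟨a, b, d, A, A1, A2, hPa, hPb, hPd, Ne.symm hga, hda.symm, hbd, hAa, hA1b,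
        hA2d, hPA, hPA1, hPA2, rfl⟩ ?_
      rw [mul_left_cancel f, ← mul_assoc, s.r_sq, one_mul, s.r_sq]
      exact one_mem _
  have huA2 : s.IsC A2 u := hvu ▸ hvA2
  -- the mates
  obtain ⟨A', hA'a, hPA', hAA'⟩ := s.third_pt hPa hAa hPA
  obtain ⟨A1', hA1'b, hPA1', hA11'⟩ := s.third_pt hPb hA1b hPA1
  obtain ⟨A2', hA2'd, hPA2', hA22'⟩ := s.third_pt hPd hA2d hPA2
  obtain ⟨f, hf, hf'⟩ := s.move_pt hPa
  have hfA : f • A = A' := s.swap_pt hPa hAa hA'a hPA hPA' hAA' hf hf'
  set u' := f * u * f⁻¹ with hu'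
  have hu'A : s.IsC A' u' := by
    have := o.isC_conj huA f
    rwa [hfA] at this
  -- what is related to `A` is not related to `A'`
  have excl : ∀ {Z : Pt} {m : Ln}, s.inc P m → a ≠ m → s.inc Z m → P ≠ Z → ∀ {e e' : X},
      s.IsC Z e → s.IsC A e → s.IsC Z e' → s.IsC A' e' → False :=
    fun hm ham hZ nZ _ _ p1 p2 p3 p4 =>
      h.not_two_mates hn hPa hm ham hAa hA'a hZ hPA hPA' hAA' nZ p1 p2 p3 p4
  have hother : ∀ {Z : Pt} {m : Ln}, s.inc P m → a ≠ m → s.inc Z m → P ≠ Z → ∀ {e : X},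
      s.IsC Z e → s.IsC A' e → Z = A1' ∨ Z = A2' := by
    intro Z m hm ham hZ nZ e p1 p2
    rcases s.line_third hPa hPb hPd (Ne.symm hga) hda.symm hbd hm with rfl | rfl | rfl
    · exact absurd rfl ham
    · rcases s.pt_third hPb hA1b hA1'b hPA1 hPA1' hA11' hZ with r | r | r
      · exact absurd r.symm nZ
      · exact (excl hPb ham hZ nZ (r ▸ huA1) huA p1 p2).elim
      · exact Or.inl r
    · rcases s.pt_third hPd hA2d hA2'd hPA2 hPA2' hA22' hZ with r | r | r
      · exact absurd r.symm nZ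
      · exact (excl hPd ham hZ nZ (r ▸ huA2) huA p1 p2).elim
      · exact Or.inr r
  have hfP := hf.1
  have hfa := hf.2
  have hab : a ≠ b := Ne.symm hga
  have nfb : a ≠ f • b := fun e => hab (MulAction.injective f (hfa.trans e))
  have nfd : a ≠ f • d := fun e => hda (MulAction.injective f (hfa.trans e)).symm
  have ib : s.inc P (f • b) := s.inc_smul_left hfP hPb
  have id' : s.inc P (f • d) := s.inc_smul_left hfP hPd
  have q1 : s.IsC (f • A1) u' := o.isC_conj huA1 f
  have q2 : s.IsC (f • A2) u' := o.isC_conj huA2 f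
  have p1 := hother ib nfb (s.inc_smul f hA1b) (hfP ▸ Sys.smul_pt_ne hPA1) q1 hu'A
  have p2 := hother id' nfd (s.inc_smul f hA2d) (hfP ▸ Sys.smul_pt_ne hPA2) q2 hu'A
  have hne12 : f • A1 ≠ f • A2 := fun e => hbd (o.line_eq hPA1 hPb hA1b hPd
    (by rw [MulAction.injective f e]; exact hA2d))
  obtain ⟨hu'1, hu'2⟩ : s.IsC A1' u' ∧ s.IsC A2' u' := by
    rcases p1 with r | r <;> rcases p2 with r' | r'
    · exact absurd (r.trans r'.symm) hne12
    · exact ⟨r ▸ q1, r' ▸ q2⟩
    · exact ⟨r' ▸ q2, r ▸ q1⟩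
    · exact absurd (r.trans r'.symm) hne12
  -- the stabilizer of the flag permutes `u` and `u'`
  have himg : ∀ k ∈ fl X P a, (k • A = A → k * u * k⁻¹ = u) ∧ (k • A' = A → k * u' * k⁻¹ = u) ∧
      (k • A = A' → k * u * k⁻¹ = u') ∧ (k • A' = A' → k * u' * k⁻¹ = u') := by
    intro k hk
    have ibk : s.inc P (k • b) := s.inc_smul_left hk.1 hPb
    have nbk : a ≠ k • b := fun e => hab (MulAction.injective k (hk.2.out.trans e))
    have toA : ∀ {e : X} {Z : Pt}, s.inc Z (k • b) → P ≠ Z → s.IsC Z e → s.IsC A e → e = u := by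
      intro e Z hZ nZ z1 z2
      rcases s.line_third hPa hPb hPd hab hda.symm hbd ibk with r | r | r
      · exact absurd r.symm nbk
      · rw [r] at hZ
        rcases s.pt_third hPb hA1b hA1'b hPA1 hPA1' hA11' hZ with q | q | q
        · exact absurd q.symm nZ
        · subst q
          exact h.common_unique (rne hPb hPa hga hA1b hAa hPA1 hPA) huA1 huA z1 z2
        · subst q
          exact (excl hPb hab hZ nZ z1 z2 hu'1 hu'A).elim
      · rw [r] at hZ
        rcases s.pt_third hPd hA2d hA2'd hPA2 hPA2' hA22' hZ with q | q | q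
        · exact absurd q.symm nZ
        · subst q
          exact h.common_unique (rne hPd hPa hda hA2d hAa hPA2 hPA) huA2 huA z1 z2
        · subst q
          exact (excl hPd hda.symm hZ nZ z1 z2 hu'2 hu'A).elim
    have toA' : ∀ {e : X} {Z : Pt}, s.inc Z (k • b) → P ≠ Z → s.IsC Z e → s.IsC A' e → e = u' := by
      intro e Z hZ nZ z1 z2
      rcases hother ibk nbk hZ nZ z1 z2 with q | q <;> subst q
      · exact h.common_unique (rne hPb hPa hga hA1'b hA'a hPA1' hPA') hu'1 hu'A z1 z2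
      · exact h.common_unique (rne hPd hPa hda hA2'd hA'a hPA2' hPA') hu'2 hu'A z1 z2
    have i1 : s.inc (k • A1) (k • b) := s.inc_smul k hA1b
    have i1' : s.inc (k • A1') (k • b) := s.inc_smul k hA1'b
    have m1 : P ≠ k • A1 := hk.1.out ▸ Sys.smul_pt_ne hPA1
    have m1' : P ≠ k • A1' := hk.1.out ▸ Sys.smul_pt_ne hPA1'
    refine ⟨fun e => toA i1 m1 (o.isC_conj huA1 k) ?_, fun e => toA i1' m1' (o.isC_conj hu'1 k) ?_,
      fun e => toA' i1 m1 (o.isC_conj huA1 k) ?_, fun e => toA' i1' m1' (o.isC_conj hu'1 k) ?_⟩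
    · have := o.isC_conj huA k; rwa [e] at this
    · have := o.isC_conj hu'A k; rwa [e] at this
    · have := o.isC_conj huA k; rwa [e] at this
    · have := o.isC_conj hu'A k; rwa [e] at this
  have hfl : ∀ {Z : Pt}, s.inc Z a → P ≠ Z → ∀ {e : X}, s.IsC Z e → e ∈ fl X P a := by
    intro Z hZ nZ e he
    exact ⟨(o.fix_of_comm hZ hPa nZ.symm (mem_qp.1 (h.isC_qp he)).1 (h.isC_comm hZ hPa he)).1,
      (mem_qp.1 (h.isC_qp he)).2 a hZ⟩
  have hcomm : u * u' = u' * u := by
    obtain ⟨L1, L2, L3, R1, R2, R3, i1, i2, i3, -, -, -, j1, j2, j3, -, -, -, eu⟩ := huA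
    obtain ⟨M1, M2, M3, S1, S2, S3, k1, k2, k3, -, -, -, o1, o2, o3, -, -, -, eu'⟩ := hu'A
    have cg : ∀ {R : Pt} {L : Ln}, s.inc A L → s.inc R L → Commute (s.r R) u' := fun hL hR => by
      rw [eu']
      exact ((show Commute _ _ from h.comm_three hk hAa hA'a hAA' hL hR k1 o1).mul_right
        (h.comm_three hk hAa hA'a hAA' hL hR k2 o2)).mul_right
        (h.comm_three hk hAa hA'a hAA' hL hR k3 o3)
    rw [eu]
    exact (((cg i1 j1).mul_left (cg i2 j2)).mul_left (cg i3 j3)).eq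
  have hz2 : u * u' * (u * u') = 1 := by
    calc u * u' * (u * u') = u * (u' * u) * u' := by group
      _ = (u * u) * (u' * u') := by rw [← hcomm]; group
      _ = 1 := by rw [h.isC_sq huA, h.isC_sq hu'A, one_mul]
  have hzc : ∀ k ∈ fl X P a, k * (u * u') = u * u' * k := by
    intro k hk
    refine mul_inv_eq_iff_eq_mul.1 ?_
    rw [show k * (u * u') * k⁻¹ = (k * u * k⁻¹) * (k * u' * k⁻¹) by group]
    obtain ⟨i1, i2, i3, i4⟩ := himg k hk
    by_cases e : k • A = A
    · have e' : k • A' = A' := (mem_ql.1 (s.mem_ql_of hPa hAa hPA hk e)).2 A' hA'a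
      rw [i1 e, i4 e']
    · have hq : k ∉ ql X s.inc a := fun q => e ((mem_ql.1 q).2 A hAa)
      rw [i3 (s.swap_pt hPa hAa hA'a hPA hPA' hAA' hk hq),
        i2 (s.swap_pt hPa hA'a hAa hPA' hPA hAA'.symm hk hq), hcomm]
  have hz := s.mem_zp_of hPa ((fl X P a).mul_mem (hfl hAa hPA huA) (hfl hA'a hPA' hu'A)) hz2 hzc
  rcases o.mem hz with e | e
  · refine h.no_common hn hAa hA'a hAA' huA ?_
    rwa [eq_inv_of_mul_eq_one_left e, inv_eq_of_mul_eq_one_right (h.isC_sq hu'A)]
  · have e' : u' = u * s.r P := by rw [← e, ← mul_assoc, h.isC_sq huA, one_mul]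
    refine h.no_common hn hAa hA'a hAA' (o.isC_mul huA) ?_
    have := o.isC_mul hu'A
    rwa [e', o.third hPa hAa hA'a hPA hPA' hAA', mul_assoc, s.r_cancel] at this

/-- An element of the kernel at a point flips an even number of its lines. -/
theorem OddRad.parity {P A B D : Pt} {a b d : Ln} (hPa : s.inc P a) (hPb : s.inc P b)
    (hPd : s.inc P d) (hab : a ≠ b) (had : a ≠ d) (hbd : b ≠ d) (hA : s.inc A a) (hB : s.inc B b)
    (hD : s.inc D d) (nA : P ≠ A) (nB : P ≠ B) (nD : P ≠ D) {g : X} (hg : g ∈ qp X s.inc P)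
    (hgA : g • A = A) (hgB : g • B ≠ B) : g • D ≠ D := by
  intro hgD
  have o := h.one
  have hC : s.IsC P (s.r A * s.r B * s.r D) :=
    ⟨a, b, d, A, B, D, hPa, hPb, hPd, hab, had, hbd, hA, hB, hD, nA, nB, nD, rfl⟩
  have hfix := zp_conj_fix (mem_qp.1 hg).1 (h.natural P _ hC)
  rw [show g * (s.r A * s.r B * s.r D) * g⁻¹ =
    (g * s.r A * g⁻¹) * (g * s.r B * g⁻¹) * (g * s.r D * g⁻¹) by group, o.conj, o.conj, o.conj,
    hgA, hgD] at hfix
  have e := mul_left_cancel (mul_right_cancel hfix)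
  have hgb : g • b = b := (mem_qp.1 hg).2 b hPb
  exact hgB (o.eq_of_line (s.inc_smul_right hgb hB) hB e)

theorem OddRad.flip_one : s.Flip 1 := by
  have o := h.one
  obtain ⟨P, a, hPa⟩ := s.exists_flag
  obtain ⟨g, hg, hg'⟩ := s.exists_qp_move hPa
  obtain ⟨b, d, hPb, hPd, hab, had, hbd, -⟩ := s.point_lines hPa
  obtain ⟨A, A', hA, hA', nA, nA', nAA, -⟩ := s.line_points hPa
  obtain ⟨B, B', hB, hB', nB, nB', nBB, -⟩ := s.line_points hPb
  obtain ⟨D, D', hD, hD', nD, nD', nDD, -⟩ := s.line_points hPd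
  have hgA : g • A ≠ A := fun e => hg' (s.mem_ql_of hPa hA nA (s.qp_le hPa hg) e)
  obtain ⟨Z, m, hPm, hma, hZ, nZ, hgZ⟩ : ∃ (Z : Pt) (m : Ln), s.inc P m ∧ m ≠ a ∧ s.inc Z m ∧
      P ≠ Z ∧ g • Z = Z := by
    by_cases eB : g • B = B
    · exact ⟨B, b, hPb, hab.symm, hB, nB, eB⟩
    by_cases eD : g • D = D
    · exact ⟨D, d, hPd, had.symm, hD, nD, eD⟩
    exfalso
    have hC : ∀ {R S T : Pt}, s.inc R a → s.inc S b → s.inc T d → P ≠ R → P ≠ S → P ≠ T →
        s.r R * s.r S * s.r T ∈ zp X P := fun i j l' n1 n2 n3 =>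
      h.natural P _ ⟨a, b, d, _, _, _, hPa, hPb, hPd, hab, had, hbd, i, j, l', n1, n2, n3, rfl⟩
    have hfix := zp_conj_fix (mem_qp.1 hg).1 (hC hA hB hD nA nB nD)
    rw [show g * (s.r A * s.r B * s.r D) * g⁻¹ =
      (g * s.r A * g⁻¹) * (g * s.r B * g⁻¹) * (g * s.r D * g⁻¹) by group, o.conj, o.conj, o.conj,
      s.swap_pt hPa hA hA' nA nA' nAA (s.qp_le hPa hg) hg',
      s.swap_pt hPb hB hB' nB nB' nBB (s.qp_le hPb hg) (fun q => eB ((mem_ql.1 q).2 B hB)),
      s.swap_pt hPd hD hD' nD nD' nDD (s.qp_le hPd hg) (fun q => eD ((mem_ql.1 q).2 D hD)),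
      o.third hPa hA hA' nA nA' nAA, o.third hPb hB hB' nB nB' nBB,
      o.third hPd hD hD' nD nD' nDD] at hfix
    have cA := h.comm_nb hPa hA hPa hPa
    have cB := h.comm_nb hPb hB hPb hPb
    refine s.r_ne P (mul_eq_right.1 (?_ : s.r P * (s.r A * s.r B * s.r D) = _))
    conv_rhs => rw [← hfix]
    calc s.r P * (s.r A * s.r B * s.r D)
        = s.r P * s.r A * (s.r P * (s.r P * s.r B)) * s.r D := by rw [s.r_cancel]; group
      _ = s.r P * s.r A * (s.r P * (s.r B * s.r P)) * s.r D := by rw [cB]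
      _ = s.r P * s.r A * (s.r P * s.r B) * (s.r P * s.r D) := by group
  refine ⟨pre Z (pre P fun _ => A), pre m fun _ => a, g, ⟨fun i hi => ?_, fun i hi => ?_,
    fun i hi => ?_, fun i hi => ?_⟩, ⟨fun i hi => ?_, fun i hi => ?_⟩, (mem_qp.1 hg).2 a hPa, hgA⟩
  · rcases i with _ | _ | i
    exacts [hZ, hPa, absurd hi (by omega)]
  · rcases i with _ | _ | i
    exacts [hPm, hA, absurd hi (by omega)]
  · rcases i with _ | _ | i
    exacts [nZ.symm, nA, absurd hi (by omega)]
  · rcases i with _ | i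
    exacts [hma, absurd hi (by omega)]
  · rcases i with _ | _ | i
    exacts [hgZ, (mem_qp.1 hg).1, absurd hi (by omega)]
  · rw [show i = 0 by omega]; exact (mem_qp.1 hg).2 m hPm

theorem OddRad.trans_two : s.Trans 2 := h.trans_of_flip h.pos h.flip_one

end Sys

end CfsgLib.Goldschmidt33
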