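import Cfsg.Agent.Lib.LocalEven.Goldschmidt33.OddFive

/-!
Radius one and odd: the flag stabilizer has order at most 128.
-/

set_option autoImplicit false

namespace CfsgLib.Goldschmidt33

variable {X : Type*} [Group X] {Pt Ln : Type*} [MulAction X Pt] [MulAction X Ln]

/-- A power with exponent zero or one. -/
def bp (x : X) (e : Bool) : X := if e then x else 1

theorem bp_identity {P A B : X} (hP : P * P = 1) (hA : A * A = 1) (hB : B * B = 1)
    (hAP : A * P = P * A) (hBP : B * P = P * B) (hBA : B * A = A * B) (e n e' n' : Bool) :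
    bp A e' * bp P n' * (bp (A * B * P) e * bp P n) * (bp B e' * bp P n') =
      bp (A * B * P) (xor e e') * bp P (xor n e') := by
  have cP : ∀ y, P * (P * y) = y := fun y => by rw [← mul_assoc, hP, one_mul]
  have cA : ∀ y, A * (A * y) = y := fun y => by rw [← mul_assoc, hA, one_mul]
  have cB : ∀ y, B * (B * y) = y := fun y => by rw [← mul_assoc, hB, one_mul]
  have l1 : ∀ y, A * (P * y) = P * (A * y) := fun y => by rw [← mul_assoc, hAP, mul_assoc]
  have l2 : ∀ y, B * (P * y) = P * (B * y) := fun y => by rw [← mul_assoc, hBP, mul_assoc]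
  have l3 : ∀ y, B * (A * y) = A * (B * y) := fun y => by rw [← mul_assoc, hBA, mul_assoc]
  cases e <;> cases n <;> cases e' <;> cases n' <;>
    simp [bp, mul_assoc, cP, cA, cB, l1, l2, l3, hP, hA, hB, hAP, hBP, hBA]

theorem bp_mul {P A : X} (hP : P * P = 1) (hA : A * A = 1) (hAP : A * P = P * A)
    (e n e' n' : Bool) :
    bp A e * bp P n * (bp A e' * bp P n') = bp A (xor e e') * bp P (xor n n') := by
  have cP : ∀ y, P * (P * y) = y := fun y => by rw [← mul_assoc, hP, one_mul]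
  have cA : ∀ y, A * (A * y) = y := fun y => by rw [← mul_assoc, hA, one_mul]
  have l1 : ∀ y, A * (P * y) = P * (A * y) := fun y => by rw [← mul_assoc, hAP, mul_assoc]
  cases e <;> cases n <;> cases e' <;> cases n' <;>
    simp [bp, mul_assoc, cP, cA, l1, hP, hA, hAP]

theorem bp_inj {P A : X} (hP : P * P = 1) (hP1 : P ≠ 1) (hA1 : A ≠ 1) (hne : A ≠ P)
    {e n e' n' : Bool} (h : bp A e * bp P n = bp A e' * bp P n') : e = e' ∧ n = n' := by
  have h1 : A * P ≠ 1 := fun e =>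
    hne ((eq_inv_of_mul_eq_one_left e).trans (inv_eq_of_mul_eq_one_right hP))
  revert h
  cases e <;> cases n <;> cases e' <;> cases n' <;>
    simp [bp, hP1, hA1, hne, h1, Ne.symm hP1, Ne.symm hA1, Ne.symm hne, Ne.symm h1]

namespace Sys

variable (s : Sys X Pt Ln)

/-- The commutator of `g` with the involution of `Y`. -/
noncomputable def dl (g : X) (Y : Pt) : X := s.r Y * (g * s.r Y * g⁻¹)

theorem conj_r_eq (g : X) (Y : Pt) : g * s.r Y * g⁻¹ = s.r Y * s.dl g Y :=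
  (s.r_cancel Y _).symm

variable {s} {k : ℕ} (h : s.OddRad k)

include h

theorem OddRad.mov_all {A B R : Pt} {a b : Ln} (hAa : s.inc A a) (hBa : s.inc B a) (hBb : s.inc B b)
    (hRb : s.inc R b) (hAB : A ≠ B) (hBR : B ≠ R) (hab : a ≠ b) : s.Mov A R := by
  obtain rfl := h.eq_one
  have hw : s.IsW (pre A (pre B fun _ => R)) (pre a fun _ => b) 2 := by
    refine ⟨fun i hi => ?_, fun i hi => ?_, fun i hi => ?_, fun i hi => ?_⟩
    · rcases i with _ | _ | i
      exacts [hAa, hBb, absurd hi (by omega)]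
    · rcases i with _ | _ | i
      exacts [hBa, hRb, absurd hi (by omega)]
    · rcases i with _ | _ | i
      exacts [hAB, hBR, absurd hi (by omega)]
    · rcases i with _ | i
      exacts [hab, absurd hi (by omega)]
  exact h.mov_of_trans h.trans_two hw

/-- The image of the far end of a walk of three steps. -/
theorem OddRad.image_far {x : ℕ → Pt} {l : ℕ → Ln} (hx : s.IsW x l 3) :
    s.r (s.r (x 0) • x 3) = s.r (x 3) * s.r (x 2) * s.r (x 1) ∧
      s.r (x 0) • l 1 = l 1 ∧ s.r (x 0) • x 2 = x 2 ∧ s.r (x 0) • l 2 ≠ l 2 := by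
  obtain rfl := h.eq_one
  have o := h.one
  have hx2 := hx.of_le (show 2 ≤ 3 by omega)
  have hm := h.mov_of_trans h.trans_two hx2
  have hm' := h.mov_of_trans h.trans_two (hx.rev.of_le (show 2 ≤ 3 by omega))
  obtain ⟨⟨e1, e2, e3, e4, e5⟩, -, hC⟩ := h.both_ends hx hm
  change s.r (x 3) * s.r (s.r (x 0) • x 3) = s.r (x 0) * s.r (s.r (x 3) • x 0) at hC
  have hfwd := h.comm_value hx hm
  change s.r (x 3) * s.r (s.r (x 0) • x 3) = s.r (x 1) ∨
    s.r (x 3) * s.r (s.r (x 0) • x 3) = s.r (x 1) * s.r (x 2) at hfwd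
  have hrev := h.comm_value hx.rev hm'
  change s.r (x 0) * s.r (s.r (x 3) • x 0) = s.r (x 2) ∨
    s.r (x 0) * s.r (s.r (x 3) • x 0) = s.r (x 2) * s.r (x 1) at hrev
  rw [← hC] at hrev
  have c12 := s.zp_comm_line (hx.inl 1 (by omega)) (hx.inr 1 (by omega)) (s.r_mem (x 1))
    (s.r_mem (x 2))
  have e : s.r (x 3) * s.r (s.r (x 0) • x 3) = s.r (x 2) * s.r (x 1) := by
    rcases hfwd with e | e
    · rcases hrev with e' | e'
      · exact absurd (o.eq_of_line (hx.inl 1 (by omega)) (hx.inr 1 (by omega)) (e.symm.trans e'))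
          (hx.ne 1 (by omega))
      · exact e'
    · exact e.trans c12
  refine ⟨?_, (h.fixr hx2 le_rfl).2 1 (by omega), (h.fixr hx2 le_rfl).1 2 le_rfl, e5⟩
  rw [mul_assoc, ← e, s.r_cancel]

omit h in
theorem dp_fix_za {P A : Pt} {a : Ln} (hP : s.inc P a) (hA : s.inc A a) {g : X}
    (hg : g ∈ dp X s.inc P) (e n : Bool) :
    g * (bp (s.r A) e * bp (s.r P) n) = bp (s.r A) e * bp (s.r P) n * g := by
  have c1 := s.dp_comm hP hA hg
  have c2 := s.dp_comm hP hP hg
  have e1 : Commute g (bp (s.r A) e) := by cases e <;> simp [bp, Commute, SemiconjBy, c1]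
  have e2 : Commute g (bp (s.r P) n) := by cases n <;> simp [bp, Commute, SemiconjBy, c2]
  exact (e1.mul_right e2).eq

/-- Two neighbours of `A` off the line to `P` differ by an element of the line. -/
theorem OddRad.nb_coset {P A R S : Pt} {a b d : Ln} (hPa : s.inc P a) (hAa : s.inc A a)
    (hPA : P ≠ A) (hAb : s.inc A b) (hRb : s.inc R b) (hab : a ≠ b) (hAR : A ≠ R)
    (hAd : s.inc A d) (hSd : s.inc S d) (had : a ≠ d) (hAS : A ≠ S) :
    ∃ e n, s.r S = s.r R * (bp (s.r A) e * bp (s.r P) n) := by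
  have o := h.one
  by_cases hbd : b = d
  · subst hbd
    rcases o.mate hAb hRb hSd hAR hAS with e | e
    · exact ⟨false, false, by simp [bp, e]⟩
    · exact ⟨true, false, by simp [bp, e]⟩
  have hC : s.IsC A (s.r P * s.r R * s.r S) :=
    ⟨a, b, d, P, R, S, hAa, hAb, hAd, hab, had, hbd, hPa, hRb, hSd, hPA.symm, hAR, hAS, rfl⟩
  have cPR := h.comm_nb hAb hRb hAa hPa
  rcases o.mem (h.natural A _ hC) with e | e
  · refine ⟨false, true, ?_⟩
    have e' := eq_inv_of_mul_eq_one_right e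
    rw [mul_inv_rev, s.r_inv, s.r_inv] at e'
    simp [bp, e']
  · refine ⟨true, true, ?_⟩
    have cA : s.r R * s.r A = s.r A * s.r R := h.comm_nb hAb hRb hAb hAb
    have cPA : s.r P * s.r A = s.r A * s.r P := s.zp_comm_line hPa hAa (s.r_mem P) (s.r_mem A)
    calc s.r S = s.r R * (s.r P * (s.r P * s.r R * s.r S)) := by
          rw [mul_assoc (s.r P), s.r_cancel, s.r_cancel]
      _ = _ := by rw [e, cPA]; simp [bp]

theorem OddRad.dl_mem {P A R : Pt} {a b : Ln} (hPa : s.inc P a) (hAa : s.inc A a) (hPA : P ≠ A)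
    (hAb : s.inc A b) (hRb : s.inc R b) (hab : a ≠ b) (hAR : A ≠ R) {g : X}
    (hg : g ∈ dp X s.inc P) : ∃ e n, s.dl g R = bp (s.r A) e * bp (s.r P) n := by
  have hgA := s.dp_fix hPa hAa hg
  have hga := (mem_qp.1 (mem_dp.1 hg).1).2 a hPa
  obtain ⟨e, n, he⟩ := h.nb_coset hPa hAa hPA hAb hRb hab hAR (s.inc_smul_left hgA hAb)
    (s.inc_smul g hRb) (fun e => hab (MulAction.injective g (hga.trans e)))
    (hgA ▸ Sys.smul_pt_ne hAR)
  exact ⟨e, n, by rw [dl, h.one.conj, he, s.r_cancel]⟩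

theorem OddRad.dl_indep {P A R S : Pt} {a b d : Ln} (hPa : s.inc P a) (hAa : s.inc A a)
    (hPA : P ≠ A) (hAb : s.inc A b) (hRb : s.inc R b) (hab : a ≠ b) (hAR : A ≠ R)
    (hAd : s.inc A d) (hSd : s.inc S d) (had : a ≠ d) (hAS : A ≠ S) {g : X}
    (hg : g ∈ dp X s.inc P) : s.dl g S = s.dl g R := by
  obtain ⟨e, n, he⟩ := h.nb_coset hPa hAa hPA hAb hRb hab hAR hAd hSd had hAS
  obtain ⟨e', n', he'⟩ := h.dl_mem hPa hAa hPA hAb hRb hab hAR hg
  have cAP : s.r A * s.r P = s.r P * s.r A := s.zp_comm_line hAa hPa (s.r_mem A) (s.r_mem P)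
  have hinv : (bp (s.r A) e * bp (s.r P) n)⁻¹ = bp (s.r A) e * bp (s.r P) n :=
    inv_eq_of_mul_eq_one_right (by
      rw [bp_mul (s.r_sq P) (s.r_sq A) cAP, Bool.xor_self, Bool.xor_self]; simp [bp])
  have hz := dp_fix_za hPa hAa hg e n
  have hc : s.dl g R * (bp (s.r A) e * bp (s.r P) n) = bp (s.r A) e * bp (s.r P) n * s.dl g R := by
    rw [he', bp_mul (s.r_sq P) (s.r_sq A) cAP, bp_mul (s.r_sq P) (s.r_sq A) cAP, Bool.xor_comm e,
      Bool.xor_comm n]
  set z := bp (s.r A) e * bp (s.r P) n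
  have hS : g * s.r S * g⁻¹ = s.r S * s.dl g R := by
    rw [he]
    calc g * (s.r R * z) * g⁻¹ = (g * s.r R * g⁻¹) * (g * z) * g⁻¹ := by group
      _ = s.r R * s.dl g R * z := by rw [hz, s.conj_r_eq]; group
      _ = s.r R * z * s.dl g R := by rw [mul_assoc, hc, ← mul_assoc]
  rw [dl, hS, s.r_cancel]

theorem OddRad.dl_mul {P A R : Pt} {a b : Ln} (hPa : s.inc P a) (hAa : s.inc A a) (hPA : P ≠ A)
    (hAb : s.inc A b) (hRb : s.inc R b) (hab : a ≠ b) (hAR : A ≠ R) {g g' : X}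
    (hg : g ∈ dp X s.inc P) (hg' : g' ∈ dp X s.inc P) :
    s.dl (g * g') R = s.dl g R * s.dl g' R := by
  obtain ⟨e, n, he⟩ := h.dl_mem hPa hAa hPA hAb hRb hab hAR hg'
  have hz := dp_fix_za hPa hAa hg e n
  rw [← he] at hz
  have : g * g' * s.r R * (g * g')⁻¹ = s.r R * (s.dl g R * s.dl g' R) := by
    calc g * g' * s.r R * (g * g')⁻¹ = g * (g' * s.r R * g'⁻¹) * g⁻¹ := by group
      _ = (g * s.r R * g⁻¹) * (g * s.dl g' R) * g⁻¹ := by rw [s.conj_r_eq g']; group
      _ = s.r R * (s.dl g R * s.dl g' R) := by rw [hz, s.conj_r_eq g]; group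
  rw [dl, this, s.r_cancel]

/-- The relation between the data at two lines and at the third. -/
theorem OddRad.relation {P A B R S : Pt} {a b : Ln} {la lb : Ln} (hPa : s.inc P a)
    (hAa : s.inc A a) (hPA : P ≠ A) (hPb : s.inc P b) (hBb : s.inc B b) (hPB : P ≠ B)
    (hab : a ≠ b) (hAl : s.inc A la) (hRl : s.inc R la) (hla : a ≠ la) (hAR : A ≠ R)
    (hBl : s.inc B lb) (hSl : s.inc S lb) (hlb : b ≠ lb) (hBS : B ≠ S) {g : X}
    (hg : g ∈ dp X s.inc P) {e n e' n' : Bool}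
    (h1 : s.dl g R = bp (s.r A) e * bp (s.r P) n) (h2 : s.dl g S = bp (s.r B) e' * bp (s.r P) n') :
    ∃ (T U : Pt) (t u : Ln), s.inc P t ∧ s.inc T t ∧ P ≠ T ∧ a ≠ t ∧ b ≠ t ∧ s.inc T u ∧
      s.inc U u ∧ t ≠ u ∧ T ≠ U ∧ s.r T = s.r A * s.r B * s.r P ∧
      s.dl g U = bp (s.r T) (xor e e') * bp (s.r P) (xor n e') := by
  have o := h.one
  have wA : s.IsW (pre S (pre B (pre P fun _ => A))) (pre lb (pre b fun _ => a)) 3 := by
    refine ⟨fun i hi => ?_, fun i hi => ?_, fun i hi => ?_, fun i hi => ?_⟩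
    · rcases i with _ | _ | _ | i
      exacts [hSl, hBb, hPa, absurd hi (by omega)]
    · rcases i with _ | _ | _ | i
      exacts [hBl, hPb, hAa, absurd hi (by omega)]
    · rcases i with _ | _ | _ | i
      exacts [hBS.symm, hPB.symm, hPA, absurd hi (by omega)]
    · rcases i with _ | _ | i
      exacts [hlb.symm, hab.symm, absurd hi (by omega)]
  have wB : s.IsW (pre R (pre A (pre P fun _ => B))) (pre la (pre a fun _ => b)) 3 := by
    refine ⟨fun i hi => ?_, fun i hi => ?_, fun i hi => ?_, fun i hi => ?_⟩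
    · rcases i with _ | _ | _ | i
      exacts [hRl, hAa, hPb, absurd hi (by omega)]
    · rcases i with _ | _ | _ | i
      exacts [hAl, hPa, hBb, absurd hi (by omega)]
    · rcases i with _ | _ | _ | i
      exacts [hAR.symm, hPA.symm, hPB, absurd hi (by omega)]
    · rcases i with _ | _ | i
      exacts [hla.symm, hab, absurd hi (by omega)]
  obtain ⟨iA, ib, iP, iAne⟩ := h.image_far wA
  change s.r (s.r S • A) = s.r A * s.r P * s.r B at iA
  change s.r S • b = b at ib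
  change s.r S • P = P at iP
  change s.r S • a ≠ a at iAne
  obtain ⟨iB, -, -, -⟩ := h.image_far wB
  change s.r (s.r R • B) = s.r B * s.r P * s.r A at iB
  have cAP : s.r A * s.r P = s.r P * s.r A := s.zp_comm_line hAa hPa (s.r_mem A) (s.r_mem P)
  have cBP : s.r B * s.r P = s.r P * s.r B := s.zp_comm_line hBb hPb (s.r_mem B) (s.r_mem P)
  have cBA : s.r B * s.r A = s.r A * s.r B := h.comm_nb hPb hBb hPa hAa
  have hT : s.r A * s.r P * s.r B = s.r A * s.r B * s.r P := by rw [mul_assoc, ← cBP, mul_assoc]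
  have hT' : s.r B * s.r P * s.r A = s.r A * s.r B * s.r P := by
    rw [mul_assoc, ← cAP, ← mul_assoc, cBA]
  set T := s.r S • A with hTdef
  rw [hT] at iA
  rw [hT'] at iB
  refine ⟨T, s.r S • R, s.r S • a, s.r S • la, s.inc_smul_left iP hPa, s.inc_smul _ hAa,
    fun e => hPA (MulAction.injective (s.r S) (iP.trans e)), Ne.symm iAne,
    fun e => hab (MulAction.injective (s.r S) (ib.trans e)).symm, s.inc_smul _ hAl,
    s.inc_smul _ hRl, Sys.smul_line_ne hla, Sys.smul_pt_ne hAR, iA, ?_⟩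
  have k1 : s.r R * s.r B * s.r R = s.r T := by rw [o.conj_r, iB, ← iA]
  have k2 : s.r S * s.r A * s.r S = s.r T := o.conj_r S A
  have k3 : s.r S * s.r T * s.r S = s.r A := by
    rw [← k2]
    rw [show s.r S * (s.r S * s.r A * s.r S) * s.r S =
      (s.r S * s.r S) * s.r A * (s.r S * s.r S) by group, s.r_sq, one_mul, mul_one]
  have cRP : s.r R * s.r P * s.r R = s.r P := by
    rw [h.comm_nb hAl hRl hAa hPa, mul_assoc, s.r_sq, mul_one]
  have cSP : s.r S * s.r P * s.r S = s.r P := by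
    rw [h.comm_nb hBl hSl hBb hPb, mul_assoc, s.r_sq, mul_one]
  have conj2 : ∀ (q : Pt) (x y x' y' : X), s.r q * x * s.r q = x' → s.r q * y * s.r q = y' →
      ∀ i j : Bool, s.r q * (bp x i * bp y j) * s.r q = bp x' i * bp y' j := by
    intro q x y x' y' hx hy i j
    have he : ∀ (z z' : X), s.r q * z * s.r q = z' → ∀ i : Bool, s.r q * bp z i * s.r q = bp z' i := by
      intro z z' hz i
      cases i <;> simp [bp, hz, s.r_sq]
    rw [show s.r q * (bp x i * bp y j) * s.r q = s.r q * bp x i * (bp y j * s.r q) by group,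
      show s.r q * bp x i * (bp y j * s.r q) =
        (s.r q * bp x i * s.r q) * (s.r q * bp y j * s.r q) by
        conv_rhs => rw [show s.r q * bp x i * s.r q * (s.r q * bp y j * s.r q) =
          s.r q * bp x i * (s.r q * s.r q) * (bp y j * s.r q) by group, s.r_sq, mul_one],
      he x x' hx i, he y y' hy j]
  rw [dl, ← o.conj_r]
  set Sg := s.r S with hSg
  set Rg := s.r R with hRg
  set zA := bp (s.r A) e * bp (s.r P) n
  set zB := bp (s.r B) e' * bp (s.r P) n'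
  have gS : g * Sg * g⁻¹ = Sg * zB := by rw [← h2, hSg]; exact s.conj_r_eq g S
  have gR : g * Rg * g⁻¹ = Rg * zA := by rw [← h1, hRg]; exact s.conj_r_eq g R
  have hSS : Sg * Sg = 1 := s.r_sq S
  have hRR : Rg * Rg = 1 := s.r_sq R
  calc Sg * Rg * Sg * (g * (Sg * Rg * Sg) * g⁻¹)
      = Sg * Rg * Sg * ((g * Sg * g⁻¹) * (g * Rg * g⁻¹) * (g * Sg * g⁻¹)) := by group
    _ = Sg * Rg * (Sg * Sg) * zB * Rg * zA * Sg * zB := by rw [gS, gR]; group
    _ = Sg * (Rg * zB * Rg) * zA * Sg * zB := by rw [hSS, mul_one]; group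
    _ = (Sg * (Rg * zB * Rg) * Sg) * (Sg * zA * Sg) * zB := by
        rw [show Sg * (Rg * zB * Rg) * Sg * (Sg * zA * Sg) * zB =
          Sg * (Rg * zB * Rg) * (Sg * Sg) * zA * Sg * zB by group, hSS, mul_one]
    _ = _ := by
        rw [conj2 R _ _ _ _ k1 cRP, conj2 S _ _ _ _ k3 cSP, conj2 S _ _ _ _ k2 cSP, iA]
        exact bp_identity (s.r_sq P) (s.r_sq A) (s.r_sq B) cAP cBP cBA e n e' n'

/-- A kernel element with trivial data at a neighbour is in the kernel there. -/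
theorem OddRad.dp_of_dl {P A : Pt} {a : Ln} (hPa : s.inc P a) (hAa : s.inc A a) (hPA : P ≠ A)
    {g : X} (hg : g ∈ dp X s.inc P)
    (hz : ∀ R b, s.inc A b → s.inc R b → a ≠ b → A ≠ R → s.dl g R = 1) :
    g ∈ dp X s.inc A := by
  have o := h.one
  have hgA := s.dp_fix hPa hAa hg
  have hga := (mem_qp.1 (mem_dp.1 hg).1).2 a hPa
  have hfix : ∀ R b, s.inc A b → s.inc R b → a ≠ b → A ≠ R → g • R = R ∧ g • b = b := by
    intro R b hb hR hab hAR
    refine o.fix_of_comm hb hR hAR hgA ?_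
    have := s.conj_r_eq g R
    rw [hz R b hb hR hab hAR, mul_one] at this
    exact mul_inv_eq_iff_eq_mul.1 this
  refine mem_dp.2 ⟨mem_qp.2 ⟨hgA, fun L hL => ?_⟩, fun L hL => ?_⟩
  · by_cases e : L = a
    · exact e ▸ hga
    · obtain ⟨R, -, hR, -, hne, -, -, -⟩ := s.line_points hL
      exact (hfix R L hL hR (Ne.symm e) hne).2
  · by_cases e : L = a
    · exact e ▸ (mem_dp.1 hg).2 a hPa
    · obtain ⟨R, -, hR, -, hne, -, -, -⟩ := s.line_points hL
      obtain ⟨h1, h2⟩ := hfix R L hL hR (Ne.symm e) hne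
      exact s.mem_ql_of hL hR hne ⟨hgA, h2⟩ h1

/-- The relations at a neighbour where the data on the line back are known. -/
theorem OddRad.frame {Q : Pt} {a : Ln} {M N : Pt} (hQa : s.inc Q a) (hMa : s.inc M a)
    (hNa : s.inc N a) (hQM : Q ≠ M) (hQN : Q ≠ N) {RM RN : Pt} {lM lN : Ln} (hMl : s.inc M lM)
    (hRM : s.inc RM lM) (haM : a ≠ lM) (hMR : M ≠ RM) (hNl : s.inc N lN) (hRN : s.inc RN lN)
    (haN : a ≠ lN) (hNR : N ≠ RN) {g : X} (hg : g ∈ dp X s.inc Q) {m n : Bool}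
    (hM : s.dl g RM = bp (s.r M) false * bp (s.r Q) m)
    (hN : s.dl g RN = bp (s.r N) false * bp (s.r Q) n) {S : Pt} {b : Ln} (hQb : s.inc Q b)
    (hSb : s.inc S b) (hab : a ≠ b) (hQS : Q ≠ S) {RS : Pt} {lS : Ln} (hSl : s.inc S lS)
    (hRS : s.inc RS lS) (hbS : b ≠ lS) (hSR : S ≠ RS) :
    ∃ e, s.dl g RS = bp (s.r S) e * bp (s.r Q) (xor m e) ∧ m = n := by
  obtain ⟨e, f, hS⟩ := h.dl_mem hQb hSb hQS hSl hRS hbS hSR hg
  have o := h.one
  have key : ∀ (M RM : Pt) (lM : Ln) (m : Bool), s.inc M a → Q ≠ M → s.inc M lM → s.inc RM lM →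
      a ≠ lM → M ≠ RM → s.dl g RM = bp (s.r M) false * bp (s.r Q) m → f = xor m e := by
    intro M RM lM m hMa hQM hMl hRM haM hMR hM
    obtain ⟨T, U, t, u, ht, hT, hQT, hat, hbt, hu, hU, htu, hTU, eT, eU⟩ :=
      h.relation hQa hMa hQM hQb hSb hQS hab hMl hRM haM hMR hSl hRS hbS hSR hg hM hS
    obtain ⟨T', U', t', u', ht', hT', hQT', -, -, hu', hU', htu', hTU', eT', eU'⟩ :=
      h.relation hQb hSb hQS hQa hMa hQM hab.symm hSl hRS hbS hSR hMl hRM haM hMR hg hS hM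
    have hTT : T = T' ∧ t = t' := o.eq_of_nb ht ht' hT hT' hQT hQT' (by
      rw [eT, eT', h.comm_nb hQb hSb hQa hMa])
    obtain ⟨rfl, rfl⟩ := hTT
    have e1 := h.dl_indep ht hT hQT hu hU htu hTU hu' hU' htu' hTU' hg
    rw [eU, eU'] at e1
    have := (bp_inj (s.r_sq Q) (s.r_ne Q) (s.r_ne T)
      (fun e => hQT (o.eq_of_line hT ht e).symm) e1).2
    simpa using this
  have h1 := key M RM lM m hMa hQM hMl hRM haM hMR hM
  have h2 := key N RN lN n hNa hQN hNl hRN haN hNR hN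
  subst h1
  refine ⟨e, hS, ?_⟩
  revert h2
  cases m <;> cases n <;> cases e <;> simp

/-- The neighbours of neighbours: a line and a point for each. -/
theorem OddRad.beyond {P A : Pt} {a : Ln} (hAa : s.inc A a) :
    ∃ (R : Pt) (l : Ln), s.inc A l ∧ s.inc R l ∧ a ≠ l ∧ A ≠ R := by
  obtain ⟨l, -, hl, -, hal, -, -, -⟩ := s.point_lines hAa
  obtain ⟨R, -, hR, -, hAR, -, -, -⟩ := s.line_points hl
  exact ⟨R, l, hl, hR, hal, hAR⟩

/-- An element in the kernels of radius two at two neighbours is in those of all neighbours. -/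
theorem OddRad.kp_spread {P B : Pt} {b : Ln} (hPb : s.inc P b) (hBb : s.inc B b) (hPB : P ≠ B)
    {g : X} (hg : g ∈ kp X s.inc P) (hgB : g ∈ kp X s.inc B) :
    ∀ L, s.inc P L → ∀ Q, s.inc Q L → g ∈ kp X s.inc Q := by
  have o := h.one
  have step : ∀ {B : Pt} {b a : Ln} {A : Pt}, s.inc P b → s.inc B b → P ≠ B → s.inc P a →
      s.inc A a → P ≠ A → a ≠ b → g ∈ kp X s.inc B →
      ∃ T t, s.inc P t ∧ s.inc T t ∧ P ≠ T ∧ t ≠ b ∧ t ≠ a ∧ s.r T = s.r A * s.r B * s.r P ∧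
        g ∈ kp X s.inc T := by
    intro B b a A hPb hBb hPB hPa hAa hPA hab hgB
    obtain ⟨R, l, hl, hR, hal, hAR⟩ := h.beyond (P := P) hAa
    have w : s.IsW (pre R (pre A (pre P fun _ => B))) (pre l (pre a fun _ => b)) 3 := by
      refine ⟨fun i hi => ?_, fun i hi => ?_, fun i hi => ?_, fun i hi => ?_⟩
      · rcases i with _ | _ | _ | i
        exacts [hR, hAa, hPb, absurd hi (by omega)]
      · rcases i with _ | _ | _ | i
        exacts [hl, hPa, hBb, absurd hi (by omega)]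
      · rcases i with _ | _ | _ | i
        exacts [hAR.symm, hPA.symm, hPB, absurd hi (by omega)]
      · rcases i with _ | _ | i
        exacts [hal.symm, hab, absurd hi (by omega)]
    obtain ⟨i1, i2, i3, i4⟩ := h.image_far w
    change s.r (s.r R • B) = s.r B * s.r P * s.r A at i1
    change s.r R • a = a at i2
    change s.r R • P = P at i3
    change s.r R • b ≠ b at i4
    have hc : g * s.r R = s.r R * g := s.dp_comm hl hR ((mem_kp.1 hg).2 a hPa A hAa)
    refine ⟨s.r R • B, s.r R • b, s.inc_smul_left i3 hPb, s.inc_smul _ hBb,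
      fun e => hPB (MulAction.injective (s.r R) (i3.trans e)), i4,
      fun e => hab (MulAction.injective (s.r R) (i2.trans e.symm)), ?_,
      s.kp_transport hgB hc.symm⟩
    rw [i1, mul_assoc, h.comm_nb hPa hPa hPa hAa, ← mul_assoc, h.comm_nb hPb hBb hPa hAa]
  obtain ⟨a, d, ha, hd, hba, hbd, had, -⟩ := s.point_lines hPb
  have both : ∀ {B : Pt} {b a d : Ln}, s.inc P b → s.inc B b → P ≠ B → s.inc P a → s.inc P d →
      b ≠ a → b ≠ d → a ≠ d → g ∈ kp X s.inc B → ∀ Q, s.inc Q d → P ≠ Q → g ∈ kp X s.inc Q := by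
    intro B b a d hPb hBb hPB hPa hPd hba hbd had hgB Q hQ hPQ
    obtain ⟨A, A', hA, hA', hPA, hPA', hAA', -⟩ := s.line_points hPa
    obtain ⟨T, t, ht, hT, hPT, htb, hta, eT, hgT⟩ := step hPb hBb hPB hPa hA hPA hba.symm hgB
    obtain ⟨T', t', ht', hT', hPT', htb', hta', eT', hgT'⟩ :=
      step hPb hBb hPB hPa hA' hPA' hba.symm hgB
    have htd : t = d := by
      rcases s.line_third hPb hPa hPd hba hbd had ht with e | e | e
      exacts [absurd e htb, absurd e hta, e]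
    have htd' : t' = d := by
      rcases s.line_third hPb hPa hPd hba hbd had ht' with e | e | e
      exacts [absurd e htb', absurd e hta', e]
    rw [htd] at hT
    rw [htd'] at hT'
    have hne : T ≠ T' := fun e => hAA' (o.eq_of_line hA hA' (by
      have e1 : s.r A * s.r B * s.r P = s.r A' * s.r B * s.r P := by rw [← eT, ← eT', e]
      exact mul_right_cancel (mul_right_cancel e1)))
    rcases s.pt_third hPd hT hT' hPT hPT' hne hQ with e | e | e
    · exact absurd e.symm hPQ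
    · exact e ▸ hgT
    · exact e ▸ hgT'
  intro L hL Q hQ
  by_cases hQP : Q = P
  · exact hQP ▸ hg
  have hPQ := Ne.symm hQP
  have hd' := both hPb hBb hPB ha hd hba hbd had hgB
  obtain ⟨D, -, hD, -, hPD, -, -, -⟩ := s.line_points hd
  have ha' := both hPb hBb hPB hd ha hbd hba had.symm hgB
  rcases s.line_third hPb ha hd hba hbd had hL with e | e | e <;> subst e
  · exact both hd hD hPD ha hPb had.symm hbd.symm hba.symm (hd' D hD hPD) Q hQ hPQ
  · exact ha' Q hQ hPQ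
  · exact hd' Q hQ hPQ

theorem OddRad.kp_card {P : Pt} {a : Ln} (hPa : s.inc P a) : Nat.card ↥(kp X s.inc P) ≤ 2 := by
  classical
  have o := h.one
  obtain ⟨B, B', hB, hB', hPB, hPB', hBB', -⟩ := s.line_points hPa
  obtain ⟨RP, lP, hlP, hRP, haP, hPR⟩ := h.beyond (P := B) hPa
  obtain ⟨R', l', hl', hR', hal', hBR'⟩ := h.beyond (P := B) hB'
  obtain ⟨c, d, hc, hd, hac, had, hcd, -⟩ := s.point_lines hB
  obtain ⟨S, S', hS, hS', hBS, hBS', hSS', -⟩ := s.line_points hc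
  obtain ⟨RS, lS, hlS, hRS, hcS, hSR⟩ := h.beyond (P := B) hS
  have hle : kp X s.inc P ≤ fl X P a := inf_le_left.trans (s.dp_le hPa)
  haveI := s.fin hPa
  haveI : Finite ↥(kp X s.inc P) := Finite.of_injective (Subgroup.inclusion hle)
    (Subgroup.inclusion_injective hle)
  haveI : Finite ↥(kp X s.inc P ⊓ kp X s.inc B) := Finite.of_injective
    (Subgroup.inclusion (inf_le_left : kp X s.inc P ⊓ kp X s.inc B ≤ kp X s.inc P))
    (Subgroup.inclusion_injective _)
  have hbot : Nat.card ↥(kp X s.inc P ⊓ kp X s.inc B) = 1 := by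
    rw [Subgroup.card_eq_one, Subgroup.eq_bot_iff_forall]
    intro v hv
    refine s.adj_family_eq_one
      (fun Q w => w ∈ kp X s.inc Q ∧ ∀ L, s.inc Q L → ∀ R, s.inc R L → w ∈ kp X s.inc R) ?_ ?_
      (fun Q L w hL hw => s.dp_le hL (mem_kp.1 hw.1).1)
      ⟨hv.1, h.kp_spread hPa hB hPB hv.1 hv.2⟩
    · intro Q w g hw
      refine ⟨s.kp_conj hw.1, fun L hL R hR => ?_⟩
      have h1 : s.inc Q (g⁻¹ • L) := by simpa using s.inc_smul g⁻¹ hL
      have := s.kp_conj (g := g) (hw.2 _ h1 _ (s.inc_smul g⁻¹ hR))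
      simpa using this
    · intro Q R L w hQ hR hne hw
      exact ⟨hw.2 L hQ R hR, h.kp_spread hR hQ hne.symm (hw.2 L hQ R hR) hw.1⟩
  have hframe : ∀ g ∈ kp X s.inc P, ∀ {Z : Pt} {m : Ln}, s.inc B m → s.inc Z m → a ≠ m → B ≠ Z →
      ∀ {RZ : Pt} {lZ : Ln}, s.inc Z lZ → s.inc RZ lZ → m ≠ lZ → Z ≠ RZ →
      ∃ e, s.dl g RZ = bp (s.r Z) e * bp (s.r B) e := by
    intro g hg Z m hm hZ ham hBZ RZ lZ hlZ hRZ hmZ hZR
    have h1 : s.dl g RP = bp (s.r P) false * bp (s.r B) false := by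
      rw [dl, s.dp_comm hlP hRP (mem_kp.1 hg).1, mul_inv_cancel_right, s.r_sq]
      simp [bp]
    have h2 : s.dl g R' = bp (s.r B') false * bp (s.r B) false := by
      rw [dl, s.dp_comm hl' hR' ((mem_kp.1 hg).2 a hPa B' hB'), mul_inv_cancel_right, s.r_sq]
      simp [bp]
    obtain ⟨e, he, -⟩ := h.frame hB hPa hB' hPB.symm hBB' hlP hRP haP hPR hl' hR' hal' hBR'
      ((mem_kp.1 hg).2 a hPa B hB) h1 h2 hm hZ ham hBZ hlZ hRZ hmZ hZR
    exact ⟨e, by simpa using he⟩
  refine (card_le_sep (K := kp X s.inc P ⊓ kp X s.inc B) (S := Bool)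
    (fun g => decide (s.dl g RS = 1)) ?_).trans (by rw [hbot]; simp)
  intro g hg g' hg' heq
  simp only [decide_eq_decide] at heq
  have hk := (kp X s.inc P).mul_mem ((kp X s.inc P).inv_mem hg) hg'
  refine ⟨hk, ?_⟩
  have hgB := (mem_kp.1 hg).2 a hPa B hB
  have hgB' := (mem_kp.1 hg').2 a hPa B hB
  have hkB := (mem_kp.1 hk).2 a hPa B hB
  have hz : s.dl (g⁻¹ * g') RS = 1 := by
    have hsplit := h.dl_mul hc hS hBS hlS hRS hcS hSR hgB hkB
    rw [mul_inv_cancel_left] at hsplit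
    obtain ⟨e, he⟩ := hframe g hg hc hS hac hBS hlS hRS hcS hSR
    obtain ⟨e', he'⟩ := hframe g' hg' hc hS hac hBS hlS hRS hcS hSR
    have hsq : s.r S * s.r B ≠ 1 := fun e1 =>
      hBS (o.eq_of_line hc hS ((eq_inv_of_mul_eq_one_left e1).trans (s.r_inv B)).symm)
    have hee : s.dl g RS = s.dl g' RS := by
      rw [he, he'] at heq ⊢
      cases e <;> cases e' <;> simp [bp, hsq] at heq ⊢
    rw [hee] at hsplit
    exact (mul_eq_left.1 hsplit.symm)
  set f := g⁻¹ * g'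
  -- all the data at `B` vanish
  have zero : ∀ {Z : Pt} {m : Ln}, s.inc B m → s.inc Z m → B ≠ Z →
      ∀ {RZ : Pt} {lZ : Ln}, s.inc Z lZ → s.inc RZ lZ → m ≠ lZ → Z ≠ RZ → s.dl f RZ = 1 := by
    have hfix : ∀ {Z : Pt} {m : Ln}, s.inc B m → s.inc Z m → B ≠ Z →
        ∀ {RZ : Pt} {lZ : Ln}, s.inc Z lZ → s.inc RZ lZ → m ≠ lZ → Z ≠ RZ →
        f ∈ dp X s.inc Z → s.dl f RZ = 1 := by
      intro Z m hm hZ hBZ RZ lZ hlZ hRZ hmZ hZR hdp
      rw [dl, s.dp_comm hlZ hRZ hdp, mul_inv_cancel_right, s.r_sq]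
    have hrel : ∀ (A0 : Pt), s.inc A0 a → B ≠ A0 → ∀ {RA : Pt} {lA : Ln}, s.inc A0 lA →
        s.inc RA lA → a ≠ lA → A0 ≠ RA → ∀ {Z : Pt} {m : Ln}, s.inc B m → s.inc Z m → a ≠ m →
        B ≠ Z → ∀ {RZ : Pt} {lZ : Ln}, s.inc Z lZ → s.inc RZ lZ → m ≠ lZ → Z ≠ RZ →
        s.dl f RZ = 1 → ∀ {T : Pt} {t : Ln}, s.inc B t → s.inc T t → B ≠ T →
        s.r T = s.r A0 * s.r Z * s.r B →
        ∀ {RT : Pt} {lT : Ln}, s.inc T lT → s.inc RT lT → t ≠ lT → T ≠ RT → s.dl f RT = 1 := by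
      intro A0 hA0 hBA RA lA hlA hRA haA hAR Z m hm hZ ham hBZ RZ lZ hlZ hRZ hmZ hZR hz1 T t ht hT
        hBT eT RT lT hlT hRT htT hTR
      obtain ⟨T', U, t', u, ht', hT', hBT', -, -, hu, hU, htu, hTU, eT', eU⟩ :=
        h.relation hB hA0 hBA hm hZ hBZ ham hlA hRA haA hAR hlZ hRZ hmZ hZR hkB
          (e := false) (n := false) (e' := false) (n' := false)
          (by
            rw [hfix hB hA0 hBA hlA hRA haA hAR ((mem_kp.1 hk).2 a hPa A0 hA0)]
            simp [bp])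
          (by rw [hz1]; simp [bp])
      obtain ⟨rfl, rfl⟩ := o.eq_of_nb ht' ht hT' hT hBT' hBT (eT'.trans eT.symm)
      rw [h.dl_indep ht hT hBT hu hU htu hTU hlT hRT htT hTR hkB, eU]
      simp [bp]
    -- the products on the third line
    obtain ⟨T1, U1, t1, u1, ht1, hT1, hBT1, hat1, hct1, hu1, hU1, htu1, hTU1, eT1, -⟩ :=
      h.relation hB hPa hPB.symm hc hS hBS hac hlP hRP haP hPR hlS hRS hcS hSR hkB
        (e := false) (n := false) (e' := false) (n' := false)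
        (by rw [hfix hB hPa hPB.symm hlP hRP haP hPR (mem_kp.1 hk).1]; simp [bp])
        (by rw [hz]; simp [bp])
    obtain ⟨T2, U2, t2, u2, ht2, hT2, hBT2, hat2, hct2, hu2, hU2, htu2, hTU2, eT2, -⟩ :=
      h.relation hB hB' hBB' hc hS hBS hac hl' hR' hal' hBR' hlS hRS hcS hSR hkB
        (e := false) (n := false) (e' := false) (n' := false)
        (by rw [hfix hB hB' hBB' hl' hR' hal' hBR' ((mem_kp.1 hk).2 a hPa B' hB')]; simp [bp])
        (by rw [hz]; simp [bp])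
    have htd1 : t1 = d := by
      rcases s.line_third hB hc hd hac had hcd ht1 with e | e | e
      exacts [absurd e.symm hat1, absurd e.symm hct1, e]
    have htd2 : t2 = d := by
      rcases s.line_third hB hc hd hac had hcd ht2 with e | e | e
      exacts [absurd e.symm hat2, absurd e.symm hct2, e]
    rw [htd1] at hT1 htu1
    rw [htd2] at hT2 htu2
    have hT12 : T1 ≠ T2 := fun e => hPB' (o.eq_of_line hPa hB' (by
      have e1 : s.r P * s.r S * s.r B = s.r B' * s.r S * s.r B := by rw [← eT1, ← eT2, e]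
      exact mul_right_cancel (mul_right_cancel e1)))
    intro Z m hm hZ hBZ RZ lZ hlZ hRZ hmZ hZR
    rcases s.line_third hB hc hd hac had hcd hm with e | e | e <;> subst e
    · exact hfix hB hZ hBZ hlZ hRZ hmZ hZR ((mem_kp.1 hk).2 _ hPa Z hZ)
    · rcases s.pt_third hc hS hS' hBS hBS' hSS' hZ with e | e | e
      · exact absurd e.symm hBZ
      · subst e
        rw [h.dl_indep hc hS hBS hlS hRS hcS hSR hlZ hRZ hmZ hZR hkB, hz]
      · subst e
        refine hrel P hPa hPB.symm hlP hRP haP hPR hd hT2 had hBT2 hu2 hU2 htu2 hTU2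
          (hrel B' hB' hBB' hl' hR' hal' hBR' hc hS hac hBS hlS hRS hcS hSR hz hd hT2 hBT2 eT2
            hu2 hU2 htu2 hTU2) hc hS' hBS' ?_ hlZ hRZ hmZ hZR
        rw [o.third hc hS hS' hBS hBS' hSS', eT2, o.third hB hPa hB' hPB.symm hBB' hPB']
        have cB : s.r B * s.r S = s.r S * s.r B := h.comm_nb hc hc hc hS
        have cBP : s.r B * s.r P = s.r P * s.r B := h.comm_nb hB hB hB hPa
        symm
        calc s.r P * (s.r B * s.r P * s.r S * s.r B) * s.r B
            = s.r P * (s.r B * s.r P) * s.r S * (s.r B * s.r B) := by group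
          _ = s.r P * (s.r P * (s.r B * s.r S)) := by rw [cBP, s.r_sq, mul_one]; group
          _ = s.r B * s.r S := s.r_cancel _ _
    · rcases s.pt_third hd hT1 hT2 hBT1 hBT2 hT12 hZ with e | e | e
      · exact absurd e.symm hBZ
      · subst e
        exact hrel P hPa hPB.symm hlP hRP haP hPR hc hS hac hBS hlS hRS hcS hSR hz hd hT1 hBT1 eT1
          hlZ hRZ hmZ hZR
      · subst e
        exact hrel B' hB' hBB' hl' hR' hal' hBR' hc hS hac hBS hlS hRS hcS hSR hz hd hT2 hBT2 eT2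
          hlZ hRZ hmZ hZR
  refine mem_kp.2 ⟨hkB, fun L hL Z hZ => ?_⟩
  by_cases hBZ : B = Z
  · exact hBZ ▸ hkB
  exact h.dp_of_dl hL hZ hBZ hkB fun R b hb hR hab hZR => zero hL hZ hBZ hb hR hab hZR

theorem OddRad.ball_card {P : Pt} {a : Ln} (hPa : s.inc P a) :
    Nat.card ↥(fl X P a) ≤ 128 := by
  classical
  have o := h.one
  haveI := s.fin hPa
  have hfin : ∀ H : Subgroup X, H ≤ fl X P a → Finite ↥H := fun H hH =>
    Finite.of_injective (Subgroup.inclusion hH) (Subgroup.inclusion_injective hH)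
  haveI := hfin _ (s.qp_le hPa)
  haveI := hfin _ (s.dp_le hPa)
  haveI : Finite ↥(kp X s.inc P) :=
    hfin _ ((inf_le_left : kp X s.inc P ≤ dp X s.inc P).trans (s.dp_le hPa))
  obtain ⟨b, d, hb, hd, hab, had, hbd, -⟩ := s.point_lines hPa
  obtain ⟨A, A', hA, hA', hPA, hPA', hAA', -⟩ := s.line_points hPa
  obtain ⟨B, B', hB, hB', hPB, hPB', hBB', -⟩ := s.line_points hb
  obtain ⟨RA, lA, hlA, hRA, haA, hAR⟩ := h.beyond (P := P) hA
  obtain ⟨RA', lA', hlA', hRA', haA', hAR'⟩ := h.beyond (P := P) hA'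
  obtain ⟨RB, lB, hlB, hRB, hbB, hBR⟩ := h.beyond (P := P) hB
  obtain ⟨RB', lB', hlB', hRB', hbB', hBR'⟩ := h.beyond (P := P) hB'
  have hne : ∀ {Z : Pt} {m : Ln}, s.inc P m → s.inc Z m → P ≠ Z → s.r Z ≠ s.r P := fun hm hZ hn e =>
    hn (o.eq_of_line hZ hm e).symm
  -- third points
  have cAP : s.r A * s.r P = s.r P * s.r A := h.comm_nb hPa hA hPa hPa
  have hAr : s.r A' = s.r P * s.r A := o.third hPa hA hA' hPA hPA' hAA'
  have hBr : s.r B' = s.r P * s.r B := o.third hb hB hB' hPB hPB' hBB'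
  obtain ⟨D', RD', d', lD', hd'i, hD', hPD', -, -, hlD', hRD', hdD', hDR', eD', -⟩ :=
    h.relation hPa hA' hPA' hb hB' hPB' hab hlA' hRA' haA' hAR' hlB' hRB' hbB' hBR'
      (dp X s.inc P).one_mem (e := false) (n := false) (e' := false) (n' := false)
      (by simp [dl, bp, s.r_sq]) (by simp [dl, bp, s.r_sq])
  -- the bit at a neighbour
  set bit : Pt → Pt → X → Bool := fun Z R g => decide (s.dl g R = s.r P ∨ s.dl g R = s.r Z * s.r P)
    with hbit
  have bit_eq : ∀ {Z R : Pt} {m : Ln}, s.inc P m → s.inc Z m → P ≠ Z → ∀ {g : X} {e n : Bool},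
      s.dl g R = bp (s.r Z) e * bp (s.r P) n → bit Z R g = n := by
    intro Z R m hm hZ hn g e n hd
    have h1 : s.r Z * s.r P ≠ 1 := fun e1 =>
      hne hm hZ hn ((eq_inv_of_mul_eq_one_left e1).trans (s.r_inv P))
    have h2 : s.r Z ≠ s.r Z * s.r P := fun e1 => s.r_ne P (mul_eq_left.1 e1.symm)
    simp only [hbit, hd]
    cases e <;> cases n <;> simp [bp, hne hm hZ hn, h2, s.r_ne, Ne.symm (s.r_ne P), Ne.symm h1]
  have bit_mul : ∀ {Z R : Pt} {m l : Ln}, s.inc P m → s.inc Z m → P ≠ Z → s.inc Z l → s.inc R l →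
      m ≠ l → Z ≠ R → ∀ {g g' : X}, g ∈ dp X s.inc P → g' ∈ dp X s.inc P →
      bit Z R (g * g') = xor (bit Z R g) (bit Z R g') := by
    intro Z R m l hm hZ hn hl hR hml hZR g g' hg hg'
    obtain ⟨e, n, he⟩ := h.dl_mem hm hZ hn hl hR hml hZR hg
    obtain ⟨e', n', he'⟩ := h.dl_mem hm hZ hn hl hR hml hZR hg'
    have hm' := h.dl_mul hm hZ hn hl hR hml hZR hg hg'
    rw [he, he', bp_mul (s.r_sq P) (s.r_sq Z) (h.comm_nb hm hZ hm hm)] at hm'
    rw [bit_eq hm hZ hn he, bit_eq hm hZ hn he', bit_eq hm hZ hn hm']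
  have hD1 : Nat.card ↥(dp X s.inc P) ≤ 8 * Nat.card ↥(kp X s.inc P) := by
    refine (card_le_sep (S := Bool × Bool × Bool)
      (fun g => (bit A' RA' g, bit B' RB' g, bit D' RD' g)) ?_).trans
      (Nat.mul_le_mul_right _ (by simp))
    intro g hg g' hg' heq
    simp only [Prod.mk.injEq] at heq
    obtain ⟨q1, q2, q3⟩ := heq
    have hf := (dp X s.inc P).mul_mem ((dp X s.inc P).inv_mem hg) hg'
    set f := g⁻¹ * g' with hfdef
    have hz : ∀ {Z R : Pt} {m l : Ln}, s.inc P m → s.inc Z m → P ≠ Z → s.inc Z l → s.inc R l →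
        m ≠ l → Z ≠ R → bit Z R g = bit Z R g' →
        ∃ e, s.dl f R = bp (s.r Z) e * bp (s.r P) false := by
      intro Z R m l hm hZ hn hl hR hml hZR q
      obtain ⟨e, n, he⟩ := h.dl_mem hm hZ hn hl hR hml hZR hf
      have hb' := bit_mul hm hZ hn hl hR hml hZR hg hf
      rw [mul_inv_cancel_left, bit_eq hm hZ hn he, ← q] at hb'
      have : n = false := by revert hb'; cases bit Z R g <;> cases n <;> simp
      exact ⟨e, this ▸ he⟩
    obtain ⟨ea, fA'⟩ := hz hPa hA' hPA' hlA' hRA' haA' hAR' q1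
    obtain ⟨eb, fB'⟩ := hz hb hB' hPB' hlB' hRB' hbB' hBR' q2
    obtain ⟨ed, fD'⟩ := hz hd'i hD' hPD' hlD' hRD' hdD' hDR' q3
    -- all vanish at the three
    have tri : ea = false ∧ eb = false ∧ ed = false := by
      obtain ⟨T, U, t, u, ht, hT, hPT, -, -, hu, hU, htu, hTU, eT, eU⟩ :=
        h.relation hPa hA' hPA' hb hB' hPB' hab hlA' hRA' haA' hAR' hlB' hRB' hbB' hBR' hf fA' fB'
      obtain ⟨T2, U2, t2, u2, ht2, hT2, hPT2, -, -, hu2, hU2, htu2, hTU2, eT2, eU2⟩ :=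
        h.relation hb hB' hPB' hPa hA' hPA' hab.symm hlB' hRB' hbB' hBR' hlA' hRA' haA' hAR' hf
          fB' fA'
      obtain ⟨rfl, rfl⟩ := o.eq_of_nb ht hd'i hT hD' hPT hPD' (eT.trans eD'.symm)
      obtain ⟨rfl, rfl⟩ := o.eq_of_nb ht2 hd'i hT2 hD' hPT2 hPD'
        (eT2.trans ((congrArg (· * s.r P) (h.comm_nb hb hB' hPa hA')).trans eD'.symm))
      rw [h.dl_indep hd'i hD' hPD' hlD' hRD' hdD' hDR' hu hU htu hTU hf, fD'] at eU
      rw [h.dl_indep hd'i hD' hPD' hlD' hRD' hdD' hDR' hu2 hU2 htu2 hTU2 hf, fD'] at eU2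
      have hi := fun {i j i' j' : Bool} (hh : bp (s.r T2) i * bp (s.r P) j =
          bp (s.r T2) i' * bp (s.r P) j') =>
        bp_inj (s.r_sq P) (s.r_ne P) (s.r_ne T2) (hne hd'i hD' hPD') hh
      obtain ⟨a1, a2⟩ := hi eU
      obtain ⟨-, b2⟩ := hi eU2
      revert a1 a2 b2
      cases ea <;> cases eb <;> cases ed <;> simp
    obtain ⟨rfl, rfl, rfl⟩ := tri
    obtain ⟨eA, nA, fA⟩ := h.dl_mem hPa hA hPA hlA hRA haA hAR hf
    obtain ⟨eB, nB, fB⟩ := h.dl_mem hb hB hPB hlB hRB hbB hBR hf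
    -- the relations with the primed ones
    obtain ⟨C, U, t, u, ht, hT, hPC, hat, hbt, hu, hU, htu, hTU, eC, eU⟩ :=
      h.relation hPa hA' hPA' hb hB hPB hab hlA' hRA' haA' hAR' hlB hRB hbB hBR hf fA' fB
    obtain ⟨C2, U2, t2, u2, ht2, hT2, hPC2, -, -, hu2, hU2, htu2, hTU2, eC2, eU2⟩ :=
      h.relation hb hB hPB hPa hA' hPA' hab.symm hlB hRB hbB hBR hlA' hRA' haA' hAR' hf fB fA'
    obtain ⟨C3, U3, t3, u3, ht3, hT3, hPC3, -, -, hu3, hU3, htu3, hTU3, eC3, eU3⟩ :=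
      h.relation hPa hA hPA hb hB' hPB' hab hlA hRA haA hAR hlB' hRB' hbB' hBR' hf fA fB'
    obtain ⟨C4, U4, t4, u4, ht4, hT4, hPC4, -, -, hu4, hU4, htu4, hTU4, eC4, eU4⟩ :=
      h.relation hb hB' hPB' hPa hA hPA hab.symm hlB' hRB' hbB' hBR' hlA hRA haA hAR hf fB' fA
    have hprod : s.r A * s.r B' * s.r P = s.r A' * s.r B * s.r P := by
      rw [hBr, hAr, ← mul_assoc, cAP]
    obtain ⟨rfl, rfl⟩ := o.eq_of_nb ht2 ht hT2 hT hPC2 hPC
      (eC2.trans ((congrArg (· * s.r P) (h.comm_nb hb hB hPa hA')).trans eC.symm))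
    obtain ⟨rfl, rfl⟩ := o.eq_of_nb ht3 ht hT3 hT hPC3 hPC (eC3.trans (hprod.trans eC.symm))
    obtain ⟨rfl, rfl⟩ := o.eq_of_nb ht4 ht hT4 hT hPC4 hPC
      (eC4.trans (((congrArg (· * s.r P) (h.comm_nb hb hB' hPa hA)).trans hprod).trans eC.symm))
    rw [h.dl_indep ht hT hPC hu hU htu hTU hu2 hU2 htu2 hTU2 hf, eU] at eU2
    rw [h.dl_indep ht hT hPC hu hU htu hTU hu3 hU3 htu3 hTU3 hf, eU] at eU3
    rw [h.dl_indep ht hT hPC hu hU htu hTU hu4 hU4 htu4 hTU4 hf, eU] at eU4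
    have hi := fun {i j i' j' : Bool} (hh : bp (s.r C4) i * bp (s.r P) j =
        bp (s.r C4) i' * bp (s.r P) j') =>
      bp_inj (s.r_sq P) (s.r_ne P) (s.r_ne C4) (hne ht hT hPC) hh
    obtain ⟨-, x2⟩ := hi eU2
    obtain ⟨x3, x4⟩ := hi eU3
    obtain ⟨-, x6⟩ := hi eU4
    have allbits : nA = eB ∧ nB = eB ∧ eA = eB := by
      revert x2 x3 x4 x6
      cases eA <;> cases eB <;> cases nA <;> cases nB <;> simp
    obtain ⟨z1, z2, z3⟩ := allbits
    have hA'dp : f ∈ dp X s.inc A' := h.dp_of_dl hPa hA' hPA' hf fun R l hl hR hal hn => by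
      rw [h.dl_indep hPa hA' hPA' hlA' hRA' haA' hAR' hl hR hal hn hf, fA']
      simp [bp]
    -- the bit is zero
    have he0 : eB = false := by
      cases heb : eB with
      | false => rfl
      | true =>
        exfalso
        rw [z1, z3, heb] at fA
        have fA2 : s.dl f RA = bp (s.r A) false * bp (s.r A') true := by
          rw [fA]
          simp [bp, hAr, cAP]
        obtain ⟨RP, lP, hlP, hRP, haP, hPR⟩ := h.beyond (P := A') hPa
        obtain ⟨S, lS, hlS, hS, haS, hAS⟩ := h.beyond (P := P) hA'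
        obtain ⟨RS, lRS, hlRS, hRS, hcS, hSR⟩ := h.beyond (P := A') hS
        have hP0 : s.dl f RP = bp (s.r P) false * bp (s.r A') false := by
          rw [dl, s.dp_comm hlP hRP hf, mul_inv_cancel_right, s.r_sq]
          simp [bp]
        obtain ⟨-, -, hmn⟩ := h.frame hA' hPa hA hPA'.symm hAA'.symm hlP hRP haP hPR hlA hRA haA hAR
          hA'dp hP0 fA2 hlS hS haS hAS hlRS hRS hcS hSR
        exact Bool.noConfusion hmn
    subst he0
    subst z1; subst z2; subst z3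
    refine mem_kp.2 ⟨hf, fun L hL Z hZ => ?_⟩
    by_cases hPZ : P = Z
    · exact hPZ ▸ hf
    refine h.dp_of_dl hL hZ hPZ hf fun R l hl hR hal hZR => ?_
    have done : ∀ {Z0 R0 : Pt} {m0 l0 : Ln}, s.inc P m0 → s.inc Z0 m0 → P ≠ Z0 → s.inc Z0 l0 →
        s.inc R0 l0 → m0 ≠ l0 → Z0 ≠ R0 →
        s.dl f R0 = bp (s.r Z0) false * bp (s.r P) false → L = m0 → Z = Z0 → s.dl f R = 1 := by
      intro Z0 R0 m0 l0 i1 i2 i3 i4 i5 i6 i7 e1 e2 e3
      subst e2 e3
      rw [h.dl_indep i1 i2 i3 i4 i5 i6 i7 hl hR hal hZR hf, e1]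
      simp [bp]
    have htd : t4 = d := by
      rcases s.line_third hPa hb hd hab had hbd ht with e | e | e
      exacts [absurd e.symm hat, absurd e.symm hbt, e]
    have hdd : d' = d := by
      rcases s.line_third hPa hb hd hab had hbd hd'i with e | e | e
      · exfalso
        subst e
        rcases s.pt_third hPa hA hA' hPA hPA' hAA' hD' with e | e | e
        · exact hPD' e.symm
        · rw [e, hAr] at eD'
          refine s.r_ne B' ?_
          have c2 : s.r B' * s.r P = s.r P * s.r B' := h.comm_nb hb hB' hPa hPa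
          have e1 : s.r A = s.r A * s.r B' :=
            calc s.r A = s.r P * s.r A * s.r B' * s.r P := eD'
              _ = s.r P * s.r A * (s.r B' * s.r P) := by group
              _ = s.r P * (s.r A * s.r P) * s.r B' := by rw [c2]; group
              _ = s.r A * s.r B' := by rw [cAP, ← mul_assoc, s.r_sq, one_mul]
          exact mul_eq_left.1 e1.symm
        · rw [e] at eD'
          have e1 : s.r A' = s.r A' * (s.r B' * s.r P) := by rw [← mul_assoc]; exact eD'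
          exact hne hb hB' hPB' ((eq_inv_of_mul_eq_one_left (mul_eq_left.1 e1.symm)).trans (s.r_inv P))
      · exfalso
        subst e
        have e1 : s.r A' * s.r B' * s.r P = s.r D' := eD'.symm
        rcases o.mate hb hB' hD' hPB' hPD' with e2 | e2 <;> rw [e2] at e1
        · have c1 := h.comm_nb hb hB' hPa hA'
          rw [← c1, mul_assoc] at e1
          have := (eq_inv_of_mul_eq_one_left (mul_eq_left.1 e1)).trans (s.r_inv P)
          exact hne hPa hA' hPA' this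
        · have e3 := mul_right_cancel e1
          exact s.r_ne A' (mul_eq_right.1 e3)
      · exact e
    have hD'C : D' ≠ C4 := fun e => hBB'.symm (o.eq_of_line hB' hB
      (mul_left_cancel (mul_right_cancel (eD'.symm.trans ((congrArg s.r e).trans eC)))))
    have hUz : s.dl f U = bp (s.r C4) false * bp (s.r P) false := by rw [eU]; rfl
    rcases s.line_third hPa hb hd hab had hbd hL with e | e | e
    · rcases s.pt_third hPa hA hA' hPA hPA' hAA' (e ▸ hZ) with q | q | q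
      · exact absurd q.symm hPZ
      · exact done hPa hA hPA hlA hRA haA hAR fA e q
      · exact done hPa hA' hPA' hlA' hRA' haA' hAR' fA' e q
    · rcases s.pt_third hb hB hB' hPB hPB' hBB' (e ▸ hZ) with q | q | q
      · exact absurd q.symm hPZ
      · exact done hb hB hPB hlB hRB hbB hBR fB e q
      · exact done hb hB' hPB' hlB' hRB' hbB' hBR' fB' e q
    · rcases s.pt_third hd (hdd ▸ hD') (htd ▸ hT) hPD' hPC hD'C (e ▸ hZ) with q | q | q
      · exact absurd q.symm hPZ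
      · exact done hd'i hD' hPD' hlD' hRD' hdD' hDR' fD' (e.trans hdd.symm) q
      · exact done ht hT hPC hu hU htu hTU hUz (e.trans htd.symm) q
  have hQ1 : Nat.card ↥(qp X s.inc P) ≤ 4 * Nat.card ↥(dp X s.inc P) := by
    obtain ⟨D, D2, hD, hD2, hPD, hPD2, hDD, -⟩ := s.line_points hd
    refine (card_le_sep (S := Bool × Bool) (fun g => (decide (g • A = A), decide (g • B = B))) ?_).trans
      (Nat.mul_le_mul_right _ (by simp))
    intro g hg k hk e
    simp only [Prod.mk.injEq, decide_eq_decide] at e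
    have hgk := (qp X s.inc P).mul_mem ((qp X s.inc P).inv_mem hg) hk
    have hfix : ∀ {Z Z' : Pt} {m : Ln}, s.inc P m → s.inc Z m → s.inc Z' m → P ≠ Z → P ≠ Z' →
        Z ≠ Z' → (g • Z = Z ↔ k • Z = Z) → (g⁻¹ * k) • Z = Z := by
      intro Z Z' m hm hZ hZ' n1 n2 n3 hiff
      rw [mul_smul, inv_smul_eq_iff]
      by_cases e : g • Z = Z
      · rw [e, hiff.1 e]
      · rw [s.swap_pt hm hZ hZ' n1 n2 n3 (s.qp_le hm hg) (fun q => e ((mem_ql.1 q).2 Z hZ)),
          s.swap_pt hm hZ hZ' n1 n2 n3 (s.qp_le hm hk)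
            (fun q => e (hiff.2 ((mem_ql.1 q).2 Z hZ)))]
    have fA := hfix hPa hA hA' hPA hPA' hAA' e.1
    have fB := hfix hb hB hB' hPB hPB' hBB' e.2
    have fD : (g⁻¹ * k) • D = D := by
      by_contra hne'
      exact h.parity hPa hd hb had hab hbd.symm hA hD hB hPA hPD hPB hgk fA hne' fB
    refine mem_dp.2 ⟨hgk, fun L hL => ?_⟩
    rcases s.line_third hPa hb hd hab had hbd hL with rfl | rfl | rfl
    · exact s.mem_ql_of hPa hA hPA (s.qp_le hPa hgk) fA
    · exact s.mem_ql_of hb hB hPB (s.qp_le hb hgk) fB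
    · exact s.mem_ql_of hd hD hPD (s.qp_le hd hgk) fD
  have hT : Nat.card ↥(fl X P a) ≤ 2 * Nat.card ↥(qp X s.inc P) := by
    refine (card_le_sep (S := Bool) (fun g => decide (g • b = b)) ?_).trans
      (Nat.mul_le_mul_right _ (by simp))
    intro g hg k hk e
    simp only [decide_eq_decide] at e
    refine s.mem_qp_of hPa hb hab ((fl X P a).mul_mem ((fl X P a).inv_mem hg) hk) ?_
    rw [mul_smul, inv_smul_eq_iff]
    by_cases e' : g • b = b
    · rw [e', e.1 e']
    · rw [s.swap_line hPa hb hd hab had hbd hg (fun q => e' ((mem_qp.1 q).2 b hb)),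
        s.swap_line hPa hb hd hab had hbd hk (fun q => e' (e.2 ((mem_qp.1 q).2 b hb)))]
  have := h.kp_card hPa
  omega

end Sys

end CfsgLib.Goldschmidt33
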