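import Cfsg.Agent.Lib.LocalEven.Goldschmidt33.Rank

/-!
The involution of a point.
-/

set_option autoImplicit false

namespace CfsgLib.Goldschmidt33

variable {X : Type*} [Group X] {Pt Ln : Type*} [MulAction X Pt] [MulAction X Ln]

namespace Sys

variable (s : Sys X Pt Ln)

/-- The centres have order two. -/
def One (_s : Sys X Pt Ln) : Prop := ∀ (P : Pt) (v w : X), v ∈ zp X P → v ≠ 1 → w ∈ zp X P → w ≠ 1 → v = w

variable {s}

theorem OddRad.one {k : ℕ} (h : s.OddRad k) : s.One := fun P _ _ hv hv1 hw hw1 =>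
  h.zp_eq P hv hv1 hw hw1

theorem EvenRad.one {k : ℕ} (h : s.EvenRad k) : s.One := fun P _ _ hv hv1 hw hw1 =>
  h.zp_eq P hv hv1 hw hw1

variable (s)

/-- The involution of a point. -/
noncomputable def r (P : Pt) : X := Classical.choose (s.exists_zp P)

theorem r_mem (P : Pt) : s.r P ∈ zp X P := (Classical.choose_spec (s.exists_zp P)).1

theorem r_ne (P : Pt) : s.r P ≠ 1 := (Classical.choose_spec (s.exists_zp P)).2

theorem r_sq (P : Pt) : s.r P * s.r P = 1 := (s.r_mem P).2.1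

theorem r_inv (P : Pt) : (s.r P)⁻¹ = s.r P := zp_inv (s.r_mem P)

theorem r_cancel (P : Pt) (g : X) : s.r P * (s.r P * g) = g := by
  rw [← mul_assoc, s.r_sq, one_mul]

theorem r_fix (P : Pt) : s.r P • P = P := (s.r_mem P).1

theorem r_comm {P : Pt} {g : X} (hg : g • P = P) : g * s.r P = s.r P * g :=
  (s.r_mem P).2.2 g hg

variable {s}

theorem One.mem (o : s.One) {P : Pt} {v : X} (hv : v ∈ zp X P) : v = 1 ∨ v = s.r P := by
  by_cases h : v = 1
  · exact Or.inl h
  · exact Or.inr (o P v _ hv h (s.r_mem P) (s.r_ne P))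

theorem One.conj (o : s.One) (g : X) (P : Pt) : g * s.r P * g⁻¹ = s.r (g • P) :=
  o _ _ _ (zp_conj (s.r_mem P)) (fun e => s.r_ne P (conj_eq_one_iff.1 e)) (s.r_mem _) (s.r_ne _)

theorem One.conj_invol (o : s.One) {g : X} (hg : g * g = 1) (P : Pt) :
    g * s.r P * g = s.r (g • P) := by
  have := o.conj g P
  rwa [inv_eq_of_mul_eq_one_right hg] at this

theorem One.conj_r (o : s.One) (Q P : Pt) : s.r Q * s.r P * s.r Q = s.r (s.r Q • P) :=
  o.conj_invol (s.r_sq Q) P

theorem One.comm_fix (o : s.One) {g : X} {P : Pt} (h : s.r (g • P) = s.r P) :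
    g * s.r P = s.r P * g := by
  have := o.conj g P
  rw [h] at this
  exact mul_inv_eq_iff_eq_mul.1 this

theorem One.conj_eq (o : s.One) {g : X} {P : Pt} (h : g * s.r P = s.r P * g) :
    s.r (g • P) = s.r P := by
  rw [← o.conj, h, mul_inv_cancel_right]

/-- The third point of a line has the product of the other two involutions. -/
theorem One.third (o : s.One) {P Q R : Pt} {L : Ln} (hP : s.inc P L) (hQ : s.inc Q L)
    (hR : s.inc R L) (h1 : P ≠ Q) (h2 : P ≠ R) (h3 : Q ≠ R) : s.r R = s.r P * s.r Q := by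
  obtain ⟨t, ht, ht'⟩ := s.move_pt hP
  have et : t • Q = R := s.swap_pt hP hQ hR h1 h2 h3 ht ht'
  have hmem := s.zp_comm_mem hP hQ ht (s.r_mem Q)
  have hne := (s.zp_move hP hQ ht (et.trans_ne h3.symm) (s.r_mem Q) (s.r_ne Q)).1
  rw [o.conj, et] at hmem hne
  rcases o.mem hmem with e | e
  · exact absurd e hne
  · have hc := s.zp_comm_line hP hQ (s.r_mem P) (s.r_mem Q)
    calc s.r R = s.r Q * (s.r Q * s.r R) := (s.r_cancel Q _).symm
      _ = s.r P * s.r Q := by rw [e, hc]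

theorem One.eq_of_line (o : s.One) {P Q : Pt} {L : Ln} (hP : s.inc P L) (hQ : s.inc Q L)
    (h : s.r P = s.r Q) : P = Q := by
  by_contra hne
  exact s.r_ne P (s.zp_inter hP hQ hne (s.r_mem P) (h ▸ s.r_mem Q))

variable (s)

/-- Points on two different lines at `P` are independent modulo `r P`. -/
theorem line_indep (o : s.One) {P A B : Pt} {a b : Ln} (hPa : s.inc P a) (hPb : s.inc P b)
    (hA : s.inc A a) (hB : s.inc B b) (hAP : P ≠ A) (hBP : P ≠ B) (hab : a ≠ b) :
    s.r B ≠ s.r A ∧ s.r B ≠ s.r P * s.r A := by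
  suffices hkey : ∀ A : Pt, s.inc A a → P ≠ A → s.r B ≠ s.r A by
    refine ⟨hkey A hA hAP, fun e => ?_⟩
    obtain ⟨A', hA', e1, e2⟩ := s.third_pt hPa hA hAP
    exact hkey A' hA' e1 (e.trans (o.third hPa hA hA' hAP e1 e2).symm)
  intro A hA hAP e
  set N := Subgroup.closure {v | ∃ R, s.inc R a ∧ v = s.r R} with hN
  have hNle : N ≤ fl X P a := (Subgroup.closure_le _).2 fun v ⟨R, hR, hv⟩ =>
    hv ▸ s.ql_le hPa (s.zp_ql hR (s.r_mem R))
  haveI : Finite ↥(fl X P a) := s.fin hPa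
  haveI : Finite ↥N := Finite.of_injective (Subgroup.inclusion hNle)
    (Subgroup.inclusion_injective hNle)
  have hnorm : ∀ g : X, (∀ R, s.inc R a → g * s.r R * g⁻¹ ∈ N) →
      g ∈ Subgroup.normalizer (N : Set X) := by
    intro g hg
    have hle : N.map (MulAut.conj g).toMonoidHom ≤ N := by
      rw [hN, MonoidHom.map_closure, Subgroup.closure_le]
      rintro _ ⟨v, ⟨R, hR, rfl⟩, rfl⟩
      exact hg R hR
    have heq : N.map (MulAut.conj g).toMonoidHom = N := Subgroup.eq_of_le_of_card_ge hle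
      (Subgroup.card_map_of_injective (MulAut.conj g).injective).ge
    refine Subgroup.mem_normalizer_iff.2 fun n => ⟨fun hn => hle ⟨n, hn, rfl⟩, fun hn => ?_⟩
    rw [← heq] at hn
    obtain ⟨m, hm, hmn⟩ := hn
    have : m = n := (MulAut.conj g).injective hmn
    rwa [← this]
  have hla : ∀ g : X, g • a = a → g ∈ Subgroup.normalizer (N : Set X) := fun g hg =>
    hnorm g fun R hR => Subgroup.subset_closure ⟨g • R, s.inc_smul_right hg hR, o.conj g R⟩
  obtain ⟨g, hg, hgab⟩ := s.flag_trans hPa hPb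
  have hgn : g ∈ Subgroup.normalizer (N : Set X) := by
    refine hnorm g fun R hR => ?_
    rw [o.conj]
    have hgR : s.inc (g • R) b := hgab ▸ s.inc_smul g hR
    have hrA : s.r B ∈ N := Subgroup.subset_closure ⟨A, hA, e⟩
    have hrP : s.r P ∈ N := Subgroup.subset_closure ⟨P, hPa, rfl⟩
    obtain ⟨B', hB', f1, f2⟩ := s.third_pt hPb hB hBP
    rcases s.pt_third hPb hB hB' hBP f1 f2 hgR with f | f | f <;> rw [f]
    · exact hrP
    · exact hrA
    · rw [o.third hPb hB hB' hBP f1 f2]; exact N.mul_mem hrP hrA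
  have := s.faithful hPa N hNle
    (fun h hh n hn => (Subgroup.mem_normalizer_iff.1
      (s.stab_pt_le hPa (fun t ht => hla t ht.2) hgn hg (hgab.trans_ne hab.symm) hh) n).1 hn)
    fun h hh n hn => (Subgroup.mem_normalizer_iff.1 (hla h hh) n).1 hn
  exact s.r_ne P ((Subgroup.eq_bot_iff_forall _).1 this _ (Subgroup.subset_closure ⟨P, hPa, rfl⟩))

variable {s}

/-- Two lines have at most one common point. -/
theorem One.line_eq (o : s.One) {P Q : Pt} {a b : Ln} (h : P ≠ Q) (hPa : s.inc P a)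
    (hQa : s.inc Q a) (hPb : s.inc P b) (hQb : s.inc Q b) : a = b :=
  by_contra fun hab => (s.line_indep o hPa hPb hQa hQb h h hab).1 rfl

/-- Neighbours of a point with the same involution are equal. -/
theorem One.eq_of_nb (o : s.One) {P A B : Pt} {a b : Ln} (hPa : s.inc P a) (hPb : s.inc P b)
    (hA : s.inc A a) (hB : s.inc B b) (hAP : P ≠ A) (hBP : P ≠ B) (h : s.r A = s.r B) :
    A = B ∧ a = b := by
  have hab : a = b := by_contra fun hab => (s.line_indep o hPa hPb hA hB hAP hBP hab).1 h.symm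
  exact ⟨o.eq_of_line hA (hab ▸ hB) h, hab⟩

/-- An element fixing `P` and commuting with the involution of a neighbour fixes it and its line. -/
theorem One.fix_of_comm (o : s.One) {P A : Pt} {a : Ln} (hPa : s.inc P a) (hA : s.inc A a)
    (hAP : P ≠ A) {g : X} (hg : g • P = P) (hc : g * s.r A = s.r A * g) :
    g • A = A ∧ g • a = a := by
  have h1 : s.inc P (g • a) := s.inc_smul_left hg hPa
  have h2 : P ≠ g • A := hg ▸ Sys.smul_pt_ne hAP
  exact o.eq_of_nb h1 hPa (s.inc_smul g hA) hA h2 hAP (o.conj_eq hc)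

variable (s)

/-- A product of the involutions of points on the three lines at `P`. -/
def IsC (P : Pt) (c : X) : Prop :=
  ∃ (a b d : Ln) (A B D : Pt), s.inc P a ∧ s.inc P b ∧ s.inc P d ∧ a ≠ b ∧ a ≠ d ∧ b ≠ d ∧
    s.inc A a ∧ s.inc B b ∧ s.inc D d ∧ P ≠ A ∧ P ≠ B ∧ P ≠ D ∧ c = s.r A * s.r B * s.r D

/-- Triples on the three lines have products in the centre. -/
def Natural : Prop := ∀ (P : Pt) (c : X), s.IsC P c → c ∈ zp X P

variable {s}

theorem One.isC_conj (o : s.One) {P : Pt} {c : X} (h : s.IsC P c) (g : X) :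
    s.IsC (g • P) (g * c * g⁻¹) := by
  obtain ⟨a, b, d, A, B, D, h1, h2, h3, h4, h5, h6, h7, h8, h9, h10, h11, h12, rfl⟩ := h
  refine ⟨g • a, g • b, g • d, g • A, g • B, g • D, s.inc_smul g h1, s.inc_smul g h2,
    s.inc_smul g h3, Sys.smul_line_ne h4, Sys.smul_line_ne h5, Sys.smul_line_ne h6,
    s.inc_smul g h7, s.inc_smul g h8, s.inc_smul g h9, Sys.smul_pt_ne h10, Sys.smul_pt_ne h11,
    Sys.smul_pt_ne h12, ?_⟩
  rw [← o.conj, ← o.conj, ← o.conj]
  group

theorem One.mate (o : s.One) {P A A' : Pt} {a : Ln} (hP : s.inc P a) (hA : s.inc A a)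
    (hA' : s.inc A' a) (h : P ≠ A) (h' : P ≠ A') :
    s.r A' = s.r A ∨ s.r A' = s.r A * s.r P := by
  by_cases e : A = A'
  · exact Or.inl (e ▸ rfl)
  · exact Or.inr ((o.third hP hA hA' h h' e).trans (s.zp_comm_line hP hA (s.r_mem P) (s.r_mem A)))

/-- Changing a point of the triple to its mate. -/
theorem One.isC_mul (o : s.One) {P : Pt} {c : X} (h : s.IsC P c) : s.IsC P (c * s.r P) := by
  obtain ⟨a, b, d, A, B, D, h1, h2, h3, h4, h5, h6, h7, h8, h9, h10, h11, h12, rfl⟩ := h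
  obtain ⟨D', hD', e1, e2⟩ := s.third_pt h3 h9 h12
  refine ⟨a, b, d, A, B, D', h1, h2, h3, h4, h5, h6, h7, h8, hD', h10, h11, e1, ?_⟩
  rw [o.third h3 h9 hD' h12 e1 e2, s.zp_comm_line h3 h9 (s.r_mem P) (s.r_mem D)]
  group

end Sys

end CfsgLib.Goldschmidt33
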