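import Cfsg.Agent.Lib.LocalEven.Goldschmidt33.Basic

/-!
The centres have order two.
-/

set_option autoImplicit false

namespace CfsgLib.Goldschmidt33

variable {X : Type*} [Group X] {Pt Ln : Type*} [MulAction X Pt] [MulAction X Ln]

theorem mem_zp_unique {P : Pt} {v : X} {g : X} (hg : g • P = P) (hv : v ∈ zp X P) :
    g * v = v * g :=
  hv.2.2 g hg

namespace Sys

variable (s : Sys X Pt Ln)

/-- Elements of the centre of a point commuting with the kernels of all lines at a neighbour are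
trivial. -/
theorem ql_centralized_eq_one {P Q : Pt} {a : Ln} (hP : s.inc P a) (hQ : s.inc Q a) (hne : P ≠ Q)
    {v : X} (hv : v ∈ zp X Q)
    (hc : ∀ M, s.inc P M → ∀ g ∈ ql X s.inc M, g * v = v * g) : v = 1 := by
  -- the good elements of each point of the line
  set η : Pt → X → Prop := fun R w => s.inc R a ∧ w ∈ zp X R ∧
    ∀ S, s.inc S a → S ≠ R → ∀ M, s.inc S M → ∀ g ∈ ql X s.inc M, g * w = w * g with hη
  have hvη : η Q v := by
    refine ⟨hQ, hv, fun S hS hSQ M hM g hg => ?_⟩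
    by_cases hSP : S = P
    · exact hc M (hSP ▸ hM) g hg
    obtain ⟨t, ht, ht'⟩ := s.move_pt hQ
    have he : t • P = S := s.swap_pt hQ hP hS hne.symm (Ne.symm hSQ) (Ne.symm hSP) ht ht'
    have h1 := hc (t⁻¹ • M) (by rw [← inv_smul_eq_iff.2 he.symm]; exact s.inc_smul t⁻¹ hM)
      (t⁻¹ * g * t) (by simpa using s.ql_conj (g := t⁻¹) hg)
    have h2 : t * v * t⁻¹ = v := zp_conj_fix ht.1 hv
    calc g * v = t * (t⁻¹ * g * t * v) * t⁻¹ := by
          conv_lhs => rw [← h2]
          group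
      _ = t * v * t⁻¹ * g := by rw [h1]; group
      _ = v * g := by rw [h2]
  have hN : Subgroup.closure {w | ∃ R, η R w} = ⊥ := by
    refine s.faithful hP _ ((Subgroup.closure_le _).2 ?_) ?_ fun g hg n hn => ?_
    · rintro w ⟨R, hR, hw, -⟩
      exact s.ql_le hP (s.zp_ql hR hw)
    · obtain ⟨M, N, hM, hN, d, -, -, -⟩ := s.point_lines hP
      obtain ⟨j, hj, hj'⟩ := s.exists_ql_move hM
      set H : Subgroup X := Subgroup.normalizer
        (Subgroup.closure {w | ∃ R, η R w} : Set X) with hH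
      have hmem : ∀ g : X, (∀ w, (∃ R, η R w) → ∃ R, η R (g * w * g⁻¹)) →
          (∀ w, (∃ R, η R w) → ∃ R, η R (g⁻¹ * w * g)) → g ∈ H := by
        intro g h1 h2
        refine Subgroup.mem_normalizer_iff.2 fun n => ⟨fun hn => ?_, fun hn => ?_⟩
        · induction hn using Subgroup.closure_induction with
          | mem w hw => exact Subgroup.subset_closure (h1 w hw)
          | one => simp
          | mul b c _ _ ihb ihc => simpa [mul_assoc] using Subgroup.mul_mem _ ihb ihc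
          | inv b _ ihb => simpa [mul_assoc] using Subgroup.inv_mem _ ihb
        · have key : ∀ m ∈ Subgroup.closure {w | ∃ R, η R w},
              g⁻¹ * m * g ∈ Subgroup.closure {w | ∃ R, η R w} := by
            intro m hm
            induction hm using Subgroup.closure_induction with
            | mem w hw => exact Subgroup.subset_closure (h2 w hw)
            | one => simp
            | mul b c _ _ ihb ihc => simpa [mul_assoc] using Subgroup.mul_mem _ ihb ihc
            | inv b _ ihb => simpa [mul_assoc] using Subgroup.inv_mem _ ihb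
          simpa [mul_assoc] using key _ hn
      have hconj : ∀ t : X, t • a = a → ∀ w, (∃ R, η R w) → ∃ R, η R (t * w * t⁻¹) := by
        rintro t ht w ⟨R, hR, hw, hwc⟩
        refine ⟨t • R, s.inc_smul_right ht hR, zp_conj hw, fun S hS hne M hM g hg => ?_⟩
        have ht1 : t⁻¹ • a = a := by rw [inv_smul_eq_iff, ht]
        have h1 := hwc (t⁻¹ • S) (s.inc_smul_right ht1 hS)
          (fun e => hne (by rw [← e, smul_inv_smul])) (t⁻¹ • M) (s.inc_smul t⁻¹ hM)
          (t⁻¹ * g * t) (by simpa using s.ql_conj (g := t⁻¹) hg)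
        calc g * (t * w * t⁻¹) = t * (t⁻¹ * g * t * w) * t⁻¹ := by group
          _ = t * w * t⁻¹ * g := by rw [h1]; group
      have hfl : fl X P a ≤ H := fun t ht =>
        hmem t (hconj t ht.2) fun w hw => by
          simpa using hconj t⁻¹ ((fl X P a).inv_mem ht).2 w hw
      have hjH : j ∈ H := by
        have hfix : ∀ j ∈ ql X s.inc M, ∀ w, (∃ R, η R w) → j * w * j⁻¹ = w := by
          rintro j hj w ⟨R, hR, hw, hwc⟩
          by_cases he : R = P
          · exact zp_conj_fix (he ▸ (mem_ql.1 hj).2 P hM) hw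
          · rw [hwc P hP (Ne.symm he) M hM j hj, mul_inv_cancel_right]
        refine hmem j (fun w hw => by rw [hfix j hj w hw]; exact hw) fun w hw => ?_
        have := hfix j⁻¹ ((ql X s.inc M).inv_mem hj) w hw
        rw [inv_inv] at this
        rw [this]; exact hw
      intro g hg n hn
      refine (Subgroup.mem_normalizer_iff.1 (s.stab_pt_le hP hfl hjH ((mem_ql.1 hj).2 P hM)
        (fun e => hj' (s.mem_qp_of hM hP d.symm (s.ql_le hM hj) e)) hg) n).1 hn
    · induction hn using Subgroup.closure_induction with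
      | mem w hw =>
        obtain ⟨R, hR, hw, hwc⟩ := hw
        refine Subgroup.subset_closure
          ⟨g • R, s.inc_smul_right hg hR, zp_conj hw, fun S hS hne M hM k hk => ?_⟩
        have h1' : g⁻¹ • a = a := by rw [inv_smul_eq_iff, hg]
        have h1 := hwc (g⁻¹ • S) (s.inc_smul_right h1' hS)
          (fun e => hne (by rw [← e, smul_inv_smul])) (g⁻¹ • M) (s.inc_smul g⁻¹ hM)
          (g⁻¹ * k * g) (by simpa using s.ql_conj (g := g⁻¹) hk)
        calc k * (g * w * g⁻¹) = g * (g⁻¹ * k * g * w) * g⁻¹ := by group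
          _ = g * w * g⁻¹ * k := by rw [h1]; group
      | one => simp
      | mul b c _ _ ihb ihc => simpa [mul_assoc] using Subgroup.mul_mem _ ihb ihc
      | inv b _ ihb => simpa [mul_assoc] using Subgroup.inv_mem _ ihb
  exact (Subgroup.eq_bot_iff_forall _).1 hN v (Subgroup.subset_closure ⟨Q, hvη⟩)

/-- An element of `Z Q` fixed by an element moving a line at `P` is trivial. -/
theorem zp_fixed_eq_one {P Q : Pt} {a : Ln} (hP : s.inc P a) (hQ : s.inc Q a) (hne : P ≠ Q)
    {g v : X} (hgP : g • P = P) (hga : g • a ≠ a) (hv : v ∈ zp X Q) (hc : g * v = v * g) :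
    v = 1 := by
  refine s.ql_centralized_eq_one hP hQ hne hv fun M hM k hk => ?_
  set H := Subgroup.centralizer ({v} : Set X) with hH
  have hC : ∀ x : X, x ∈ H ↔ x * v = v * x := fun x => Subgroup.mem_centralizer_singleton_iff
  have h1 : ql X s.inc a ≤ H := fun x hx => (hC x).2 (hv.2.2 x ((mem_ql.1 hx).2 Q hQ))
  have hgH : g ∈ H := (hC g).2 hc
  have h2 : ql X s.inc (g • a) ≤ H := fun x hx => by
    have hy := h1 (by simpa using s.ql_conj (g := g⁻¹) hx : g⁻¹ * x * g ∈ ql X s.inc a)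
    simpa [mul_assoc] using H.mul_mem (H.mul_mem hgH hy) (H.inv_mem hgH)
  have haP : s.inc P (g • a) := s.inc_smul_left hgP hP
  obtain ⟨N, hN, n1, n2⟩ := s.third_line hP haP (Ne.symm hga)
  rcases s.line_third hP haP hN (Ne.symm hga) n1 n2 hM with rfl | rfl | rfl
  · exact (hC k).1 (h1 hk)
  · exact (hC k).1 (h2 hk)
  · obtain ⟨t, ht, ht'⟩ := s.exists_ql_move hP
    have et : t • (g • a) = M :=
      s.swap_line hP haP hN (Ne.symm hga) n1 n2 (s.ql_le hP ht) ht'
    have hy := h2 (by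
      have := s.ql_conj (g := t⁻¹) hk
      rwa [inv_smul_eq_iff.2 et.symm, inv_inv] at this : t⁻¹ * k * t ∈ ql X s.inc (g • a))
    exact (hC k).1 (by
      simpa [mul_assoc] using H.mul_mem (H.mul_mem (h1 ht) hy) (H.inv_mem (h1 ht)))

variable {s}

theorem EvenRad.zp_eq {k : ℕ} (h : s.EvenRad k) (P : Pt) {v w : X} (hv : v ∈ zp X P)
    (hv1 : v ≠ 1) (hw : w ∈ zp X P) (hw1 : w ≠ 1) : v = w := by
  obtain ⟨x, l, z, hx, hz, hne⟩ := h.crit
  obtain ⟨L, hL⟩ := s.pt_line P
  obtain ⟨g, hg, -⟩ := s.flag_trans hL (hx.inr k k.lt_succ_self)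
  have red : ∀ a b : X, a ∈ zp X (x (k + 1)) → b ∈ zp X (x (k + 1)) → a ≠ 1 → b ≠ 1 → a = b := by
    intro a b ha hb ha1 hb1
    have hfix := h.near (hx.of_le k.le_succ) le_rfl hz
    have hzl := hfix.2 _ (hx.inl k k.lt_succ_self)
    have hzfl : z ∈ fl X (x k) (l k) := ⟨hfix.1.1 k le_rfl, hzl⟩
    have hmove : ∀ c : X, c ∈ zp X (x (k + 1)) → c ≠ 1 →
        c ∈ fl X (x 1) (l 0) ∧ c • x 0 ≠ x 0 := by
      intro c hc hc1
      have h1 := h.near (hx.rev.of_le k.le_succ) le_rfl (v := c) (by simpa using hc)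
      have e1 : c • x 1 = x 1 := by
        have := h1.1.1 k le_rfl
        simpa [show k + 1 - k = 1 by omega] using this
      have hM : s.inc (x (k + 1 - k)) (l 0) := by
        rw [show k + 1 - k = 1 by omega]; exact hx.inr 0 (by omega)
      refine ⟨⟨e1, h1.2 (l 0) hM⟩, fun e => ?_⟩
      exact (s.zp_move (hx.inl k k.lt_succ_self) (hx.inr k k.lt_succ_self) hzfl hne hc hc1).2
        (hz.2.2 c e).symm
    by_contra hab
    have hab1 : a * b ≠ 1 := fun e =>
      hab (by rw [← zp_inv hb]; exact eq_inv_of_mul_eq_one_left e)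
    obtain ⟨ha', ha''⟩ := hmove a ha ha1
    obtain ⟨hb', hb''⟩ := hmove b hb hb1
    obtain ⟨hab', hab''⟩ := hmove (a * b) ((zp X _).mul_mem ha hb) hab1
    have hq := s.ql_mul (hx.inr 0 (by omega)) ha' hb'
      (fun hq => ha'' ((mem_ql.1 hq).2 _ (hx.inl 0 (by omega))))
      (fun hq => hb'' ((mem_ql.1 hq).2 _ (hx.inl 0 (by omega))))
    exact hab'' ((mem_ql.1 hq).2 _ (hx.inl 0 (by omega)))
  have e := red (g * v * g⁻¹) (g * w * g⁻¹) (hg ▸ zp_conj hv) (hg ▸ zp_conj hw)
    (by simpa using hv1) (by simpa using hw1)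
  simpa using e

theorem OddRad.zp_eq {k : ℕ} (h : s.OddRad k) (P : Pt) {v w : X} (hv : v ∈ zp X P)
    (hv1 : v ≠ 1) (hw : w ∈ zp X P) (hw1 : w ≠ 1) : v = w := by
  obtain ⟨x, l, z, M, hx, hz, hM, hne⟩ := h.crit
  have hxk := hx.inr k k.lt_succ_self
  obtain ⟨N, hN, hMN, hkN⟩ := s.third_line hM hxk (fun e => hne (e ▸
    (h.near hx le_rfl hz).2 k k.lt_succ_self))
  obtain ⟨A, A', hA, hA', eA, eA', eAA, -⟩ := s.line_points hM
  -- a point beyond, and its walk back
  have hfix := h.near hx le_rfl hz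
  have hlkM : l k ≠ M := fun e => hne (e ▸ hfix.2 k k.lt_succ_self)
  have hw2 := hx.snoc hM hA eA (fun _ => by simpa using hlkM)
  set y := Goldschmidt33.snoc x (k + 1 + 1) A with hy
  set m := Goldschmidt33.snoc l (k + 1) M with hm
  have hback : ∀ c ∈ zp X A, Fix c (fun i => y (k + 1 + 1 - i)) (fun i => m (k + 1 - i)) (k + 1) :=
    fun c hc => by
      have := h.near (hw2.rev.of_le (k + 1).le_succ) le_rfl (v := c)
        (by simpa [hy, snoc_self] using hc)
      simpa using this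
  have hy1 : ∀ c ∈ zp X A, c • x 1 = x 1 := fun c hc => by
    have := (hback c hc).1 (k + 1) le_rfl
    simpa [hy, show k + 1 + 1 - (k + 1) = 1 by omega, snoc_of_lt x A (show 1 < k + 1 + 1 by omega)]
      using this
  have hy2 : ∀ c ∈ zp X A, c • l 1 = l 1 ∨ k = 0 := fun c hc => by
    left
    have := (hback c hc).2 k k.lt_succ_self
    have hk := h.pos
    rcases Nat.lt_or_eq_of_le hk with hk' | hk'
    · simpa [hm, show k + 1 - k = 1 by omega, snoc_of_lt l M (show 1 < k + 1 by omega)] using this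
    · subst hk'
      simpa [hm, snoc_of_lt l M (show 1 < 1 + 1 by omega)] using this
  have hl1 : s.inc (x 1) (l 1) ∧ l 1 ≠ l 0 ∧ s.inc (x 1) (l 0) :=
    ⟨hx.inl 1 (by have := h.pos; omega), (hx.lne 0 (by have := h.pos; omega)).symm,
      hx.inr 0 (by omega)⟩
  have hMfl : ∀ c ∈ zp X A, c ∈ fl X (x 1) (l 1) := fun c hc =>
    ⟨hy1 c hc, (hy2 c hc).resolve_right (by have := h.pos; omega)⟩
  have hzM : z • M = N := s.swap_line hxk hM hN hlkM hkN hMN
    ⟨hfix.1 _ le_rfl, hfix.2 k k.lt_succ_self⟩ (fun hq => hne ((mem_qp.1 hq).2 M hM))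
  -- elements of `Z A` commuting with `z` are trivial
  have hcz : ∀ c ∈ zp X A, z * c = c * z → c = 1 := fun c hc e =>
    s.zp_fixed_eq_one hM hA eA (hfix.1 _ le_rfl) hne hc e
  obtain ⟨L, hL⟩ := s.pt_line P
  obtain ⟨g, hg, -⟩ := s.flag_trans hL hA
  by_contra hvw
  obtain ⟨c, hc, hc1, hcq⟩ : ∃ c ∈ zp X A, c ≠ 1 ∧ c ∈ qp X s.inc (x 1) := by
    have a1 : g * v * g⁻¹ ∈ zp X A := hg ▸ zp_conj hv
    have a2 : g * w * g⁻¹ ∈ zp X A := hg ▸ zp_conj hw
    by_cases q1 : g * v * g⁻¹ ∈ qp X s.inc (x 1)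
    · exact ⟨_, a1, by simpa using hv1, q1⟩
    by_cases q2 : g * w * g⁻¹ ∈ qp X s.inc (x 1)
    · exact ⟨_, a2, by simpa using hw1, q2⟩
    refine ⟨_, (zp X A).mul_mem a1 a2, fun e => hvw ?_,
      s.qp_mul hl1.1 (hMfl _ a1) (hMfl _ a2) q1 q2⟩
    have e' : v * w = 1 := conj_eq_one_iff.1 (by rw [← e]; group : g * (v * w) * g⁻¹ = 1)
    rw [eq_inv_of_mul_eq_one_left e', zp_inv hw]
  have hcl : c • l 0 = l 0 := (mem_qp.1 hcq).2 _ hl1.2.2
  have hcx : c • x 0 ≠ x 0 := fun e =>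
    hc1 (hcz c hc (hz.2.2 c e).symm)
  -- transitivity
  have hflip : s.Flip (k + 1) := by
    refine ⟨fun i => y (k + 1 + 1 - i), fun i => m (k + 1 - i), c, ?_, hback c hc, ?_, ?_⟩
    · simpa using hw2.rev
    · simpa [hm, snoc_of_lt l M (Nat.succ_pos k)] using hcl
    · simpa [hy, snoc_of_lt x A (Nat.succ_pos (k + 1))] using hcx
  have hswap : s.Swap (k + 1) := ⟨x, l, z, hx, hfix, M, hM, hne⟩
  have htr : s.Trans k :=
    s.trans_of (fun j _ hj => hswap.mono (by omega)) fun j hj => hflip.mono (by omega)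
  -- a common element of two centres
  obtain ⟨d, hd, hd1, hdq⟩ : ∃ d ∈ zp X (x 0), d ≠ 1 ∧ d ∈ qp X s.inc (x (k + 1)) := by
    obtain ⟨g', hg', -⟩ := s.flag_trans hL (hx.inl 0 (by omega))
    have a1 : g' * v * g'⁻¹ ∈ zp X (x 0) := hg' ▸ zp_conj hv
    have a2 : g' * w * g'⁻¹ ∈ zp X (x 0) := hg' ▸ zp_conj hw
    have hfl : ∀ e ∈ zp X (x 0), e ∈ fl X (x (k + 1)) (l k) := fun e he =>
      ⟨(h.near hx le_rfl he).1 _ le_rfl, (h.near hx le_rfl he).2 k k.lt_succ_self⟩
    by_cases q1 : g' * v * g'⁻¹ ∈ qp X s.inc (x (k + 1))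
    · exact ⟨_, a1, by simpa using hv1, q1⟩
    by_cases q2 : g' * w * g'⁻¹ ∈ qp X s.inc (x (k + 1))
    · exact ⟨_, a2, by simpa using hw1, q2⟩
    refine ⟨_, (zp X _).mul_mem a1 a2, fun e => hvw ?_,
      s.qp_mul hxk (hfl _ a1) (hfl _ a2) q1 q2⟩
    have e' : v * w = 1 := conj_eq_one_iff.1 (by rw [← e]; group : g' * (v * w) * g'⁻¹ = 1)
    rw [eq_inv_of_mul_eq_one_left e', zp_inv hw]
  have h1 : d * (c * d * c⁻¹) ∈ zp X (x 1) :=
    s.zp_comm_mem hl1.2.2 (hx.inl 0 (by omega)) ⟨hy1 c hc, hcl⟩ hd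
  have h1ne : d * (c * d * c⁻¹) ≠ 1 :=
    (s.zp_move hl1.2.2 (hx.inl 0 (by omega)) ⟨hy1 c hc, hcl⟩ hcx hd hd1).1
  have h2 : c * (d * c * d⁻¹) ∈ zp X (x (k + 1)) :=
    s.zp_comm_mem hM hA ⟨(mem_qp.1 hdq).1, (mem_qp.1 hdq).2 M hM⟩ hc
  have hdc : d * (c * d * c⁻¹) = c * (d * c * d⁻¹) := by
    have e := (zp_inv h1)
    rw [← e, mul_inv_rev, mul_inv_rev, mul_inv_rev, inv_inv, zp_inv hd, zp_inv hc]
    group
  -- both points at the end contain it
  obtain ⟨B, hB, hB1, hB2⟩ := s.third_pt (hx.inl k k.lt_succ_self) hxk (hx.ne k k.lt_succ_self)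
  have hw3 := (hx.of_le k.le_succ).snoc (A := B) (a := l k) (hx.inl k k.lt_succ_self) hB hB1
    (fun hk => by
      have := hx.lne (k - 1) (by omega)
      rwa [show k - 1 + 1 = k by omega] at this)
  obtain ⟨t, ht, -⟩ := htr (fun i => x (1 + i)) (fun i => l (1 + i))
    (fun i => Goldschmidt33.snoc x (k + 1) B (1 + i)) (fun i => Goldschmidt33.snoc l k (l k) (1 + i))
    (hx.shift (by omega)) (hw3.shift (by omega))
  have e0 : t • x 1 = x 1 := by
    have := ht 0 (Nat.zero_le _)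
    simpa [snoc_of_lt x B (show 1 < k + 1 by have := h.pos; omega)] using this
  have ek : t • x (k + 1) = B := by
    have := ht k le_rfl
    rw [show 1 + k = k + 1 by omega, snoc_self] at this
    exact this
  have h3 := zp_conj (g := t) (hdc ▸ h2 : d * (c * d * c⁻¹) ∈ zp X (x (k + 1)))
  rw [zp_conj_fix e0 h1, ek] at h3
  exact h1ne (s.zp_inter hxk hB hB2 (hdc ▸ h2) h3)

end Sys

end CfsgLib.Goldschmidt33
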