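import Cfsg.Agent.Lib.LocalEven.Goldschmidt33.EvenTwo
import Cfsg.Agent.Lib.LocalEven.Goldschmidt33.Even
import Cfsg.Agent.Lib.LocalEven.Goldschmidt33.OddFive
import Cfsg.Agent.Lib.LocalEven.Goldschmidt33.OddThree
import Cfsg.Agent.Lib.LocalEven.ActiveAmalgam.Final

/-!
Reduction of an amalgam of index (3, 3): either a small Sylow 2-subgroup, or a coset geometry
satisfying `Sys`.
-/

set_option autoImplicit false

open Cfsg CfsgLib.LocalEven

namespace CfsgLib.Goldschmidt33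

variable {G : Type*} [Group G]

/-- A vertex group of an amalgam of index (3, 3), with its Sylow 2-subgroup. -/
structure Vx (M T : Subgroup G) : Prop where
  fin : Finite M
  le : T ≤ M
  pgroup : IsPGroup 2 T
  idx : T.relIndex M = 3
  core2 : (pCoreOf 2 M).relIndex T = 2

theorem Vx.of_quot {M T : Subgroup G} [Finite ↥M] (hTM : T ≤ M)
    (hS : ∃ S : Sylow 2 ↥M, (S : Subgroup ↥M) = T.subgroupOf M)
    (hq : Nonempty (↥M ⧸ Cfsg.pCore 2 ↥M ≃* Equiv.Perm (Fin 3))) : Vx M T := by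
  haveI : Fact (Nat.Prime 2) := ⟨Nat.prime_two⟩
  obtain ⟨S, hS⟩ := hS
  obtain ⟨e⟩ := hq
  have h6 : (Cfsg.pCore 2 ↥M).index = 6 := by
    rw [Subgroup.index, Nat.card_congr e.toEquiv, Nat.card_perm, Nat.card_fin]; rfl
  have hle : Cfsg.pCore 2 ↥M ≤ T.subgroupOf M := hS ▸ pCore_le_sylow S
  have hodd : ¬ 2 ∣ (T.subgroupOf M).index := hS ▸ S.not_dvd_index
  have hmul := Subgroup.relIndex_mul_index hle
  rw [h6] at hmul
  have hp : IsPGroup 2 ↥(T.subgroupOf M) := hS ▸ S.2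
  obtain ⟨n, hn⟩ := IsPGroup.iff_card.1 hp
  have hd : (Cfsg.pCore 2 ↥M).relIndex (T.subgroupOf M) ∣ 2 ^ n :=
    hn ▸ Subgroup.relIndex_dvd_card _ _
  have hd6 : (Cfsg.pCore 2 ↥M).relIndex (T.subgroupOf M) ∣ 2 * 3 := Dvd.intro _ hmul
  have hd2 : (Cfsg.pCore 2 ↥M).relIndex (T.subgroupOf M) ∣ 2 :=
    ((Nat.Coprime.pow_left n (show Nat.Coprime 2 3 by norm_num)).coprime_dvd_left hd).dvd_of_dvd_mul_right
      hd6
  have hvals : (Cfsg.pCore 2 ↥M).relIndex (T.subgroupOf M) = 2 ∧ (T.subgroupOf M).index = 3 := by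
    rcases (Nat.dvd_prime Nat.prime_two).1 hd2 with h | h <;> rw [h] at hmul
    · exact absurd ⟨3, by omega⟩ hodd
    · exact ⟨h, by omega⟩
  refine ⟨inferInstance, hTM, hp.of_equiv (Subgroup.subgroupOfEquivOfLe hTM), hvals.2, ?_⟩
  have h := Subgroup.relIndex_map_map_of_injective (Cfsg.pCore 2 ↥M) (T.subgroupOf M)
    M.subtype_injective
  rw [Subgroup.map_subgroupOf_eq_of_le hTM] at h
  exact h.trans hvals.1

theorem le_normalizer_of {M N : Subgroup G} (h : ∀ m ∈ M, ∀ n ∈ N, m * n * m⁻¹ ∈ N) :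
    M ≤ Subgroup.normalizer (N : Set G) := fun m hm =>
  Subgroup.mem_normalizer_iff.2 fun n => ⟨h m hm n, fun hn => by
    simpa [mul_assoc] using h m⁻¹ (M.inv_mem hm) _ hn⟩

namespace Vx

variable {M T : Subgroup G} (h : Vx M T)

include h

theorem isSylIn : IsSylIn 2 T M := by
  haveI : Fact (Nat.Prime 2) := ⟨Nat.prime_two⟩
  refine ⟨h.le, h.pgroup, fun Q hQ hp hle => ?_⟩
  haveI := h.fin
  haveI : Finite Q := finite_of_le hQ
  refine le_antisymm ?_ hle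
  have h1 : T.relIndex Q ∣ 3 := h.idx ▸
    Dvd.intro _ (Subgroup.relIndex_mul_relIndex T Q M hle hQ)
  obtain ⟨n, hn⟩ := IsPGroup.iff_card.1 hp
  have h2 : T.relIndex Q ∣ 2 ^ n := hn ▸ Subgroup.relIndex_dvd_card T Q
  exact Subgroup.relIndex_eq_one.1 (Nat.eq_one_of_dvd_coprimes
    ((show Nat.Coprime 3 2 by norm_num).pow_right n) h1 h2)

theorem core_le : pCoreOf 2 M ≤ T :=
  haveI := h.fin
  haveI : Fact (Nat.Prime 2) := ⟨Nat.prime_two⟩
  pCoreOf_le_isSylIn h.isSylIn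

theorem conj_core {m q : G} (hm : m ∈ M) (hq : q ∈ pCoreOf 2 M) : m * q * m⁻¹ ∈ pCoreOf 2 M :=
  (Subgroup.mem_normalizer_iff.1 (le_normalizer_pCoreOf 2 M hm) q).1 hq

theorem exists_not_core : ∃ t ∈ T, t ∉ pCoreOf 2 M := by
  by_contra hh
  push Not at hh
  have := h.core2
  rw [Subgroup.relIndex_eq_one.2 hh] at this
  norm_num at this

theorem le_of_mem {H : Subgroup G} (hTH : T ≤ H) {k : G} (hkM : k ∈ M) (hkH : k ∈ H)
    (hkT : k ∉ T) : M ≤ H := by
  have hmul := Subgroup.relIndex_mul_relIndex T (H ⊓ M) M (le_inf hTH h.le) inf_le_right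
  rw [h.idx] at hmul
  have hne : T.relIndex (H ⊓ M) ≠ 1 := fun e => hkT (Subgroup.relIndex_eq_one.1 e ⟨hkH, hkM⟩)
  rcases (Nat.dvd_prime Nat.prime_three).1 (Dvd.intro _ hmul) with e | e
  · exact absurd e hne
  · rw [e] at hmul
    exact le_inf_iff.1 (Subgroup.relIndex_eq_one.1 (by omega : (H ⊓ M).relIndex M = 1)) |>.1

theorem reps : ∃ a b : G, a ∈ M ∧ b ∈ M ∧ a ∉ T ∧ b ∉ T ∧ a⁻¹ * b ∉ T ∧
    ∀ m ∈ M, m ∈ T ∨ a⁻¹ * m ∈ T ∨ b⁻¹ * m ∈ T := by
  haveI := h.fin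
  let e : ↥M ⧸ T.subgroupOf M ≃ Fin 3 := Finite.equivFinOfCardEq h.idx
  have key : ∀ x y : ↥M, e x = e y ↔ (x : G)⁻¹ * y ∈ T := fun x y => by
    rw [e.injective.eq_iff, QuotientGroup.eq, Subgroup.mem_subgroupOf]
    simp
  obtain ⟨i, hi⟩ : ∃ i, e (1 : ↥M) = i := ⟨_, rfl⟩
  obtain ⟨a, ha⟩ : ∃ a : ↥M, e a = i + 1 :=
    ⟨(e.symm (i + 1)).out, by rw [QuotientGroup.out_eq', e.apply_symm_apply]⟩
  obtain ⟨b, hb⟩ : ∃ b : ↥M, e b = i + 2 :=
    ⟨(e.symm (i + 2)).out, by rw [QuotientGroup.out_eq', e.apply_symm_apply]⟩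
  have three : ∀ j k : Fin 3, (j + 1 ≠ j ∧ j + 2 ≠ j ∧ j + 1 ≠ j + 2) ∧
      (k = j ∨ k = j + 1 ∨ k = j + 2) := by decide
  obtain ⟨⟨d1, d2, d3⟩, -⟩ := three i i
  refine ⟨a, b, a.2, b.2, fun hh => d1 ?_, fun hh => d2 ?_, fun hh => d3 ?_, fun m hm => ?_⟩
  · rw [← ha, ← hi, eq_comm, key]; simpa using hh
  · rw [← hb, ← hi, eq_comm, key]; simpa using hh
  · rw [← ha, ← hb, key]; exact hh
  · rcases (three i (e (⟨m, hm⟩ : ↥M))).2 with q | q | q
    · left; rw [← hi, eq_comm, key] at q; simpa using q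
    · right; left; rw [← ha, eq_comm, key] at q; simpa using q
    · right; right; rw [← hb, eq_comm, key] at q; simpa using q

theorem mem_core_iff {g : G} : g ∈ pCoreOf 2 M ↔ g ∈ M ∧ ∀ m ∈ M, m⁻¹ * g * m ∈ T := by
  refine ⟨fun hg => ⟨pCoreOf_le 2 M hg, fun m hm =>
    h.core_le (by simpa using h.conj_core (M.inv_mem hm) hg)⟩, fun hg => ?_⟩
  let N : Subgroup G :=
    { carrier := {g | g ∈ M ∧ ∀ m ∈ M, m⁻¹ * g * m ∈ T}
      one_mem' := ⟨M.one_mem, fun m _ => by simp⟩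
      mul_mem' := fun {x y} hx hy => ⟨M.mul_mem hx.1 hy.1, fun m hm => by
        simpa [mul_assoc] using T.mul_mem (hx.2 m hm) (hy.2 m hm)⟩
      inv_mem' := fun {x} hx => ⟨M.inv_mem hx.1, fun m hm => by
        simpa [mul_assoc] using T.inv_mem (hx.2 m hm)⟩ }
  have hNT : N ≤ T := fun x hx => by simpa using hx.2 1 M.one_mem
  refine le_pCoreOf (Q := N) (fun x hx => hx.1) (h.pgroup.to_le hNT) (le_normalizer_of ?_) hg
  intro m hm n hn
  refine ⟨M.mul_mem (M.mul_mem hm hn.1) (M.inv_mem hm), fun k hk => ?_⟩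
  simpa [mul_assoc] using hn.2 (m⁻¹ * k) (M.mul_mem (M.inv_mem hm) hk)

theorem card_eq : Nat.card ↥M = 3 * Nat.card ↥T := by
  have := Subgroup.relIndex_mul_relIndex ⊥ T M bot_le h.le
  rw [Subgroup.relIndex_bot_left, Subgroup.relIndex_bot_left, h.idx] at this
  omega

theorem card_core : Nat.card ↥T = 2 * Nat.card ↥(pCoreOf 2 M) := by
  have := Subgroup.relIndex_mul_relIndex ⊥ (pCoreOf 2 M) T bot_le h.core_le
  rw [Subgroup.relIndex_bot_left, Subgroup.relIndex_bot_left, h.core2] at this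
  omega

end Vx

/-- Some central involution of `T` is not central in `M`. -/
def Act (M T : Subgroup G) : Prop :=
  ∃ v ∈ T, v * v = 1 ∧ (∀ t ∈ T, t * v = v * t) ∧ ∃ m ∈ M, m * v ≠ v * m

/-- No nontrivial subgroup of `T` is normalized by both `M` and `N`. -/
def Faith (M N T : Subgroup G) : Prop :=
  ∀ K : Subgroup G, K ≤ T → (∀ m ∈ M, ∀ k ∈ K, m * k * m⁻¹ ∈ K) →
    (∀ m ∈ N, ∀ k ∈ K, m * k * m⁻¹ ∈ K) → K = ⊥

theorem Faith.symm {M N T : Subgroup G} (h : Faith M N T) : Faith N M T :=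
  fun K hK h1 h2 => h K hK h2 h1

theorem small_of_nonconstrained {M N T : Subgroup G} (hM : Vx M T) (hN : Vx N T)
    (hf : Faith M N T) {c : G} (hc : c ∈ M) (hcq : ∀ q ∈ pCoreOf 2 M, c * q = q * c)
    (hc' : c ∉ pCoreOf 2 M) : Nat.card ↥T ≤ 16 := by
  haveI := hM.fin
  haveI := hN.fin
  -- an element outside `T` centralizing the core
  obtain ⟨k, hkM, hkq, hkT⟩ : ∃ k ∈ M, (∀ q ∈ pCoreOf 2 M, k * q = q * k) ∧ k ∉ T := by
    by_contra hh
    push Not at hh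
    refine hc' (hM.mem_core_iff.2 ⟨hc, fun m hm => hh _
      (M.mul_mem (M.mul_mem (M.inv_mem hm) hc) hm) fun q hq => ?_⟩)
    have := hcq _ (hM.conj_core hm hq)
    calc m⁻¹ * c * m * q = m⁻¹ * (c * (m * q * m⁻¹)) * m := by group
      _ = m⁻¹ * ((m * q * m⁻¹) * c) * m := by rw [this]
      _ = q * (m⁻¹ * c * m) := by group
  have hnorm : ∀ K : Subgroup G, K ≤ pCoreOf 2 M → (∀ t ∈ T, ∀ x ∈ K, t * x * t⁻¹ ∈ K) →
      ∀ m ∈ M, ∀ x ∈ K, m * x * m⁻¹ ∈ K := by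
    intro K hK hKT m hm x hx
    refine (Subgroup.mem_normalizer_iff.1
      (hM.le_of_mem (le_normalizer_of hKT) hkM ?_ hkT hm) x).1 hx
    refine Subgroup.mem_normalizer_iff.2 fun y => ⟨fun hy => ?_, fun hy => ?_⟩
    · rw [hkq y (hK hy), mul_inv_cancel_right]; exact hy
    · have e : k * y * k⁻¹ = y := by
        refine mul_left_cancel (a := k) ?_
        calc k * (k * y * k⁻¹) = k * y * k⁻¹ * k := hkq _ (hK hy)
          _ = k * y := inv_mul_cancel_right _ _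
      rwa [e] at hy
  set A := pCoreOf 2 M ⊓ pCoreOf 2 N with hA
  obtain ⟨a, b, ha, hb, -, -, -, habc⟩ := hN.reps
  have hAT : ∀ t ∈ T, ∀ x ∈ A, t * x * t⁻¹ ∈ A := fun t ht x hx =>
    ⟨hM.conj_core (hM.le ht) hx.1, hN.conj_core (hN.le ht) hx.2⟩
  let K : Subgroup G :=
    { carrier := {x | ∀ m ∈ N, m⁻¹ * x * m ∈ A}
      one_mem' := fun m _ => by simp
      mul_mem' := fun {x y} hx hy m hm => by
        simpa [mul_assoc] using A.mul_mem (hx m hm) (hy m hm)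
      inv_mem' := fun {x} hx m hm => by simpa [mul_assoc] using A.inv_mem (hx m hm) }
  have hKA : K ≤ A := fun x hx => by simpa using hx 1 N.one_mem
  have hKN : ∀ m ∈ N, ∀ x ∈ K, m * x * m⁻¹ ∈ K := fun m hm x hx l hl => by
    simpa [mul_assoc] using hx (m⁻¹ * l) (N.mul_mem (N.inv_mem hm) hl)
  have hK : K = ⊥ := hf K (fun x hx => hM.core_le (hKA hx).1)
    (hnorm K (fun x hx => (hKA hx).1) fun t ht => hKN t (hN.le ht)) hKN
  set A' := fun g : G => A.map (MulAut.conj g).toMonoidHom with hA'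
  have hmem : ∀ g x : G, x ∈ A' g → g⁻¹ * x * g ∈ A := by
    rintro g x ⟨y, hy, rfl⟩
    simpa [mul_assoc] using hy
  have hsub : A ⊓ A' a ⊓ A' b ≤ K := by
    rintro x ⟨⟨h0, h1⟩, h2⟩ m hm
    have step : ∀ g : G, g⁻¹ * x * g ∈ A → g⁻¹ * m ∈ T → m⁻¹ * x * m ∈ A := fun g hg ht => by
      simpa [mul_assoc] using hAT _ (T.inv_mem ht) _ hg
    rcases habc m hm with q | q | q
    · exact step 1 (by simpa using h0) (by simpa using q)
    · exact step a (hmem a x h1) q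
    · exact step b (hmem b x h2) q
  have hidx : A.relIndex (pCoreOf 2 N) ≤ 2 := by
    rw [hA, Subgroup.inf_relIndex_right]
    exact (Subgroup.relIndex_le_of_le_right hN.core_le (by rw [hM.core2]; norm_num)).trans
      hM.core2.le
  have hidx' : ∀ g ∈ N, (A' g).relIndex (pCoreOf 2 N) ≤ 2 := by
    intro g hg
    have e := map_conj_eq_self (le_normalizer_pCoreOf 2 N hg)
    have := Subgroup.relIndex_map_map_of_injective (f := (MulAut.conj g).toMonoidHom) A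
      (pCoreOf 2 N) (MulAut.conj g).injective
    rw [e] at this
    exact this.le.trans hidx
  have h8 : Nat.card ↥(pCoreOf 2 N) ≤ 2 * 2 * 2 := by
    have h1 := Subgroup.relIndex_inf_le (H := A ⊓ A' a) (K := A' b) (L := pCoreOf 2 N)
    have h2 := Subgroup.relIndex_inf_le (H := A) (K := A' a) (L := pCoreOf 2 N)
    have h3 : A ⊓ A' a ⊓ A' b = ⊥ := le_bot_iff.1 (hsub.trans hK.le)
    rw [h3, Subgroup.relIndex_bot_left] at h1
    exact h1.trans (Nat.mul_le_mul (h2.trans (Nat.mul_le_mul hidx (hidx' a ha))) (hidx' b hb))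
  rw [hN.card_core]
  omega

theorem small_of_active {M N T : Subgroup G} (hT : T = M ⊓ N) (hM : Vx M T) (hN : Vx N T)
    (hf : Faith M N T)
    (cM : ∀ c ∈ M, (∀ q ∈ pCoreOf 2 M, c * q = q * c) → c ∈ pCoreOf 2 M)
    (cN : ∀ c ∈ N, (∀ q ∈ pCoreOf 2 N, c * q = q * c) → c ∈ pCoreOf 2 N)
    (aM : Act M T) (aN : Act N T) : Nat.card ↥T ≤ 16 := by
  haveI : Fact (Nat.Prime 2) := ⟨Nat.prime_two⟩
  set H := M ⊔ N with hH
  have hMH : M ≤ H := le_sup_left
  have hNH : N ≤ H := le_sup_right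
  have good : ∀ P : Subgroup G, P ≤ H → Vx P T →
      (∀ c ∈ P, (∀ q ∈ pCoreOf 2 P, c * q = q * c) → c ∈ pCoreOf 2 P) → Act P T →
      CfsgLib.ActiveAmalgam.Good (P.subgroupOf H) (T.subgroupOf H) := by
    intro P hP hV hc ha
    haveI := hV.fin
    haveI : Finite ↥(P.subgroupOf H) := Finite.of_equiv _ (Subgroup.subgroupOfEquivOfLe hP).toEquiv.symm
    have hTH : T ≤ H := hV.le.trans hP
    have hQH : pCoreOf 2 P ≤ H := (pCoreOf_le 2 P).trans hP
    have hQ : pCoreOf 2 (P.subgroupOf H) = (pCoreOf 2 P).subgroupOf H := by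
      apply le_antisymm
      · have hle : (pCoreOf 2 (P.subgroupOf H)).map H.subtype ≤ pCoreOf 2 P := by
          have hPm : (P.subgroupOf H).map H.subtype = P := Subgroup.map_subgroupOf_eq_of_le hP
          refine le_pCoreOf ((Subgroup.map_mono (pCoreOf_le 2 _)).trans hPm.le)
            ((isPGroup_pCoreOf _).map _) ?_
          have := (Subgroup.map_mono (f := H.subtype)
            (le_normalizer_pCoreOf 2 (P.subgroupOf H))).trans (Subgroup.le_normalizer_map _)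
          rwa [hPm] at this
        exact fun x hx => hle ⟨x, hx, rfl⟩
      · refine le_pCoreOf (fun x hx => pCoreOf_le 2 P hx)
          ((isPGroup_pCoreOf P).of_equiv (Subgroup.subgroupOfEquivOfLe hQH).symm) ?_
        exact le_normalizer_of fun m hm n hn => hV.conj_core (m := (m : G)) hm hn
    refine ⟨inferInstance, fun x hx => hV.le hx,
      hV.pgroup.of_equiv (Subgroup.subgroupOfEquivOfLe hTH).symm, ?_, ?_, ?_, ?_⟩
    · rw [← Subgroup.relIndex_map_map_of_injective _ _ H.subtype_injective,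
        Subgroup.map_subgroupOf_eq_of_le hP, Subgroup.map_subgroupOf_eq_of_le hTH, hV.idx]
    · rw [hQ, ← Subgroup.relIndex_map_map_of_injective _ _ H.subtype_injective,
        Subgroup.map_subgroupOf_eq_of_le hQH, Subgroup.map_subgroupOf_eq_of_le hTH, hV.core2]
    · rw [hQ]
      rintro c ⟨hcP, hcc⟩
      exact hc (c : G) hcP fun q hq => (congrArg Subtype.val
        (Subgroup.mem_centralizer_iff.1 hcc ⟨q, hQH hq⟩ hq)).symm
    · obtain ⟨v, hvT, hv2, hvc, m, hm, hmv⟩ := ha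
      intro hle
      have hv' : (⟨v, hTH hvT⟩ : ↥H) ∈ CfsgLib.ActiveAmalgam.zt (T.subgroupOf H) :=
        CfsgLib.ActiveAmalgam.mem_zt hvT (Subtype.ext hv2) fun t ht => Subtype.ext (hvc t ht)
      exact hmv (congrArg Subtype.val
        (Subgroup.mem_centralizer_iff.1 (hle (show (⟨m, hP hm⟩ : ↥H) ∈ P.subgroupOf H from hm))
          _ hv')).symm
  have e : M.subgroupOf H ⊓ N.subgroupOf H = T.subgroupOf H := by subst hT; rfl
  have g1 := good M hMH hM cM aM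
  have g2 := good N hNH hN cN aN
  rw [← e] at g1 g2
  have hyp : CfsgLib.ActiveAmalgam.Hyp (M.subgroupOf H) (N.subgroupOf H) := by
    refine ⟨?_, fun K hK hKn => ?_, g1, g2⟩
    · refine Subgroup.map_injective H.subtype_injective ?_
      rw [Subgroup.map_sup, Subgroup.map_subgroupOf_eq_of_le hMH,
        Subgroup.map_subgroupOf_eq_of_le hNH, ← MonoidHom.range_eq_map, Subgroup.range_subtype]
    · have hb : K.map H.subtype = ⊥ := by
        refine hf _ ?_ ?_ ?_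
        · rintro x ⟨y, hy, rfl⟩
          exact hT ▸ hK hy
        · rintro m hm x ⟨y, hy, rfl⟩
          exact ⟨⟨m, hMH hm⟩ * y * ⟨m, hMH hm⟩⁻¹, hKn.conj_mem y hy _, rfl⟩
        · rintro m hm x ⟨y, hy, rfl⟩
          exact ⟨⟨m, hNH hm⟩ * y * ⟨m, hNH hm⟩⁻¹, hKn.conj_mem y hy _, rfl⟩
      exact (Subgroup.map_eq_bot_iff_of_injective K H.subtype_injective).1 hb
  have hcard : Nat.card ↥(M.subgroupOf H) = Nat.card ↥M :=
    Nat.card_congr (Subgroup.subgroupOfEquivOfLe hMH).toEquiv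
  have h48 : Nat.card ↥M ≤ 48 := by
    rcases hyp.main with ⟨⟨e1⟩, -⟩ | ⟨⟨e1⟩, -⟩
    · rw [← hcard, Nat.card_congr e1.toEquiv, Nat.card_perm, Nat.card_fin]; decide
    · rw [← hcard, Nat.card_congr e1.toEquiv, Nat.card_prod, Nat.card_perm, Nat.card_fin,
        Nat.card_congr Multiplicative.toAdd, Nat.card_zmod]
      decide
  rw [hM.card_eq] at h48
  omega

/-! ### The coset geometry -/

theorem smul_mk_eq {H : Subgroup G} {g x : G} :
    g • (x : G ⧸ H) = (x : G ⧸ H) ↔ x⁻¹ * g * x ∈ H := by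
  rw [MulAction.Quotient.smul_coe, QuotientGroup.eq, smul_eq_mul, ← H.inv_mem_iff (x := x⁻¹ * g * x)]
  simp [mul_assoc]

/-- Incidence of cosets. -/
def Inc (P L : Subgroup G) (p : G ⧸ P) (l : G ⧸ L) : Prop :=
  ∃ x : G, (x : G ⧸ P) = p ∧ (x : G ⧸ L) = l

theorem Inc.symm {P L : Subgroup G} {p : G ⧸ P} {l : G ⧸ L} (h : Inc P L p l) : Inc L P l p := by
  obtain ⟨x, h1, h2⟩ := h
  exact ⟨x, h2, h1⟩

theorem mk_mul_eq {P : Subgroup G} {x m : G} (hm : m ∈ P) :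
    ((x * m : G) : G ⧸ P) = (x : G ⧸ P) := QuotientGroup.eq.2 (by simpa [mul_assoc] using hm)

theorem ball_three {P L T : Subgroup G} (hT : T = P ⊓ L) (h : Vx P T) {p : G ⧸ P} {l : G ⧸ L}
    (hi : Inc P L p l) : ∃ M N, Inc P L p M ∧ Inc P L p N ∧ l ≠ M ∧ l ≠ N ∧ M ≠ N ∧
      ∀ K, Inc P L p K → K = l ∨ K = M ∨ K = N := by
  obtain ⟨x, rfl, rfl⟩ := hi
  obtain ⟨a, b, ha, hb, ha', hb', hab, habc⟩ := h.reps
  have inT : ∀ {m}, m ∈ P → m ∈ L → m ∈ T := fun hP hL => hT ▸ ⟨hP, hL⟩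
  have inL : ∀ {m}, m ∈ T → m ∈ L := fun hm => (hT ▸ hm : _ ∈ P ⊓ L).2
  refine ⟨(x * a : G), (x * b : G), ⟨x * a, mk_mul_eq ha, rfl⟩, ⟨x * b, mk_mul_eq hb, rfl⟩,
    fun e => ha' ?_, fun e => hb' ?_, fun e => hab ?_, fun K hK => ?_⟩
  · exact inT ha (by simpa [mul_assoc] using QuotientGroup.eq.1 e)
  · exact inT hb (by simpa [mul_assoc] using QuotientGroup.eq.1 e)
  · exact inT (P.mul_mem (P.inv_mem ha) hb) (by simpa [mul_assoc] using QuotientGroup.eq.1 e)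
  · obtain ⟨y, h1, rfl⟩ := hK
    have hm : x⁻¹ * y ∈ P := QuotientGroup.eq.1 h1.symm
    rcases habc _ hm with q | q | q
    · left; exact (QuotientGroup.eq.2 (inL q)).symm
    · right; left; exact (QuotientGroup.eq.2 (by simpa [mul_assoc] using inL q)).symm
    · right; right; exact (QuotientGroup.eq.2 (by simpa [mul_assoc] using inL q)).symm

theorem fix_ball_iff {P L T : Subgroup G} (hT : T = P ⊓ L) (h : Vx P T) {g x : G} :
    (g • (x : G ⧸ P) = (x : G ⧸ P) ∧ ∀ l, Inc P L (x : G ⧸ P) l → g • l = l) ↔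
      x⁻¹ * g * x ∈ pCoreOf 2 P := by
  rw [h.mem_core_iff, smul_mk_eq]
  refine and_congr_right fun hP => ⟨fun hl m hm => ?_, fun hm l hl => ?_⟩
  · have hL := smul_mk_eq.1 (hl _ ⟨x * m, mk_mul_eq hm, rfl⟩)
    rw [hT]
    exact ⟨P.mul_mem (P.mul_mem (P.inv_mem hm) hP) hm, by simpa [mul_assoc] using hL⟩
  · obtain ⟨y, h1, rfl⟩ := hl
    have := hm _ (QuotientGroup.eq.1 h1.symm)
    rw [hT] at this
    exact smul_mk_eq.2 (by simpa [mul_assoc] using this.2)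

theorem mem_fl_mk {P L T : Subgroup G} (hT : T = P ⊓ L) {g x : G} :
    g ∈ fl G (x : G ⧸ P) (x : G ⧸ L) ↔ x⁻¹ * g * x ∈ T := by
  rw [mem_fl, smul_mk_eq, smul_mk_eq, hT, Subgroup.mem_inf]

theorem fl_mk {P L T : Subgroup G} (hT : T = P ⊓ L) (x : G) :
    fl G (x : G ⧸ P) (x : G ⧸ L) = T.map (MulAut.conj x).toMonoidHom := by
  ext g
  rw [mem_fl_mk hT]
  refine ⟨fun h => ⟨_, h, ?_⟩, ?_⟩
  · simp [mul_assoc]
  · rintro ⟨y, hy, rfl⟩
    simpa [mul_assoc] using hy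

variable {P L T : Subgroup G}

theorem mem_qp_mk (hT : T = P ⊓ L) (h : Vx P T) {g x : G} :
    g ∈ qp G (Inc P L) (x : G ⧸ P) ↔ x⁻¹ * g * x ∈ pCoreOf 2 P :=
  mem_qp.trans (fix_ball_iff hT h)

theorem mem_ql_mk (hT : T = P ⊓ L) (h : Vx L T) {g x : G} :
    g ∈ ql G (Inc P L) (x : G ⧸ L) ↔ x⁻¹ * g * x ∈ pCoreOf 2 L := by
  rw [mem_ql, ← fix_ball_iff (L := P) (hT.trans (inf_comm P L)) h]
  exact and_congr_right fun _ =>
    ⟨fun hh l hl => hh l hl.symm, fun hh l hl => hh l hl.symm⟩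

/-- The coset geometry of an amalgam. -/
def mkSys (hT : T = P ⊓ L) (hP : Vx P T) (hL : Vx L T) (hf : Faith P L T)
    (cP : ∀ c ∈ P, (∀ q ∈ pCoreOf 2 P, c * q = q * c) → c ∈ pCoreOf 2 P)
    (cL : ∀ c ∈ L, (∀ q ∈ pCoreOf 2 L, c * q = q * c) → c ∈ pCoreOf 2 L)
    (nP : ¬ Act P T) : Sys G (G ⧸ P) (G ⧸ L) where
  inc := Inc P L
  inc_smul g _ _ := by
    rintro ⟨x, rfl, rfl⟩
    exact ⟨g * x, rfl, rfl⟩
  point_lines := ball_three hT hP
  line_points h := by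
    obtain ⟨M, N, h1, h2, h3, h4, h5, h6⟩ := ball_three (hT.trans (inf_comm P L)) hL h.symm
    exact ⟨M, N, h1.symm, h2.symm, h3, h4, h5, fun S hS => h6 S hS.symm⟩
  flag_trans := by
    rintro _ _ _ _ ⟨x, rfl, rfl⟩ ⟨y, rfl, rfl⟩
    exact ⟨y * x⁻¹, by rw [MulAction.Quotient.smul_coe, smul_eq_mul, inv_mul_cancel_right],
      by rw [MulAction.Quotient.smul_coe, smul_eq_mul, inv_mul_cancel_right]⟩
  exists_flag := ⟨_, _, 1, rfl, rfl⟩
  pt_line p := by
    induction p using QuotientGroup.induction_on with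
    | H x => exact ⟨_, x, rfl, rfl⟩
  fin := by
    rintro _ _ ⟨x, rfl, rfl⟩
    haveI := hP.fin
    haveI : Finite T := finite_of_le hP.le
    rw [fl_mk hT]
    exact finite_map _ _
  two := by
    rintro _ _ ⟨x, rfl, rfl⟩
    rw [fl_mk hT]
    exact hP.pgroup.map _
  move_line := by
    rintro _ _ ⟨x, rfl, rfl⟩
    obtain ⟨t, ht, ht'⟩ := hP.exists_not_core
    refine ⟨x * t * x⁻¹, (mem_fl_mk hT).2 (by simpa [mul_assoc] using ht), fun hh => ht' ?_⟩
    simpa [mul_assoc] using (mem_qp_mk hT hP).1 hh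
  move_pt := by
    rintro _ _ ⟨x, rfl, rfl⟩
    obtain ⟨t, ht, ht'⟩ := hL.exists_not_core
    refine ⟨x * t * x⁻¹, (mem_fl_mk hT).2 (by simpa [mul_assoc] using ht), fun hh => ht' ?_⟩
    simpa [mul_assoc] using (mem_ql_mk hT hL).1 hh
  cent_pt p := by
    induction p using QuotientGroup.induction_on with
    | H x =>
      intro g hg hc
      refine (mem_qp_mk hT hP).2 (cP _ (smul_mk_eq.1 hg) fun q hq => ?_)
      have := hc (x * q * x⁻¹) ((mem_qp_mk hT hP).2 (by simpa [mul_assoc] using hq))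
      calc x⁻¹ * g * x * q = x⁻¹ * (g * (x * q * x⁻¹)) * x := by group
        _ = x⁻¹ * (x * q * x⁻¹ * g) * x := by rw [this]
        _ = q * (x⁻¹ * g * x) := by group
  cent_ln l := by
    induction l using QuotientGroup.induction_on with
    | H x =>
      intro g hg hc
      refine (mem_ql_mk hT hL).2 (cL _ (smul_mk_eq.1 hg) fun q hq => ?_)
      have := hc (x * q * x⁻¹) ((mem_ql_mk hT hL).2 (by simpa [mul_assoc] using hq))
      calc x⁻¹ * g * x * q = x⁻¹ * (g * (x * q * x⁻¹)) * x := by group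
        _ = x⁻¹ * (x * q * x⁻¹ * g) * x := by rw [this]
        _ = q * (x⁻¹ * g * x) := by group
  omega := by
    rintro _ _ ⟨x, rfl, rfl⟩ v hv hv2 hvc g hg
    by_contra hne
    refine nP ⟨x⁻¹ * v * x, (mem_fl_mk hT).1 hv, ?_, fun t ht => ?_, x⁻¹ * g * x,
      smul_mk_eq.1 hg, fun e => hne ?_⟩
    · calc x⁻¹ * v * x * (x⁻¹ * v * x) = x⁻¹ * (v * v) * x := by group
        _ = 1 := by rw [hv2]; group
    · have := hvc (x * t * x⁻¹) ((mem_fl_mk hT).2 (by simpa [mul_assoc] using ht))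
      calc t * (x⁻¹ * v * x) = x⁻¹ * (x * t * x⁻¹ * v) * x := by group
        _ = x⁻¹ * (v * (x * t * x⁻¹)) * x := by rw [this]
        _ = x⁻¹ * v * x * t := by group
    · calc g * v = x * (x⁻¹ * g * x * (x⁻¹ * v * x)) * x⁻¹ := by group
        _ = x * (x⁻¹ * v * x * (x⁻¹ * g * x)) * x⁻¹ := by rw [e]
        _ = v * g := by group
  faithful := by
    rintro _ _ ⟨x, rfl, rfl⟩ N hN h1 h2
    have hb : N.comap (MulAut.conj x).toMonoidHom = ⊥ := by
      refine hf _ (fun n hn => ?_) (fun m hm n hn => ?_) fun m hm n hn => ?_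
      · simpa [mul_assoc] using (mem_fl_mk hT).1 (hN hn)
      · have := h1 (x * m * x⁻¹) (smul_mk_eq.2 (by simpa [mul_assoc] using hm)) _ hn
        simpa [mul_assoc] using this
      · have := h2 (x * m * x⁻¹) (smul_mk_eq.2 (by simpa [mul_assoc] using hm)) _ hn
        simpa [mul_assoc] using this
    rw [Subgroup.eq_bot_iff_forall] at hb ⊢
    intro n hn
    have := hb (x⁻¹ * n * x) (by simpa [mul_assoc] using hn)
    simpa [mul_assoc, mul_eq_one_iff_eq_inv, inv_mul_eq_one] using this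

/-- The bound in the remaining case. -/
theorem card_le_of_sys (hT : T = P ⊓ L) (hP : Vx P T) (hL : Vx L T) (hf : Faith P L T)
    (cP : ∀ c ∈ P, (∀ q ∈ pCoreOf 2 P, c * q = q * c) → c ∈ pCoreOf 2 P)
    (cL : ∀ c ∈ L, (∀ q ∈ pCoreOf 2 L, c * q = q * c) → c ∈ pCoreOf 2 L)
    (nP : ¬ Act P T) : Nat.card ↥T ≤ 128 := by
  let s := mkSys hT hP hL hf cP cL nP
  have hi : s.inc ((1 : G) : G ⧸ P) ((1 : G) : G ⧸ L) := ⟨1, rfl, rfl⟩
  have e : fl G ((1 : G) : G ⧸ P) ((1 : G) : G ⧸ L) = T := by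
    ext g
    rw [mem_fl_mk hT]
    simp
  rw [← e]
  rcases s.rad_cases with ⟨k, hk⟩ | ⟨k, hk⟩
  · exact hk.ball_card hi
  · obtain rfl := hk.eq_one
    exact hk.ball_card hi

/-- Goldschmidt's bound. -/
theorem card_le {M N T : Subgroup G} (hT : T = M ⊓ N) (hM : Vx M T) (hN : Vx N T)
    (hf : Faith M N T) : Nat.card ↥T ≤ 128 := by
  by_cases cM : ∀ c ∈ M, (∀ q ∈ pCoreOf 2 M, c * q = q * c) → c ∈ pCoreOf 2 M
  · by_cases cN : ∀ c ∈ N, (∀ q ∈ pCoreOf 2 N, c * q = q * c) → c ∈ pCoreOf 2 N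
    · by_cases aM : Act M T
      · by_cases aN : Act N T
        · exact (small_of_active hT hM hN hf cM cN aM aN).trans (by norm_num)
        · exact card_le_of_sys (hT.trans (inf_comm M N)) hN hM hf.symm cN cM aN
      · exact card_le_of_sys hT hM hN hf cM cN aM
    · push Not at cN
      obtain ⟨c, hc, hq, hc'⟩ := cN
      exact (small_of_nonconstrained hN hM hf.symm hc hq hc').trans (by norm_num)
  · push Not at cM
    obtain ⟨c, hc, hq, hc'⟩ := cM
    exact (small_of_nonconstrained hM hN hf hc hq hc').trans (by norm_num)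

end CfsgLib.Goldschmidt33
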