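import Mathlib

/-!
The axioms of a geometry of points and lines (three lines on a point, three points on a line) with a
group acting, such that the stabilizer of a flag is a 2-group and the central involutions of a flag
stabilizer are central in the stabilizer of the point.
-/

set_option autoImplicit false

namespace CfsgLib.Goldschmidt33

variable {X : Type*} [Group X] {Pt Ln : Type*} [MulAction X Pt] [MulAction X Ln]

variable (X) in
/-- The stabilizer of a flag. -/
def fl (P : Pt) (L : Ln) : Subgroup X := MulAction.stabilizer X P ⊓ MulAction.stabilizer X L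

theorem mem_fl {P : Pt} {L : Ln} {g : X} : g ∈ fl X P L ↔ g • P = P ∧ g • L = L := Iff.rfl

variable (X) in
/-- The elements fixing a point and all lines through it. -/
def qp (inc : Pt → Ln → Prop) (P : Pt) : Subgroup X :=
  MulAction.stabilizer X P ⊓ ⨅ (L : Ln) (_ : inc P L), MulAction.stabilizer X L

variable (X) in
/-- The elements fixing a line and all points on it. -/
def ql (inc : Pt → Ln → Prop) (L : Ln) : Subgroup X :=
  MulAction.stabilizer X L ⊓ ⨅ (P : Pt) (_ : inc P L), MulAction.stabilizer X P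

theorem mem_qp {inc : Pt → Ln → Prop} {P : Pt} {g : X} :
    g ∈ qp X inc P ↔ g • P = P ∧ ∀ L, inc P L → g • L = L := by
  simp [qp, Subgroup.mem_iInf]

theorem mem_ql {inc : Pt → Ln → Prop} {L : Ln} {g : X} :
    g ∈ ql X inc L ↔ g • L = L ∧ ∀ P, inc P L → g • P = P := by
  simp [ql, Subgroup.mem_iInf]

variable (X Pt Ln) in
/-- The axioms. -/
structure Sys where
  /-- incidence -/
  inc : Pt → Ln → Prop
  inc_smul : ∀ (g : X) {P L}, inc P L → inc (g • P) (g • L)
  point_lines : ∀ {P L}, inc P L → ∃ M N, inc P M ∧ inc P N ∧ L ≠ M ∧ L ≠ N ∧ M ≠ N ∧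
    ∀ K, inc P K → K = L ∨ K = M ∨ K = N
  line_points : ∀ {P L}, inc P L → ∃ Q R, inc Q L ∧ inc R L ∧ P ≠ Q ∧ P ≠ R ∧ Q ≠ R ∧
    ∀ S, inc S L → S = P ∨ S = Q ∨ S = R
  flag_trans : ∀ {P L Q M}, inc P L → inc Q M → ∃ g : X, g • P = Q ∧ g • L = M
  exists_flag : ∃ P L, inc P L
  pt_line : ∀ P, ∃ L, inc P L
  fin : ∀ {P L}, inc P L → Finite ↥(fl X P L)
  two : ∀ {P L}, inc P L → IsPGroup 2 ↥(fl X P L)
  move_line : ∀ {P L}, inc P L → ∃ t ∈ fl X P L, t ∉ qp X inc P
  move_pt : ∀ {P L}, inc P L → ∃ t ∈ fl X P L, t ∉ ql X inc L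
  cent_pt : ∀ (P : Pt) (g : X), g • P = P → (∀ q ∈ qp X inc P, g * q = q * g) → g ∈ qp X inc P
  cent_ln : ∀ (L : Ln) (g : X), g • L = L → (∀ q ∈ ql X inc L, g * q = q * g) → g ∈ ql X inc L
  omega : ∀ {P L}, inc P L → ∀ v ∈ fl X P L, v * v = 1 → (∀ t ∈ fl X P L, t * v = v * t) →
    ∀ g : X, g • P = P → g * v = v * g
  faithful : ∀ {P L}, inc P L → ∀ N : Subgroup X, N ≤ fl X P L →
    (∀ g : X, g • P = P → ∀ n ∈ N, g * n * g⁻¹ ∈ N) →
    (∀ g : X, g • L = L → ∀ n ∈ N, g * n * g⁻¹ ∈ N) → N = ⊥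

namespace Sys

variable (s : Sys X Pt Ln)

theorem inc_smul_iff (g : X) {P : Pt} {L : Ln} : s.inc (g • P) (g • L) ↔ s.inc P L := by
  refine ⟨fun h => ?_, s.inc_smul g⟩
  simpa using s.inc_smul g⁻¹ h

theorem inc_smul_left {P : Pt} {L : Ln} {g : X} (hg : g • P = P) (h : s.inc P L) :
    s.inc P (g • L) := by
  simpa [hg] using s.inc_smul g h

theorem inc_smul_right {P : Pt} {L : Ln} {g : X} (hg : g • L = L) (h : s.inc P L) :
    s.inc (g • P) L := by
  simpa [hg] using s.inc_smul g h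

theorem smul_line_ne {g : X} {L M : Ln} (h : L ≠ M) : g • L ≠ g • M :=
  fun e => h (MulAction.injective g e)

theorem smul_pt_ne {g : X} {P Q : Pt} (h : P ≠ Q) : g • P ≠ g • Q :=
  fun e => h (MulAction.injective g e)

include s in
theorem qp_le {P : Pt} {L : Ln} (h : s.inc P L) : qp X s.inc P ≤ fl X P L := fun _ hg =>
  ⟨(mem_qp.1 hg).1, (mem_qp.1 hg).2 L h⟩

include s in
theorem ql_le {P : Pt} {L : Ln} (h : s.inc P L) : ql X s.inc L ≤ fl X P L := fun _ hg =>
  ⟨(mem_ql.1 hg).2 P h, (mem_ql.1 hg).1⟩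

theorem qp_conj {P : Pt} {g q : X} (hq : q ∈ qp X s.inc P) :
    g * q * g⁻¹ ∈ qp X s.inc (g • P) := by
  rw [mem_qp] at hq ⊢
  refine ⟨by simp [mul_smul, hq.1], fun L hL => ?_⟩
  have h1 : s.inc P (g⁻¹ • L) := by simpa using s.inc_smul g⁻¹ hL
  simp [mul_smul, hq.2 _ h1]

theorem ql_conj {L : Ln} {g q : X} (hq : q ∈ ql X s.inc L) :
    g * q * g⁻¹ ∈ ql X s.inc (g • L) := by
  rw [mem_ql] at hq ⊢
  refine ⟨by simp [mul_smul, hq.1], fun P hP => ?_⟩
  have h1 : s.inc (g⁻¹ • P) L := by simpa using s.inc_smul g⁻¹ hP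
  simp [mul_smul, hq.2 _ h1]

/-- A line through `P` is one of any three. -/
theorem line_third {P : Pt} {L M N : Ln} (hL : s.inc P L) (hM : s.inc P M) (hN : s.inc P N)
    (h1 : L ≠ M) (h2 : L ≠ N) (h3 : M ≠ N) {K : Ln} (hK : s.inc P K) :
    K = L ∨ K = M ∨ K = N := by
  obtain ⟨M', N', -, -, -, -, -, hall⟩ := s.point_lines hL
  have a := hall M hM
  have b := hall N hN
  have c := hall K hK
  grind

/-- A point on `L` is one of any three. -/
theorem pt_third {P Q R : Pt} {L : Ln} (hP : s.inc P L) (hQ : s.inc Q L) (hR : s.inc R L)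
    (h1 : P ≠ Q) (h2 : P ≠ R) (h3 : Q ≠ R) {S : Pt} (hS : s.inc S L) :
    S = P ∨ S = Q ∨ S = R := by
  obtain ⟨Q', R', -, -, -, -, -, hall⟩ := s.line_points hP
  have a := hall Q hQ
  have b := hall R hR
  have c := hall S hS
  grind

theorem third_pt {P Q : Pt} {L : Ln} (hP : s.inc P L) (hQ : s.inc Q L) (h : P ≠ Q) :
    ∃ R, s.inc R L ∧ P ≠ R ∧ Q ≠ R := by
  obtain ⟨A, B, hA, hB, a, b, c, hall⟩ := s.line_points hP
  rcases hall Q hQ with e | e | e
  · exact absurd e.symm h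
  · exact ⟨B, hB, b, e ▸ c⟩
  · exact ⟨A, hA, a, e ▸ c.symm⟩

theorem third_line {P : Pt} {L M : Ln} (hL : s.inc P L) (hM : s.inc P M) (h : L ≠ M) :
    ∃ N, s.inc P N ∧ L ≠ N ∧ M ≠ N := by
  obtain ⟨A, B, hA, hB, a, b, c, hall⟩ := s.point_lines hL
  rcases hall M hM with e | e | e
  · exact absurd e.symm h
  · exact ⟨B, hB, b, e ▸ c⟩
  · exact ⟨A, hA, a, e ▸ c.symm⟩

/-- An element of a flag stabilizer fixing one further line fixes all three. -/
theorem mem_qp_of {P : Pt} {L M : Ln} (hL : s.inc P L) (hM : s.inc P M) (h : L ≠ M) {g : X}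
    (hg : g ∈ fl X P L) (hgM : g • M = M) : g ∈ qp X s.inc P := by
  obtain ⟨N, hN, a, b⟩ := s.third_line hL hM h
  refine mem_qp.2 ⟨hg.1, fun K hK => ?_⟩
  rcases s.line_third hL hM hN h a b hK with rfl | rfl | rfl
  · exact hg.2
  · exact hgM
  · rcases s.line_third hL hM hN h a b (s.inc_smul_left hg.1 hN) with e | e | e
    · exact absurd (MulAction.injective g (e.trans hg.2.symm)).symm a
    · exact absurd (MulAction.injective g (e.trans hgM.symm)).symm b
    · exact e

/-- An element of a flag stabilizer fixing one further point fixes all three. -/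
theorem mem_ql_of {P Q : Pt} {L : Ln} (hP : s.inc P L) (hQ : s.inc Q L) (h : P ≠ Q) {g : X}
    (hg : g ∈ fl X P L) (hgQ : g • Q = Q) : g ∈ ql X s.inc L := by
  obtain ⟨R, hR, a, b⟩ := s.third_pt hP hQ h
  refine mem_ql.2 ⟨hg.2, fun K hK => ?_⟩
  rcases s.pt_third hP hQ hR h a b hK with rfl | rfl | rfl
  · exact hg.1
  · exact hgQ
  · rcases s.pt_third hP hQ hR h a b (s.inc_smul_right hg.2 hR) with e | e | e
    · exact absurd (MulAction.injective g (e.trans hg.1.symm)).symm a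
    · exact absurd (MulAction.injective g (e.trans hgQ.symm)).symm b
    · exact e

/-- An element moving a line swaps the two lines other than the fixed one. -/
theorem swap_line {P : Pt} {L M N : Ln} (hL : s.inc P L) (hM : s.inc P M) (hN : s.inc P N)
    (h1 : L ≠ M) (h2 : L ≠ N) (h3 : M ≠ N) {g : X} (hg : g ∈ fl X P L)
    (hq : g ∉ qp X s.inc P) : g • M = N := by
  rcases s.line_third hL hM hN h1 h2 h3 (s.inc_smul_left hg.1 hM) with e | e | e
  · exact absurd (MulAction.injective g (e.trans hg.2.symm)).symm h1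
  · exact absurd (s.mem_qp_of hL hM h1 hg e) hq
  · exact e

/-- An element moving a point swaps the two points other than the fixed one. -/
theorem swap_pt {P Q R : Pt} {L : Ln} (hP : s.inc P L) (hQ : s.inc Q L) (hR : s.inc R L)
    (h1 : P ≠ Q) (h2 : P ≠ R) (h3 : Q ≠ R) {g : X} (hg : g ∈ fl X P L)
    (hq : g ∉ ql X s.inc L) : g • Q = R := by
  rcases s.pt_third hP hQ hR h1 h2 h3 (s.inc_smul_right hg.2 hQ) with e | e | e
  · exact absurd (MulAction.injective g (e.trans hg.1.symm)).symm h1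
  · exact absurd (s.mem_ql_of hP hQ h1 hg e) hq
  · exact e

theorem qp_mul {P : Pt} {L : Ln} (hL : s.inc P L) {g h : X} (hg : g ∈ fl X P L) (hh : h ∈ fl X P L)
    (hg' : g ∉ qp X s.inc P) (hh' : h ∉ qp X s.inc P) : g * h ∈ qp X s.inc P := by
  obtain ⟨M, N, hM, hN, a, b, c, -⟩ := s.point_lines hL
  refine s.mem_qp_of hL hM a (Subgroup.mul_mem _ hg hh) ?_
  rw [mul_smul, s.swap_line hL hM hN a b c hh hh', s.swap_line hL hN hM b a c.symm hg hg']

theorem ql_mul {P : Pt} {L : Ln} (hP : s.inc P L) {g h : X} (hg : g ∈ fl X P L) (hh : h ∈ fl X P L)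
    (hg' : g ∉ ql X s.inc L) (hh' : h ∉ ql X s.inc L) : g * h ∈ ql X s.inc L := by
  obtain ⟨Q, R, hQ, hR, a, b, c, -⟩ := s.line_points hP
  refine s.mem_ql_of hP hQ a (Subgroup.mul_mem _ hg hh) ?_
  rw [mul_smul, s.swap_pt hP hQ hR a b c hh hh', s.swap_pt hP hR hQ b a c.symm hg hg']

/-- A subgroup containing two flag stabilizers of a line contains the line's stabilizer. -/
theorem stab_ln_le {P Q : Pt} {L : Ln} (hP : s.inc P L) (hQ : s.inc Q L) (h : P ≠ Q)
    {H : Subgroup X} (h1 : fl X P L ≤ H) (h2 : fl X Q L ≤ H) {g : X} (hg : g • L = L) : g ∈ H := by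
  obtain ⟨R, hR, a, b⟩ := s.third_pt hP hQ h
  obtain ⟨t, ht, ht'⟩ := s.move_pt hP
  obtain ⟨u, hu, hu'⟩ := s.move_pt hQ
  have et : t • Q = R := s.swap_pt hP hQ hR h a b ht ht'
  have eu : u • P = R := s.swap_pt hQ hP hR h.symm b a hu hu'
  rcases s.pt_third hP hQ hR h a b (s.inc_smul_right hg hP) with e | e | e
  · exact h1 ⟨e, hg⟩
  · have hm : u⁻¹ * t * g ∈ H := h1 ⟨by
      show (u⁻¹ * t * g) • P = P
      rw [mul_smul, mul_smul, e, et, inv_smul_eq_iff, eu], by
      show (u⁻¹ * t * g) • L = L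
      rw [mul_smul, mul_smul, hg, ht.2, inv_smul_eq_iff, hu.2]⟩
    have := H.mul_mem (H.mul_mem (H.inv_mem (h1 ht)) (h2 hu)) hm
    simpa [mul_assoc] using this
  · have hm : u⁻¹ * g ∈ H := h1 ⟨by
      show (u⁻¹ * g) • P = P
      rw [mul_smul, e, inv_smul_eq_iff, eu], by
      show (u⁻¹ * g) • L = L
      rw [mul_smul, hg, inv_smul_eq_iff, hu.2]⟩
    simpa using H.mul_mem (h2 hu) hm

/-- A subgroup containing a flag stabilizer of a point and an element of the point's stabilizer moving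
the line contains the point's stabilizer. -/
theorem stab_pt_le {P : Pt} {L : Ln} (hL : s.inc P L) {H : Subgroup X} (h1 : fl X P L ≤ H)
    {h : X} (hh : h ∈ H) (hP : h • P = P) (hm : h • L ≠ L) {g : X} (hg : g • P = P) : g ∈ H := by
  obtain ⟨N, hN, a, b⟩ := s.third_line hL (s.inc_smul_left hP hL) hm.symm
  obtain ⟨t, ht, ht'⟩ := s.move_line hL
  have et : t • (h • L) = N := s.swap_line hL (s.inc_smul_left hP hL) hN hm.symm a b ht ht'
  rcases s.line_third hL (s.inc_smul_left hP hL) hN hm.symm a b (s.inc_smul_left hg hL) with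
    e | e | e
  · exact h1 ⟨hg, e⟩
  · have hk : h⁻¹ * g ∈ H := h1 ⟨by
      show (h⁻¹ * g) • P = P
      rw [mul_smul, hg, inv_smul_eq_iff, hP], by
      show (h⁻¹ * g) • L = L
      rw [mul_smul, e, inv_smul_smul]⟩
    simpa using H.mul_mem hh hk
  · have hk : h⁻¹ * t⁻¹ * g ∈ H := h1 ⟨by
      show (h⁻¹ * t⁻¹ * g) • P = P
      rw [mul_smul, mul_smul, hg, inv_smul_eq_iff.2 ht.1.symm, inv_smul_eq_iff, hP], by
      show (h⁻¹ * t⁻¹ * g) • L = L
      rw [mul_smul, mul_smul, e, inv_smul_eq_iff.2 et.symm, inv_smul_smul]⟩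
    simpa [mul_assoc] using H.mul_mem (H.mul_mem (h1 ht) hh) hk

/-- The kernel at a line moves the lines at each of its points. -/
theorem exists_ql_move {P : Pt} {L : Ln} (hL : s.inc P L) :
    ∃ g ∈ ql X s.inc L, g ∉ qp X s.inc P := by
  by_contra hcon
  push Not at hcon
  obtain ⟨t, ht, ht'⟩ := s.move_line hL
  have ht'' : t ∉ ql X s.inc L := fun h => ht' (hcon t h)
  have heq : qp X s.inc P ≤ ql X s.inc L := by
    intro g hg
    by_contra hg'
    have := hcon _ (s.ql_mul hL (s.qp_le hL hg) ht hg' ht'')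
    exact ht' (by simpa using (qp X s.inc P).mul_mem ((qp X s.inc P).inv_mem hg) this)
  have hbot : ql X s.inc L = ⊥ := by
    refine s.faithful hL _ (s.ql_le hL) (fun g hg n hn => ?_) (fun g hg n hn => ?_)
    · have := s.qp_conj (g := g) (hcon n hn)
      rw [hg] at this
      exact heq this
    · simpa [hg] using s.ql_conj (g := g) hn
  refine ht'' (s.cent_ln L t ht.2 fun q hq => ?_)
  rw [hbot] at hq
  simp [Subgroup.mem_bot.1 hq]

/-- The kernel at a point moves points on each of its lines. -/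
theorem exists_qp_move {P : Pt} {L : Ln} (hL : s.inc P L) :
    ∃ g ∈ qp X s.inc P, g ∉ ql X s.inc L := by
  by_contra hcon
  push Not at hcon
  obtain ⟨t, ht, ht'⟩ := s.move_pt hL
  have ht'' : t ∉ qp X s.inc P := fun h => ht' (hcon t h)
  have heq : ql X s.inc L ≤ qp X s.inc P := by
    intro g hg
    by_contra hg'
    have := hcon _ (s.qp_mul hL (s.ql_le hL hg) ht hg' ht'')
    exact ht' (by simpa using (ql X s.inc L).mul_mem ((ql X s.inc L).inv_mem hg) this)
  obtain ⟨g, hg, hg'⟩ := s.exists_ql_move hL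
  exact hg' (heq hg)

end Sys

end CfsgLib.Goldschmidt33
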