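import Cfsg.Agent.Lib.LocalEven.Goldschmidt33.Center

/-!
Reduced walks of points and lines, and transitivity on them.
-/

set_option autoImplicit false

namespace CfsgLib.Goldschmidt33

variable {X : Type*} [Group X] {Pt Ln : Type*} [MulAction X Pt] [MulAction X Ln]

/-- A sequence with one term put in front. -/
def pre {α : Type*} (a : α) (f : ℕ → α) : ℕ → α
  | 0 => a
  | i + 1 => f i

@[simp] theorem pre_zero {α : Type*} (a : α) (f : ℕ → α) : pre a f 0 = a := rfl

@[simp] theorem pre_succ {α : Type*} (a : α) (f : ℕ → α) (i : ℕ) : pre a f (i + 1) = f i := rfl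

/-- A sequence cut after `n` and continued by `a`. -/
def snoc {α : Type*} (f : ℕ → α) (n : ℕ) (a : α) : ℕ → α := fun i => if i < n then f i else a

theorem snoc_of_lt {α : Type*} (f : ℕ → α) {n i : ℕ} (a : α) (h : i < n) : snoc f n a i = f i :=
  if_pos h

theorem snoc_self {α : Type*} (f : ℕ → α) (n : ℕ) (a : α) : snoc f n a n = a := if_neg (lt_irrefl n)

/-- `g` fixes the walk up to step `n`. -/
def Fix (g : X) (x : ℕ → Pt) (l : ℕ → Ln) (n : ℕ) : Prop :=
  (∀ i ≤ n, g • x i = x i) ∧ ∀ i < n, g • l i = l i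

theorem Fix.of_le {g : X} {x : ℕ → Pt} {l : ℕ → Ln} {n m : ℕ} (h : Fix g x l n) (hm : m ≤ n) :
    Fix g x l m :=
  ⟨fun i hi => h.1 i (hi.trans hm), fun i hi => h.2 i (lt_of_lt_of_le hi hm)⟩

theorem Fix.mul {g k : X} {x : ℕ → Pt} {l : ℕ → Ln} {n : ℕ} (h : Fix g x l n) (h' : Fix k x l n) :
    Fix (g * k) x l n :=
  ⟨fun i hi => by rw [mul_smul, h'.1 i hi, h.1 i hi], fun i hi => by rw [mul_smul, h'.2 i hi, h.2 i hi]⟩

theorem Fix.inv {g : X} {x : ℕ → Pt} {l : ℕ → Ln} {n : ℕ} (h : Fix g x l n) :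
    Fix g⁻¹ x l n :=
  ⟨fun i hi => by rw [inv_smul_eq_iff, h.1 i hi], fun i hi => by rw [inv_smul_eq_iff, h.2 i hi]⟩

namespace Sys

variable (s : Sys X Pt Ln)

/-- A reduced walk of `n` steps. -/
structure IsW (x : ℕ → Pt) (l : ℕ → Ln) (n : ℕ) : Prop where
  inl : ∀ i < n, s.inc (x i) (l i)
  inr : ∀ i < n, s.inc (x (i + 1)) (l i)
  ne : ∀ i < n, x i ≠ x (i + 1)
  lne : ∀ i, i + 1 < n → l i ≠ l (i + 1)

variable {s}

theorem IsW.of_le {x : ℕ → Pt} {l : ℕ → Ln} {n m : ℕ} (h : s.IsW x l n) (hm : m ≤ n) :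
    s.IsW x l m :=
  ⟨fun i hi => h.inl i (by omega), fun i hi => h.inr i (by omega), fun i hi => h.ne i (by omega),
    fun i hi => h.lne i (by omega)⟩

theorem IsW.shift {x : ℕ → Pt} {l : ℕ → Ln} {n : ℕ} (h : s.IsW x l n) {j m : ℕ} (hm : j + m ≤ n) :
    s.IsW (fun i => x (j + i)) (fun i => l (j + i)) m :=
  ⟨fun i hi => h.inl (j + i) (by omega), fun i hi => h.inr (j + i) (by omega),
    fun i hi => h.ne (j + i) (by omega), fun i hi => h.lne (j + i) (by omega)⟩

theorem IsW.rev {x : ℕ → Pt} {l : ℕ → Ln} {n : ℕ} (h : s.IsW x l n) :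
    s.IsW (fun i => x (n - i)) (fun i => l (n - 1 - i)) n where
  inl i hi := by
    have := h.inr (n - 1 - i) (by omega)
    rwa [show n - 1 - i + 1 = n - i by omega] at this
  inr i hi := by
    have := h.inl (n - 1 - i) (by omega)
    rwa [show n - 1 - i = n - (i + 1) by omega] at this ⊢
  ne i hi := by
    have := h.ne (n - 1 - i) (by omega)
    rw [show n - 1 - i + 1 = n - i by omega, show n - 1 - i = n - (i + 1) by omega] at this
    exact this.symm
  lne i hi := by
    have := h.lne (n - 1 - (i + 1)) (by omega)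
    rw [show n - 1 - (i + 1) + 1 = n - 1 - i by omega] at this
    exact this.symm

theorem IsW.smul {x : ℕ → Pt} {l : ℕ → Ln} {n : ℕ} (h : s.IsW x l n) (g : X) :
    s.IsW (fun i => g • x i) (fun i => g • l i) n :=
  ⟨fun i hi => s.inc_smul g (h.inl i hi), fun i hi => s.inc_smul g (h.inr i hi),
    fun i hi => Sys.smul_pt_ne (h.ne i hi), fun i hi => Sys.smul_line_ne (h.lne i hi)⟩

theorem IsW.cons {x : ℕ → Pt} {l : ℕ → Ln} {n : ℕ} (h : s.IsW x l n) {A : Pt} {a : Ln}
    (h1 : s.inc A a) (h2 : s.inc (x 0) a) (h3 : A ≠ x 0) (h4 : 0 < n → a ≠ l 0) :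
    s.IsW (pre A x) (pre a l) (n + 1) where
  inl i hi := by
    cases i with
    | zero => exact h1
    | succ i => exact h.inl i (by omega)
  inr i hi := by
    cases i with
    | zero => exact h2
    | succ i => exact h.inr i (by omega)
  ne i hi := by
    cases i with
    | zero => exact h3
    | succ i => exact h.ne i (by omega)
  lne i hi := by
    cases i with
    | zero => exact h4 (by omega)
    | succ i => exact h.lne i (by omega)

theorem IsW.snoc {x : ℕ → Pt} {l : ℕ → Ln} {n : ℕ} (h : s.IsW x l n) {A : Pt} {a : Ln}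
    (h1 : s.inc (x n) a) (h2 : s.inc A a) (h3 : x n ≠ A) (h4 : 0 < n → l (n - 1) ≠ a) :
    s.IsW (Goldschmidt33.snoc x (n + 1) A) (Goldschmidt33.snoc l n a) (n + 1) where
  inl i hi := by
    rw [snoc_of_lt x A hi]
    rcases Nat.lt_succ_iff_lt_or_eq.1 hi with hi' | rfl
    · rw [snoc_of_lt l a hi']; exact h.inl i hi'
    · rw [snoc_self]; exact h1
  inr i hi := by
    rcases Nat.lt_succ_iff_lt_or_eq.1 hi with hi' | rfl
    · rw [snoc_of_lt l a hi', snoc_of_lt x A (by omega)]; exact h.inr i hi'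
    · rw [snoc_self, snoc_self]; exact h2
  ne i hi := by
    rw [snoc_of_lt x A hi]
    rcases Nat.lt_succ_iff_lt_or_eq.1 hi with hi' | rfl
    · rw [snoc_of_lt x A (by omega)]; exact h.ne i hi'
    · rw [snoc_self]; exact h3
  lne i hi := by
    rw [snoc_of_lt l a (show i < n by omega)]
    rcases Nat.lt_succ_iff_lt_or_eq.1 hi with hi' | hi'
    · rw [snoc_of_lt l a hi']; exact h.lne i hi'
    · rw [hi', snoc_self]
      have := h4 (by omega)
      rwa [show n - 1 = i by omega] at this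

variable (s)

/-- All reduced walks of `n` steps are conjugate. -/
def Trans (n : ℕ) : Prop :=
  ∀ (x : ℕ → Pt) (l : ℕ → Ln) (y : ℕ → Pt) (m : ℕ → Ln), s.IsW x l n → s.IsW y m n →
    ∃ g : X, (∀ i ≤ n, g • x i = y i) ∧ ∀ i < n, g • l i = m i

/-- An element fixing a walk of `n` steps moves a line at its end. -/
def Swap (n : ℕ) : Prop :=
  ∃ (x : ℕ → Pt) (l : ℕ → Ln) (g : X), s.IsW x l n ∧ Fix g x l n ∧
    ∃ M, s.inc (x n) M ∧ g • M ≠ M

/-- An element fixing a walk of `n` steps and a further line moves the point after it. -/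
def Flip (n : ℕ) : Prop :=
  ∃ (x : ℕ → Pt) (l : ℕ → Ln) (g : X), s.IsW x l (n + 1) ∧ Fix g x l n ∧
    g • l n = l n ∧ g • x (n + 1) ≠ x (n + 1)

variable {s}

theorem Swap.mono {n j : ℕ} (h : s.Swap n) (hj : j ≤ n) : s.Swap j := by
  obtain ⟨x, l, g, hw, hf, M, hM, hg⟩ := h
  refine ⟨fun i => x (n - j + i), fun i => l (n - j + i), g, hw.shift (by omega),
    ⟨fun i hi => hf.1 _ (by omega), fun i hi => hf.2 _ (by omega)⟩, M, ?_, hg⟩
  simpa [show n - j + j = n by omega] using hM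

theorem Flip.mono {n j : ℕ} (h : s.Flip n) (hj : j ≤ n) : s.Flip j := by
  obtain ⟨x, l, g, hw, hf, h1, h2⟩ := h
  refine ⟨fun i => x (n - j + i), fun i => l (n - j + i), g, hw.shift (by omega),
    ⟨fun i hi => hf.1 _ (by omega), fun i hi => hf.2 _ (by omega)⟩, ?_, ?_⟩
  · simpa [show n - j + j = n by omega] using h1
  · simpa [show n - j + (j + 1) = n + 1 by omega] using h2

variable (s)

theorem trans_zero : s.Trans 0 := by
  intro x l y m _ _
  obtain ⟨L, hL⟩ := s.pt_line (x 0)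
  obtain ⟨M, hM⟩ := s.pt_line (y 0)
  obtain ⟨g, hg, -⟩ := s.flag_trans hL hM
  exact ⟨g, fun i hi => by rw [Nat.le_zero.1 hi]; exact hg, fun i hi => absurd hi (Nat.not_lt_zero i)⟩

theorem flip_zero : s.Flip 0 := by
  obtain ⟨P, L, hL⟩ := s.exists_flag
  obtain ⟨t, ht, ht'⟩ := s.move_pt hL
  obtain ⟨Q, R, hQ, hR, a, b, c, -⟩ := s.line_points hL
  refine ⟨pre P fun _ => Q, fun _ => L, t,
    ⟨fun i hi => ?_, fun i hi => ?_, fun i hi => ?_, fun i hi => absurd hi (by omega)⟩,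
    ⟨fun i hi => ?_, fun i hi => absurd hi (Nat.not_lt_zero i)⟩, ht.2,
    fun e => ht' (s.mem_ql_of hL hQ a ht e)⟩
  · rw [show i = 0 by omega]; exact hL
  · rw [show i = 0 by omega]; exact hQ
  · rw [show i = 0 by omega]; exact a
  · rw [Nat.le_zero.1 hi]; exact ht.1

theorem swap_one : s.Swap 1 := by
  obtain ⟨P, L, hL⟩ := s.exists_flag
  obtain ⟨Q, R, hQ, hR, a, b, c, -⟩ := s.line_points hL
  obtain ⟨g, hg, hg'⟩ := s.exists_ql_move hL
  obtain ⟨M, N, hM, hN, d, e, f, -⟩ := s.point_lines hL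
  refine ⟨pre Q fun _ => P, fun _ => L, g,
    ⟨fun i hi => ?_, fun i hi => ?_, fun i hi => ?_, fun i hi => absurd hi (by omega)⟩,
    ⟨fun i hi => ?_, fun i hi => (mem_ql.1 hg).1⟩, M, hM,
    fun e' => hg' (s.mem_qp_of hL hM d (s.ql_le hL hg) e')⟩
  · rw [show i = 0 by omega]; exact hQ
  · rw [show i = 0 by omega]; exact hL
  · rw [show i = 0 by omega]; exact a.symm
  · rcases i with _ | i
    · exact (mem_ql.1 hg).2 Q hQ
    · rw [show i = 0 by omega]; exact (mem_ql.1 hg).2 P hL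

/-- Transitivity on walks one step longer. -/
theorem trans_succ {n : ℕ} (ht : s.Trans n) (hsw : 0 < n → s.Swap n) (hfl : s.Flip n) :
    s.Trans (n + 1) := by
  intro x l y m hx hy
  obtain ⟨g, hg1, hg2⟩ := ht x l y m (hx.of_le n.le_succ) (hy.of_le n.le_succ)
  have hgl : s.inc (y n) (g • l n) := hg1 n le_rfl ▸ s.inc_smul g (hx.inl n n.lt_succ_self)
  have hml := hy.inl n n.lt_succ_self
  -- move the last line
  obtain ⟨h, hh, hhl⟩ : ∃ h : X, Fix h y m n ∧ h • (g • l n) = m n := by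
    by_cases he : g • l n = m n
    · exact ⟨1, ⟨fun i _ => one_smul _ _, fun i _ => one_smul _ _⟩, by rw [one_smul]; exact he⟩
    rcases Nat.eq_zero_or_pos n with rfl | hn
    · obtain ⟨k, hk, hk'⟩ := s.flag_trans hgl hml
      exact ⟨k, ⟨fun i hi => by rw [Nat.le_zero.1 hi]; exact hk,
        fun i hi => absurd hi (Nat.not_lt_zero i)⟩, hk'⟩
    obtain ⟨z, o, k, hz, hk, K, hK, hkK⟩ := hsw hn
    obtain ⟨c, hc1, hc2⟩ := ht z o y m hz (hy.of_le n.le_succ)
    have hf : Fix (c * k * c⁻¹) y m n := by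
      refine ⟨fun i hi => ?_, fun i hi => ?_⟩
      · rw [← hc1 i hi]; simp [mul_smul, hk.1 i hi]
      · rw [← hc2 i hi]; simp [mul_smul, hk.2 i hi]
    have hlast : s.inc (y n) (m (n - 1)) := by
      have := hy.inr (n - 1) (by omega)
      rwa [show n - 1 + 1 = n by omega] at this
    have hfl' : c * k * c⁻¹ ∈ fl X (y n) (m (n - 1)) := ⟨hf.1 n le_rfl, hf.2 _ (by omega)⟩
    have h1 : m (n - 1) ≠ m n := by
      have := hy.lne (n - 1) (by omega)
      rwa [show n - 1 + 1 = n by omega] at this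
    have h2 : m (n - 1) ≠ g • l n := by
      rw [← hg2 (n - 1) (by omega)]
      refine Sys.smul_line_ne ?_
      have := hx.lne (n - 1) (by omega)
      rwa [show n - 1 + 1 = n by omega] at this
    refine ⟨c * k * c⁻¹, hf, s.swap_line hlast hgl hml h2 h1 he hfl' fun hq => hkK ?_⟩
    have := (mem_qp.1 hq).2 (c • K) (hc1 n le_rfl ▸ s.inc_smul c hK)
    simpa [mul_smul] using this
  have hx1 : s.inc ((h * g) • x (n + 1)) (m n) := by
    rw [← hhl, mul_smul]; exact s.inc_smul h (s.inc_smul g (hx.inr n n.lt_succ_self))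
  have hne : y n ≠ (h * g) • x (n + 1) := by
    rw [← hh.1 n le_rfl, ← hg1 n le_rfl, ← mul_smul]
    exact Sys.smul_pt_ne (hx.ne n n.lt_succ_self)
  -- move the last point
  obtain ⟨j, hj, hjm, hjp⟩ : ∃ j : X, Fix j y m n ∧ j • m n = m n ∧
      j • ((h * g) • x (n + 1)) = y (n + 1) := by
    by_cases he : (h * g) • x (n + 1) = y (n + 1)
    · exact ⟨1, ⟨fun i _ => one_smul _ _, fun i _ => one_smul _ _⟩, one_smul _ _,
        by rw [one_smul]; exact he⟩
    obtain ⟨z, o, k, hz, hk, hko, hkz⟩ := hfl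
    obtain ⟨c, hc1, hc2⟩ := ht z o y m (hz.of_le n.le_succ) (hy.of_le n.le_succ)
    -- adjust so that the line goes to `m n`
    obtain ⟨c', hc'1, hc'2, hc'3⟩ : ∃ c' : X, (∀ i ≤ n, c' • z i = y i) ∧
        (∀ i < n, c' • o i = m i) ∧ c' • o n = m n := by
      have hcl : s.inc (y n) (c • o n) := hc1 n le_rfl ▸ s.inc_smul c (hz.inl n n.lt_succ_self)
      by_cases he' : c • o n = m n
      · exact ⟨c, hc1, hc2, he'⟩
      rcases Nat.eq_zero_or_pos n with rfl | hn
      · obtain ⟨k', hk', hk''⟩ := s.flag_trans hcl hml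
        exact ⟨k' * c, fun i hi => by rw [Nat.le_zero.1 hi, mul_smul, hc1 0 le_rfl, hk'],
          fun i hi => absurd hi (Nat.not_lt_zero i), by rw [mul_smul, hk'']⟩
      obtain ⟨z', o', k', hz', hk', K, hK, hkK⟩ := hsw hn
      obtain ⟨d, hd1, hd2⟩ := ht z' o' y m hz' (hy.of_le n.le_succ)
      have hf : Fix (d * k' * d⁻¹) y m n := by
        refine ⟨fun i hi => ?_, fun i hi => ?_⟩
        · rw [← hd1 i hi]; simp [mul_smul, hk'.1 i hi]
        · rw [← hd2 i hi]; simp [mul_smul, hk'.2 i hi]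
      have hlast : s.inc (y n) (m (n - 1)) := by
        have := hy.inr (n - 1) (by omega)
        rwa [show n - 1 + 1 = n by omega] at this
      have h1 : m (n - 1) ≠ m n := by
        have := hy.lne (n - 1) (by omega)
        rwa [show n - 1 + 1 = n by omega] at this
      have h2 : m (n - 1) ≠ c • o n := by
        rw [← hc2 (n - 1) (by omega)]
        refine Sys.smul_line_ne ?_
        have := hz.lne (n - 1) (by omega)
        rwa [show n - 1 + 1 = n by omega] at this
      refine ⟨d * k' * d⁻¹ * c, fun i hi => by rw [mul_smul, hc1 i hi, hf.1 i hi],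
        fun i hi => by rw [mul_smul, hc2 i hi, hf.2 i hi], ?_⟩
      rw [mul_smul]
      refine s.swap_line hlast hcl hml h2 h1 he' ⟨hf.1 n le_rfl, hf.2 _ (by omega)⟩
        fun hq => hkK ?_
      have := (mem_qp.1 hq).2 (d • K) (hd1 n le_rfl ▸ s.inc_smul d hK)
      simpa [mul_smul] using this
    have hjl : c' * k * c'⁻¹ ∈ fl X (y n) (m n) := by
      refine ⟨?_, ?_⟩
      · show (c' * k * c'⁻¹) • y n = y n
        rw [← hc'1 n le_rfl]; simp [mul_smul, hk.1 n le_rfl]
      · show (c' * k * c'⁻¹) • m n = m n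
        rw [← hc'3]; simp [mul_smul, hko]
    refine ⟨c' * k * c'⁻¹, ⟨fun i hi => ?_, fun i hi => ?_⟩, hjl.2,
      s.swap_pt hml hx1 (hy.inr n n.lt_succ_self) hne (hy.ne n n.lt_succ_self) he hjl
        fun hq => hkz ?_⟩
    · rw [← hc'1 i hi]; simp [mul_smul, hk.1 i hi]
    · rw [← hc'2 i hi]; simp [mul_smul, hk.2 i hi]
    · have := (mem_ql.1 hq).2 (c' • z (n + 1))
        (hc'3 ▸ s.inc_smul c' (hz.inr n n.lt_succ_self))
      simpa [mul_smul] using this
  refine ⟨j * h * g, fun i hi => ?_, fun i hi => ?_⟩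
  · rcases Nat.le_succ_iff.1 hi with hi' | rfl
    · rw [mul_smul, mul_smul, hg1 i hi', hh.1 i hi', hj.1 i hi']
    · rw [mul_assoc, mul_smul, hjp]
  · rcases Nat.lt_succ_iff_lt_or_eq.1 hi with hi' | rfl
    · rw [mul_smul, mul_smul, hg2 i hi', hh.2 i hi', hj.2 i hi']
    · rw [mul_smul, mul_smul, hhl, hjm]

/-- Swaps and flips give transitivity. -/
theorem trans_of {n : ℕ} (hsw : ∀ j, 0 < j → j < n → s.Swap j) (hfl : ∀ j < n, s.Flip j) :
    s.Trans n := by
  induction n with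
  | zero => exact s.trans_zero
  | succ n ih =>
    exact s.trans_succ (ih (fun j h0 hj => hsw j h0 (by omega)) fun j hj => hfl j (by omega))
      (fun h0 => hsw n h0 n.lt_succ_self) (hfl n n.lt_succ_self)

end Sys

end CfsgLib.Goldschmidt33
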